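import Cfsg.Agent.DesignUnique.Iso
import Cfsg.Agent.Mathieu.Normalizer
import Cfsg.Agent.Mathieu.Simple
import Cfsg.Prelude.Def_Sporadic

/-! Automorphism groups of the Steiner systems on 24, 23 and 22 points. -/

set_option autoImplicit false

open scoped symmDiff Pointwise

namespace CfsgLib.DesignUnique

open Cfsg CfsgLib.Mathieu CfsgLib.Golay

section transport

variable {α β : Type*} [Fintype α] [DecidableEq α] [Fintype β] [DecidableEq β]

theorem mem_aut_iff {B : Set (Finset α)} {σ : Equiv.Perm α} :
    σ ∈ setSystemAut B ↔ ∀ b ∈ B, σ • b ∈ B := by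
  constructor
  · intro h b hb
    have := Set.smul_mem_smul_set (a := σ) hb
    rwa [MulAction.mem_stabilizer_iff.mp h] at this
  · intro h
    refine MulAction.mem_stabilizer_iff.mpr
      (Set.eq_of_subset_of_ncard_le ?_ (by rw [Set.ncard_smul_set]) (Set.toFinite _))
    rintro _ ⟨b, hb, rfl⟩
    exact h b hb

theorem smul_image (e : α ≃ β) (σ : Equiv.Perm α) (b : Finset α) :
    (e.permCongrHom σ) • b.image e = (σ • b).image e := by
  rw [Finset.smul_finset_def, Finset.smul_finset_def, Finset.image_image, Finset.image_image]
  refine Finset.image_congr fun x _ => ?_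
  simp [Equiv.permCongrHom, Equiv.Perm.smul_def]

theorem map_aut (e : α ≃ β) {B : Set (Finset α)} {S : Set (Finset β)}
    (h : (fun b => b.image e) '' B = S) :
    (setSystemAut B).map e.permCongrHom.toMonoidHom = setSystemAut S := by
  ext τ
  rw [Subgroup.mem_map]
  constructor
  · rintro ⟨σ, hσ, rfl⟩
    refine mem_aut_iff.2 fun s hs => ?_
    rw [← h] at hs ⊢
    obtain ⟨b, hb, rfl⟩ := hs
    exact ⟨σ • b, mem_aut_iff.1 hσ b hb, (smul_image e σ b).symm⟩
  · intro hτ
    refine ⟨e.permCongrHom.symm τ, mem_aut_iff.2 fun b hb => ?_, e.permCongrHom.apply_symm_apply τ⟩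
    have h1 : τ • b.image e ∈ S := mem_aut_iff.1 hτ _ (h ▸ ⟨b, hb, rfl⟩)
    rw [← h, ← e.permCongrHom.apply_symm_apply τ, smul_image] at h1
    obtain ⟨c, hc, hce⟩ := h1
    exact Finset.image_injective e.injective hce ▸ hc

theorem aut_transport (e : α ≃ β) {B : Set (Finset α)} {S : Set (Finset β)}
    (h : (fun b => b.image e) '' B = S) {G : Type*} [Group G]
    (f : setSystemAut S ≃* G) : Nonempty (setSystemAut B ≃* G) :=
  ⟨((e.permCongrHom.subgroupMap (setSystemAut B)).trans (MulEquiv.subgroupCongr (map_aut e h))).trans f⟩

theorem pretransitive_transport (e : α ≃ β) {B : Set (Finset α)} {S : Set (Finset β)}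
    (h : (fun b => b.image e) '' B = S) {k : ℕ}
    (hS : ∀ x y : Fin k ↪ β, ∃ g ∈ setSystemAut S, ∀ i, g (x i) = y i) :
    MulAction.IsMultiplyPretransitive (setSystemAut B) α k := by
  constructor
  intro x y
  obtain ⟨g, hg, hgxy⟩ := hS (x.trans e.toEmbedding) (y.trans e.toEmbedding)
  rw [← map_aut e h, Subgroup.mem_map] at hg
  obtain ⟨σ, hσ, rfl⟩ := hg
  refine ⟨⟨σ, hσ⟩, Function.Embedding.ext fun i => e.injective ?_⟩
  rw [← (show _ = e (y i) from hgxy i)]
  simp [Equiv.permCongrHom, Function.Embedding.smul_apply, Subgroup.smul_def, Equiv.Perm.smul_def]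

end transport

theorem aut_octads : setSystemAut octads = M24 := by
  ext σ
  constructor
  · intro hσ
    refine mem_M24_iff.mpr fun b hb => ?_
    have hw : ∀ b ∈ basisMasks, pop b = 8 ∧ inCode b = true := by decide +kernel
    obtain ⟨h8, hc⟩ := hw b hb
    exact (mem_octads_iff_mask.mp (mem_aut_iff.1 hσ _ (ofMask_mem_octads hc h8))).1
  · intro hσ
    exact mem_aut_iff.2 fun o ho => smul_mem_octads hσ ho

/-- Extending a permutation by the point at infinity. -/
def extOne {β : Type*} : Equiv.Perm β →* Equiv.Perm (Option β) :=
  MonoidHom.mk' (fun σ => Equiv.optionCongr σ) fun σ τ => by ext (_ | x) <;> simp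

theorem extOne_injective {β : Type*} : Function.Injective (extOne (β := β)) := fun σ τ h => by
  ext x
  simpa [extOne] using congrArg (fun f : Equiv.Perm (Option β) => f (some x)) h

theorem map_aut_std23 : (setSystemAut std23).map extOne = fixPt M24 (none : GolayPt) := by
  ext g
  rw [Subgroup.mem_map]
  constructor
  · rintro ⟨σ, hσ, rfl⟩
    refine ⟨mem_M24_of_span octList23 octSel23 (by decide +kernel) fun m hm => ?_, rfl⟩
    have hall : octList23.all (fun m => inCode m && pop m == 8 && m.testBit 23) = true := by
      decide +kernel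
    have h := List.all_eq_true.1 hall m hm
    simp only [Bool.and_eq_true, beq_iff_eq] at h
    have hnone : (none : GolayPt) ∈ ofMask m := by rw [mem_ofMask_iff]; exact h.2
    have hoe : Finset.insertNone (ofMask m).eraseNone = ofMask m := by
      rw [Finset.insertNone_eraseNone, Finset.insert_eq_of_mem hnone]
    have hmem : (ofMask m).eraseNone ∈ std23 :=
      show Finset.insertNone (ofMask m).eraseNone ∈ octads by rw [hoe]; exact ofMask_mem_octads h.1.1 h.1.2
    have := mem_aut_iff.1 hσ _ hmem
    rw [← hoe, Finset.smul_finset_def,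
      image_insertNone (ofMask m).eraseNone (fun x : GolayPt => extOne σ • x) σ rfl (fun _ => rfl)]
    exact (mem_octads_iff_mask.mp this).1
  · rintro ⟨hg, hn : g none = none⟩
    have h1 : ∀ x, g (some x) = some (Equiv.removeNone g x) := fun x => by
      refine (Equiv.removeNone_some g ?_).symm
      cases hx : g (some x) with
      | none => exact absurd (g.injective (hx.trans hn.symm)) (by simp)
      | some y => exact ⟨y, rfl⟩
    refine ⟨Equiv.removeNone g, mem_aut_iff.2 fun s hs => ?_, ?_⟩
    · show Finset.insertNone ((Equiv.removeNone g : Equiv.Perm (ZMod 23)) • s) ∈ octads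
      rw [Finset.smul_finset_def,
        ← image_insertNone s (fun x : GolayPt => g • x) (fun x => (Equiv.removeNone g : Equiv.Perm (ZMod 23)) • x) hn h1]
      exact smul_mem_octads hg hs
    · ext (_ | x) : 1
      · exact hn.symm
      · exact (h1 x).symm

/-- The automorphisms of the standard S(4,7,23) as a point stabiliser. -/
noncomputable def autEquiv23 : setSystemAut std23 ≃* fixPt M24 (none : GolayPt) :=
  ((setSystemAut std23).equivMapOfInjective extOne extOne_injective).trans
    (MulEquiv.subgroupCongr map_aut_std23)

theorem trans23 (x y : Fin 4 ↪ ZMod 23) : ∃ g ∈ setSystemAut std23, ∀ i, g (x i) = y i := by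
  have hinj : ∀ z : Fin 4 ↪ ZMod 23, Function.Injective (Fin.cons none (some ∘ z) : Fin 5 → GolayPt) :=
    fun z => Fin.cons_injective_of_injective (by simp) ((Option.some_injective _).comp z.injective)
  obtain ⟨g, hg, h⟩ := exists_map_five_fun (hinj x) (hinj y)
  have hn : g none = none := by simpa using h 0
  have hmem : g ∈ fixPt M24 (none : GolayPt) := ⟨hg, hn⟩
  rw [← map_aut_std23, Subgroup.mem_map] at hmem
  obtain ⟨σ, hσ, rfl⟩ := hmem
  refine ⟨σ, hσ, fun i => ?_⟩
  have := h i.succ
  simpa [extOne] using this

/-- The two extra points. -/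
def pairInf : Finset GolayPt := {none, some 0}

theorem swapPair_not_mem : swapPair ∉ M24 := by
  rw [mem_M24_iff]; decide +kernel

/-- The stabiliser of the two extra points. -/
def pairStab : Subgroup (Equiv.Perm GolayPt) := fixSet M24 pairInf

theorem pairStab_pt {g : Equiv.Perm GolayPt} (hg : g ∈ pairStab) (x : Pt22) :
    ∃ y : Pt22, g (iota22 (some (some x))) = iota22 (some (some y)) := by
  have hx : iota22 (some (some x)) ∉ pairInf := by
    simp [pairInf, iota22, x.2]
  have hgx : g (iota22 (some (some x))) ∉ pairInf := fun h => hx (by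
    rw [← (show g • pairInf = pairInf from hg.2), ← Equiv.Perm.smul_def,
      Finset.smul_mem_smul_finset_iff] at h
    exact h)
  obtain ⟨z, hz⟩ := iota22.surjective (g (iota22 (some (some x))))
  rcases z with _ | _ | y
  · exact absurd (show g (iota22 (some (some x))) ∈ pairInf by rw [← hz]; simp [pairInf, iota22_none]) hgx
  · exact absurd (show g (iota22 (some (some x))) ∈ pairInf by rw [← hz]; simp [pairInf, iota22_some_none]) hgx
  · exact ⟨y, hz.symm⟩

/-- The action of the pair stabiliser on the 22 points, as a function. -/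
noncomputable def restrFun (g : pairStab) (x : Pt22) : Pt22 := (pairStab_pt g.2 x).choose

theorem restrFun_spec (g : pairStab) (x : Pt22) :
    (g : Equiv.Perm GolayPt) (iota22 (some (some x))) = iota22 (some (some (restrFun g x))) :=
  (pairStab_pt g.2 x).choose_spec

theorem restrFun_mul (g h : pairStab) (x : Pt22) : restrFun (g * h) x = restrFun g (restrFun h x) := by
  have h1 := restrFun_spec (g * h) x
  rw [Subgroup.coe_mul, Equiv.Perm.mul_apply, restrFun_spec h x, restrFun_spec g] at h1
  simpa using (iota22.injective h1).symm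

theorem restrFun_one (x : Pt22) : restrFun 1 x = x := by
  have h1 := restrFun_spec 1 x
  rw [Subgroup.coe_one, Equiv.Perm.one_apply] at h1
  simpa using (iota22.injective h1).symm

/-- The action of the pair stabiliser on the 22 points. -/
noncomputable def restr : pairStab →* Equiv.Perm Pt22 :=
  MonoidHom.mk' (fun g => ⟨restrFun g, restrFun g⁻¹,
      fun x => by rw [← restrFun_mul, inv_mul_cancel, restrFun_one],
      fun x => by rw [← restrFun_mul, mul_inv_cancel, restrFun_one]⟩)
    fun g h => Equiv.ext fun x => restrFun_mul g h x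

theorem restr_spec (g : pairStab) (x : Pt22) :
    (g : Equiv.Perm GolayPt) (iota22 (some (some x))) = iota22 (some (some (restr g x))) :=
  restrFun_spec g x

theorem restr_injective : Function.Injective restr := by
  refine (injective_iff_map_eq_one restr).2 fun g hg => ?_
  have hfix : ∀ p : GolayPt, p ∉ pairInf → (g : Equiv.Perm GolayPt) p = p := by
    intro p hp
    obtain ⟨z, rfl⟩ := iota22.surjective p
    rcases z with _ | _ | x
    · exact absurd (by simp [pairInf, iota22_none]) hp
    · exact absurd (by simp [pairInf, iota22_some_none]) hp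
    · rw [restr_spec, hg, Equiv.Perm.one_apply]
  have hpair : (g : Equiv.Perm GolayPt) • pairInf = pairInf := g.2.2
  have h0 : (g : Equiv.Perm GolayPt) none ∈ pairInf := by
    rw [← hpair]; exact Finset.smul_mem_smul_finset (by simp [pairInf])
  have h0' : (g : Equiv.Perm GolayPt) (some 0) ∈ pairInf := by
    rw [← hpair]; exact Finset.smul_mem_smul_finset (by simp [pairInf])
  simp only [pairInf, Finset.mem_insert, Finset.mem_singleton] at h0 h0'
  rcases h0 with h0 | h0
  · have h0'' : (g : Equiv.Perm GolayPt) (some 0) = some 0 := by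
      rcases h0' with h' | h'
      · exact absurd ((g : Equiv.Perm GolayPt).injective (h'.trans h0.symm)) (by simp)
      · exact h'
    apply Subtype.ext
    ext p : 1
    by_cases hp : p ∈ pairInf
    · simp only [pairInf, Finset.mem_insert, Finset.mem_singleton] at hp
      rcases hp with rfl | rfl <;> simpa
    · simpa using hfix p hp
  · have h0'' : (g : Equiv.Perm GolayPt) (some 0) = none := by
      rcases h0' with h' | h'
      · exact h'
      · exact absurd ((g : Equiv.Perm GolayPt).injective (h'.trans h0.symm)) (by simp)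
    refine absurd ?_ swapPair_not_mem
    have : (g : Equiv.Perm GolayPt) = swapPair := by
      ext p : 1
      by_cases hp : p ∈ pairInf
      · simp only [pairInf, Finset.mem_insert, Finset.mem_singleton] at hp
        rcases hp with rfl | rfl
        · rw [h0, Equiv.swap_apply_left]
        · rw [h0'', Equiv.swap_apply_right]
      · simp only [pairInf, Finset.mem_insert, Finset.mem_singleton, not_or] at hp
        rw [hfix p (by simp [pairInf, hp.1, hp.2]), Equiv.swap_apply_of_ne_of_ne hp.1 hp.2]
    exact this ▸ g.2.1

/-- Extending a permutation of the 22 points. -/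
noncomputable def extTwo (σ : Equiv.Perm Pt22) : Equiv.Perm GolayPt :=
  iota22.permCongr (Equiv.optionCongr (Equiv.optionCongr σ))

theorem extTwo_apply (σ : Equiv.Perm Pt22) (z : Option (Option Pt22)) :
    extTwo σ (iota22 z) = iota22 (z.map (Option.map σ)) := by
  rcases z with _ | _ | x <;> simp [extTwo]

theorem smul_addTwo (g : Equiv.Perm GolayPt) (hg : g • pairInf = pairInf) (σ : Equiv.Perm Pt22)
    (h : ∀ x, g (iota22 (some (some x))) = iota22 (some (some (σ x)))) (s : Finset Pt22) :
    g • (addTwo s).image iota22 = (addTwo (σ • s)).image iota22 := by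
  have hsplit : ∀ t : Finset Pt22, (addTwo t).image iota22 =
      pairInf ∪ t.image (fun x => iota22 (some (some x))) := by
    intro t
    ext p
    obtain ⟨z, rfl⟩ := iota22.surjective p
    rw [iota22.injective.mem_finset_image]
    rcases z with _ | _ | x
    · simp [addTwo, pairInf, iota22_none]
    · simp [addTwo, pairInf, iota22_some_none]
    · have hx : iota22 (some (some x)) ∉ pairInf := by simp [pairInf, iota22, x.2]
      simp [addTwo, hx]
      exact ⟨fun h' => h' x.1 x.2 rfl, fun h' a b e => e ▸ h'⟩
  rw [hsplit, hsplit, Finset.smul_finset_union, hg]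
  congr 1
  rw [Finset.smul_finset_def, Finset.smul_finset_def, Finset.image_image, Finset.image_image]
  exact Finset.image_congr fun x _ => h x

theorem range_restr : restr.range = setSystemAut std22 := by
  ext σ
  constructor
  · rintro ⟨g, rfl⟩
    refine mem_aut_iff.2 fun s hs => ?_
    show (addTwo (restr g • s)).image iota22 ∈ octads
    rw [← smul_addTwo g g.2.2 (restr g) (restr_spec g) s]
    exact smul_mem_octads g.2.1 hs
  · intro hσ
    set τ := extTwo σ with hτ
    have hτn : τ none = none := by rw [← iota22_none, hτ, extTwo_apply]; rfl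
    have hτ0 : τ (some 0) = some 0 := by rw [← iota22_some_none, hτ, extTwo_apply]; rfl
    have hτp : τ • pairInf = pairInf := by
      simp [pairInf, Finset.smul_finset_insert, Finset.smul_finset_singleton, hτn, hτ0]
    have hτx : ∀ x, τ (iota22 (some (some x))) = iota22 (some (some (σ x))) := fun x => by
      rw [hτ, extTwo_apply]; rfl
    have hswap : swapPair • pairInf = pairInf := by decide +kernel
    have hsx : ∀ x, (swapPair * τ) (iota22 (some (some x))) = iota22 (some (some (σ x))) := fun x => by
      rw [Equiv.Perm.mul_apply, hτx]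
      refine Equiv.swap_apply_of_ne_of_ne ?_ ?_ <;> simp [iota22, (σ x).2]
    suffices hkey : τ ∈ M24 ∨ swapPair * τ ∈ M24 by
      rcases hkey with hk | hk
      · refine ⟨⟨τ, hk, hτp⟩, Equiv.ext fun x => ?_⟩
        have := restr_spec ⟨τ, hk, hτp⟩ x
        rw [hτx] at this
        simpa using (iota22.injective this).symm
      · refine ⟨⟨_, hk, show (swapPair * τ) • pairInf = pairInf by rw [mul_smul, hτp, hswap]⟩,
          Equiv.ext fun x => ?_⟩
        have := restr_spec ⟨_, hk, show (swapPair * τ) • pairInf = pairInf by rw [mul_smul, hτp, hswap]⟩ x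
        rw [hsx] at this
        simpa using (iota22.injective this).symm
    -- octads through both points are permuted
    have hL : ∀ m ∈ octList22,
        ofMask m ∈ octads ∧ (none : GolayPt) ∈ ofMask m ∧ (some 0 : GolayPt) ∈ ofMask m := by
      intro m hm
      have hall : octList22.all (fun m => inCode m && pop m == 8 && m.testBit 23 && m.testBit 0) =
          true := by decide +kernel
      have h := List.all_eq_true.1 hall m hm
      simp only [Bool.and_eq_true, beq_iff_eq] at h
      exact ⟨ofMask_mem_octads h.1.1.1 h.1.1.2, by rw [mem_ofMask_iff]; exact h.1.2,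
        by rw [mem_ofMask_iff]; exact h.2⟩
    have hthrough : ∀ (π : Equiv.Perm Pt22), π ∈ setSystemAut std22 → ∀ o ∈ octads,
        (none : GolayPt) ∈ o → (some 0 : GolayPt) ∈ o → extTwo π • o ∈ octads := by
      intro π hπ o ho hn h0
      set s : Finset Pt22 := (o.image iota22.symm).eraseNone.eraseNone with hs
      have hmem : ∀ p, p ∈ o.image iota22.symm ↔ iota22 p ∈ o := fun p => by
        rw [Finset.mem_image]
        exact ⟨fun ⟨q, hq, e⟩ => by rw [← e, iota22.apply_symm_apply]; exact hq,
          fun hq => ⟨_, hq, iota22.symm_apply_apply p⟩⟩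
      have hso : (addTwo s).image iota22 = o := by
        ext p
        obtain ⟨z, rfl⟩ := iota22.surjective p
        rw [iota22.injective.mem_finset_image]
        rcases z with _ | _ | x
        · exact iff_of_true (by simp [addTwo]) (by rw [iota22_none]; exact hn)
        · exact iff_of_true (by simp [addTwo]) (by rw [iota22_some_none]; exact h0)
        · simp [addTwo, hs, hmem]
      have hsin : s ∈ std22 := show (addTwo s).image iota22 ∈ octads by rw [hso]; exact ho
      have hp : extTwo π • pairInf = pairInf := by
        have e1 : extTwo π none = none := by rw [← iota22_none, extTwo_apply]; rfl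
        have e2 : extTwo π (some 0) = some 0 := by rw [← iota22_some_none, extTwo_apply]; rfl
        simp [pairInf, Finset.smul_finset_insert, Finset.smul_finset_singleton, e1, e2]
      rw [← hso, smul_addTwo _ hp π (fun x => by rw [extTwo_apply]; rfl)]
      exact mem_aut_iff.1 hπ s hsin
    have hinv : extTwo σ⁻¹ = τ⁻¹ := by
      refine eq_inv_of_mul_eq_one_left (Equiv.ext fun p => ?_)
      obtain ⟨z, rfl⟩ := iota22.surjective p
      rw [Equiv.Perm.mul_apply, hτ, extTwo_apply, extTwo_apply, Equiv.Perm.one_apply]
      congr 1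
      rcases z with _ | _ | x <;> simp
    set w := ofMask octExtra22 with hw
    have hwoct : w ∈ octads := ofMask_mem_octads (by decide +kernel) (by decide +kernel)
    have hwnone : (none : GolayPt) ∈ w := by rw [hw, mem_ofMask_iff]; decide +kernel
    have hw0 : (some 0 : GolayPt) ∉ w := by rw [hw, mem_ofMask_iff]; decide +kernel
    have hor : ∀ ρ : Equiv.Perm GolayPt, (∀ m ∈ octList22, inCode (toMask (ρ • ofMask m)) = true) →
        inCode (toMask (ρ • w)) = true → ρ ∈ M24 := by
      intro ρ h1 h2
      refine mem_M24_of_span (octList22 ++ [octExtra22]) octSel22 (by decide +kernel) fun m hm => ?_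
      rcases List.mem_append.1 hm with hm | hm
      · exact h1 m hm
      · rw [List.mem_singleton] at hm; subst hm; exact h2
    have himg : ∀ m ∈ octList22, τ • ofMask m ∈ octads ∧ none ∈ τ • ofMask m ∧ some 0 ∈ τ • ofMask m :=
      fun m hm => ⟨hthrough σ hσ _ (hL m hm).1 (hL m hm).2.1 (hL m hm).2.2,
        by rw [← hτn]; exact Finset.smul_mem_smul_finset (hL m hm).2.1,
        by rw [← hτ0]; exact Finset.smul_mem_smul_finset (hL m hm).2.2⟩
    have hswap_fix : ∀ o : Finset GolayPt, none ∈ o → some 0 ∈ o → swapPair • o = o := by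
      intro o h1 h2
      ext p
      rw [← Finset.inv_smul_mem_iff, Equiv.Perm.smul_def, Equiv.swap_inv]
      by_cases e1 : p = none
      · subst e1; simp [h1, h2]
      by_cases e2 : p = some 0
      · subst e2; simp [h1, h2]
      · rw [Equiv.swap_apply_of_ne_of_ne e1 e2]
    have horth : ∀ m ∈ octList22, Even ((τ • w) ∩ ofMask m).card := by
      intro m hm
      have ho := hthrough σ⁻¹ ((setSystemAut std22).inv_mem hσ) _ (hL m hm).1 (hL m hm).2.1 (hL m hm).2.2
      rw [hinv] at ho
      rw [show ofMask m = τ • (τ⁻¹ • ofMask m) from (smul_inv_smul τ _).symm,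
        ← Finset.smul_finset_inter, Finset.card_smul_finset]
      exact even_card_inter hwoct.1 ho.1
    have hnone' : (none : GolayPt) ∈ τ • w := by rw [← hτn]; exact Finset.smul_mem_smul_finset hwnone
    have h0' : (some 0 : GolayPt) ∉ τ • w := by
      rw [← hτ0]; exact fun h => hw0 ((Finset.smul_mem_smul_finset_iff τ).1 h)
    have hcodeL : ∀ m ∈ octList22, inCode (toMask (τ • ofMask m)) = true :=
      fun m hm => (mem_octads_iff_mask.mp (himg m hm).1).1
    by_cases hev : Even ((τ • w) ∩ ofMask octExtra22).card
    · left
      refine hor τ hcodeL (inCode_of_orth (octList22 ++ [octExtra22]) octSel22 (by decide +kernel)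
        fun m hm => ?_)
      rcases List.mem_append.1 hm with hm | hm
      · exact horth m hm
      · rw [List.mem_singleton] at hm; subst hm; exact hev
    · right
      have hmap : (swapPair * τ) • w = (τ • w) ∆ {none, some 0} := by
        rw [mul_smul]
        ext y
        rw [← Finset.inv_smul_mem_iff, Equiv.Perm.smul_def, Equiv.swap_inv, Finset.mem_symmDiff]
        by_cases e1 : y = none
        · subst e1; simp [hnone', h0']
        by_cases e2 : y = some 0
        · subst e2; simp [hnone', h0']
        · rw [Equiv.swap_apply_of_ne_of_ne e1 e2]; simp [e1, e2]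
      refine hor _ (fun m hm => by
          rw [mul_smul, hswap_fix _ (himg m hm).2.1 (himg m hm).2.2]; exact hcodeL m hm)
        (inCode_of_orth (octList22 ++ [octExtra22]) octSel22 (by decide +kernel) fun m hm => ?_)
      rw [hmap, Finset.inter_comm, show ofMask m ∩ ((τ • w) ∆ {none, some 0}) =
        (ofMask m ∩ (τ • w)) ∆ (ofMask m ∩ {none, some 0}) from inf_symmDiff_distrib_left _ _ _]
      have hc := card_symmDiff_add (ofMask m ∩ (τ • w)) (ofMask m ∩ {none, some 0})
      rw [Finset.inter_comm (ofMask m) (τ • w)] at hc ⊢
      have hsub : (τ • w) ∩ ofMask m ∩ (ofMask m ∩ {none, some 0}) = {none} ∩ ofMask m := by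
        ext p
        simp only [Finset.mem_inter, Finset.mem_insert, Finset.mem_singleton]
        constructor
        · rintro ⟨⟨h1, h2⟩, -, rfl | rfl⟩
          · exact ⟨rfl, h2⟩
          · exact absurd h1 h0'
        · rintro ⟨rfl, h2⟩; exact ⟨⟨hnone', h2⟩, h2, Or.inl rfl⟩
      rw [hsub] at hc
      rcases List.mem_append.1 hm with hm | hm
      · have h2 : (ofMask m ∩ {none, some 0}).card = 2 := by
          rw [Finset.inter_eq_right.2 (by simp [Finset.insert_subset_iff, (hL m hm).2]),
            Finset.card_pair (by simp)]
        obtain ⟨u, hu⟩ := horth m hm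
        rw [Nat.even_iff]
        omega
      · rw [List.mem_singleton] at hm; subst hm
        have h1 : (ofMask octExtra22 ∩ {none, some 0}).card = 1 := by decide +kernel
        rw [Nat.not_even_iff] at hev
        rw [Nat.even_iff]
        omega

/-- The automorphisms of the standard S(3,6,22) as a pair stabiliser. -/
noncomputable def autEquiv22 : setSystemAut std22 ≃* pairStab :=
  ((MonoidHom.ofInjective restr_injective).trans (MulEquiv.subgroupCongr range_restr)).symm

theorem card_pairStab : Nat.card pairStab = 887040 := by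
  have h := card_eq_orbit_mul_fixPt pairStab none
  have horb : {r | ∃ g ∈ pairStab, g none = r} = (↑pairInf : Set GolayPt) := by
    ext r
    constructor
    · rintro ⟨g, hg, rfl⟩
      rw [Finset.mem_coe, ← (show g • pairInf = pairInf from hg.2)]
      exact Finset.smul_mem_smul_finset (by simp [pairInf])
    · intro hr
      simp only [pairInf, Finset.coe_insert, Finset.coe_singleton, Set.mem_insert_iff,
        Set.mem_singleton_iff] at hr
      rcases hr with rfl | rfl
      · exact ⟨1, Subgroup.one_mem _, rfl⟩
      · obtain ⟨g, hg, h1, h2⟩ := exists_map_two (a := none) (b := some 0) (c := (some 0 : GolayPt))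
          (d := none) (by simp) (by simp)
        refine ⟨g, ⟨hg, ?_⟩, h1⟩
        simp [pairInf, Finset.smul_finset_insert, Finset.smul_finset_singleton, h1, h2,
          Finset.pair_comm]
  have hfix : fixPt pairStab none = fixPt (fixPt M24 none) (some 0) := by
    ext g
    constructor
    · rintro ⟨⟨hg, hp⟩, hn : g none = none⟩
      refine ⟨⟨hg, hn⟩, ?_⟩
      have h0 : g (some 0) ∈ pairInf := by
        rw [← (show g • pairInf = pairInf from hp)]
        exact Finset.smul_mem_smul_finset (by simp [pairInf])
      simp only [pairInf, Finset.mem_insert, Finset.mem_singleton] at h0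
      rcases h0 with h0 | h0
      · exact absurd (g.injective (h0.trans hn.symm)) (by simp)
      · exact h0
    · rintro ⟨⟨hg, hn : g none = none⟩, h0 : g (some 0) = some 0⟩
      refine ⟨⟨hg, ?_⟩, hn⟩
      simp [pairInf, Finset.smul_finset_insert, Finset.smul_finset_singleton, hn, h0]
  rw [horb, hfix, card_fixPair (by simp), Set.ncard_coe_finset,
    show pairInf.card = 2 from rfl] at h
  omega

theorem trans22 (x y : Fin 3 ↪ Pt22) : ∃ g ∈ setSystemAut std22, ∀ i, g (x i) = y i := by
  have hinj : ∀ z : Fin 3 ↪ Pt22, Function.Injective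
      (Fin.cons none (Fin.cons (some 0) (fun i => iota22 (some (some (z i))))) : Fin 5 → GolayPt) := by
    intro z
    refine Fin.cons_injective_of_injective ?_ (Fin.cons_injective_of_injective ?_ ?_)
    · rintro ⟨i, hi⟩
      refine Fin.cases ?_ (fun i => ?_) i hi
      · simp
      · simp [iota22]
    · simp [iota22, (z _).2]
    · intro a b h; simpa using h
  obtain ⟨g, hg, h⟩ := exists_map_five_fun (hinj x) (hinj y)
  have hn : g none = none := by simpa using h 0
  have h0 : g (some 0) = some 0 := by simpa using h 1
  have hp : g • pairInf = pairInf := by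
    simp [pairInf, Finset.smul_finset_insert, Finset.smul_finset_singleton, hn, h0]
  refine ⟨restr ⟨g, hg, hp⟩, range_restr ▸ ⟨_, rfl⟩, fun i => ?_⟩
  have h1 := restr_spec ⟨g, hg, hp⟩ (x i)
  have h2 := h i.succ.succ
  simp only [Fin.cons_succ] at h2
  rw [h2] at h1
  simpa using (iota22.injective h1).symm

theorem exists_simple_index_two : ∃ H : Subgroup pairStab, H.index = 2 ∧ IsM22 H := by
  have hle : fixPt (fixPt M24 none) (some 0) ≤ pairStab := by
    rintro g ⟨⟨hg, hn : g none = none⟩, h0 : g (some 0) = some 0⟩
    refine ⟨hg, ?_⟩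
    simp [pairInf, Finset.smul_finset_insert, Finset.smul_finset_singleton, hn, h0]
  refine ⟨(fixPt (fixPt M24 none) (some 0)).subgroupOf pairStab, ?_, ?_, ?_⟩
  · have h := Subgroup.index_mul_card ((fixPt (fixPt M24 none) (some 0)).subgroupOf pairStab)
    rw [Nat.card_congr (Subgroup.subgroupOfEquivOfLe hle).toEquiv, card_pairStab,
      card_fixPair (by simp)] at h
    exact Nat.eq_of_mul_eq_mul_right (show 0 < 443520 by norm_num) (h.trans (by norm_num))
  · haveI := isSimpleGroup_fixPair (p := (none : GolayPt)) (q := some 0) (by simp)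
    exact MulEquiv.isSimpleGroup (H := ↥(fixPt (fixPt M24 (none : GolayPt)) (some 0)))
      (Subgroup.subgroupOfEquivOfLe hle)
  · rw [Nat.card_congr (Subgroup.subgroupOfEquivOfLe hle).toEquiv]
    exact card_fixPair (by simp)

end CfsgLib.DesignUnique
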