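import Mathlib

/-! The biplane with 11 points is unique. -/

set_option autoImplicit false

namespace CfsgLib.DesignUnique

open Finset

/-- Blocks of a standard biplane. -/
def stdBlk : Fin 11 → Finset (Fin 11) :=
  ![{0,1,2,3,4}, {0,1,7,9,10}, {2,4,7,8,10}, {3,4,5,9,10}, {0,2,5,8,9}, {0,3,6,8,10},
    {0,4,5,6,7}, {1,3,5,7,8}, {1,2,5,6,10}, {2,3,6,7,9}, {1,4,6,8,9}]

/-- The pairs in the first block. -/
def edge : Fin 10 → Fin 11 × Fin 11 :=
  ![(0,1), (0,2), (0,3), (0,4), (1,2), (1,3), (1,4), (2,3), (2,4), (3,4)]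

/-- The possible patterns of a point outside the first block. -/
def pentagons : List ℕ := [220, 234, 316, 358, 425, 453, 570, 598, 665, 707, 789, 803]

/-- The admissible sets of patterns, each with a map to the standard biplane. -/
def pentCerts : List (List ℕ × List (Fin 11)) :=
  [([220, 358, 425, 570, 707, 789], [0, 1, 2, 3, 4, 6, 8, 7, 5, 9, 10]),
   ([234, 316, 453, 598, 665, 803], [0, 1, 2, 4, 3, 8, 6, 7, 5, 10, 9])]

/-- Membership of the point `y` in the block of the pair `e` for the pattern list `l`. -/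
def inBlk (l : List ℕ) (e : Fin 10) (y : Fin 11) : Bool :=
  if y.val < 5 then decide (y = (edge e).1 ∨ y = (edge e).2) else (l.getD (y.val - 5) 0).testBit e.val

section counts

variable {α : Type*} [Fintype α] [DecidableEq α] {ι : Type*} [DecidableEq ι]

theorem sum_deg (K : ι → Finset α) (S : Finset ι) :
    ∑ y, ((S.filter fun i => y ∈ K i).card) = ∑ i ∈ S, (K i).card := by
  simp only [card_filter]
  rw [sum_comm]
  exact sum_congr rfl fun i _ => by simp

theorem sum_deg_sq (K : ι → Finset α) (S : Finset ι) :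
    ∑ y, ((S.filter fun i => y ∈ K i).card) ^ 2 = ∑ i ∈ S, ∑ j ∈ S, (K i ∩ K j).card := by
  simp only [card_filter, pow_two, sum_mul_sum]
  rw [sum_comm]
  refine sum_congr rfl fun i _ => ?_
  rw [sum_comm]
  refine sum_congr rfl fun j _ => ?_
  rw [show (K i ∩ K j).card = ∑ y, if y ∈ K i ∩ K j then 1 else 0 by
    rw [← card_filter, filter_univ_mem]]
  refine sum_congr rfl fun y _ => ?_
  by_cases h1 : y ∈ K i <;> by_cases h2 : y ∈ K j <;> simp [h1, h2]

theorem sum_inter (K : ι → Finset α) (S : Finset ι) (k l : ℕ) (hk : ∀ i ∈ S, (K i).card = k)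
    (hl : ∀ i ∈ S, ∀ j ∈ S, i ≠ j → (K i ∩ K j).card = l) :
    ∑ i ∈ S, ∑ j ∈ S, (K i ∩ K j).card = S.card * (k + (S.card - 1) * l) := by
  rw [sum_congr rfl (g := fun _ => k + (S.card - 1) * l), sum_const, smul_eq_mul]
  intro i hi
  rw [← add_sum_erase S _ hi, inter_self, hk i hi,
    sum_congr rfl (g := fun _ => l) (fun j hj => hl i hi j (mem_of_mem_erase hj)
      (ne_of_mem_erase hj).symm), sum_const, card_erase_of_mem hi, smul_eq_mul]

/-- A function with given sum and sum of squares is constant. -/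
theorem eq_of_sums {β : Type*} (s : Finset β) (f : β → ℕ) (c : ℕ)
    (h1 : ∑ y ∈ s, f y = s.card * c) (h2 : ∑ y ∈ s, f y ^ 2 = s.card * c ^ 2) :
    ∀ y ∈ s, f y = c := by
  have h : ∑ y ∈ s, ((f y : ℤ) - c) ^ 2 = 0 := by
    simp only [sub_sq, sum_add_distrib, sum_sub_distrib, sum_const, ← sum_mul, ← mul_sum]
    have e1 : (∑ y ∈ s, (f y : ℤ)) = (s.card : ℤ) * c := by exact_mod_cast h1
    have e2 : (∑ y ∈ s, (f y : ℤ) ^ 2) = (s.card : ℤ) * (c : ℤ) ^ 2 := by exact_mod_cast h2
    rw [e1, e2, nsmul_eq_mul]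
    ring
  intro y hy
  have := (sum_eq_zero_iff_of_nonneg fun y _ => sq_nonneg _).1 h y hy
  simp only [ne_eq, OfNat.ofNat_ne_zero, not_false_eq_true, pow_eq_zero_iff, sub_eq_zero] at this
  exact_mod_cast this

/-- Every point is in 5 blocks and every two points in 2. -/
theorem biplane_counts (hα : Fintype.card α = 11) (K : Fin 11 → Finset α)
    (h5 : ∀ i, (K i).card = 5) (h2 : ∀ i j, i ≠ j → (K i ∩ K j).card = 2) :
    (∀ x, (univ.filter fun i => x ∈ K i).card = 5) ∧
      ∀ x y, x ≠ y → (univ.filter fun i => x ∈ K i ∧ y ∈ K i).card = 2 := by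
  have hr : ∀ x, (univ.filter fun i => x ∈ K i).card = 5 := fun x =>
    eq_of_sums univ (fun x => (univ.filter fun i => x ∈ K i).card) 5
      (by rw [sum_deg K univ, card_univ, hα, sum_congr rfl (g := fun _ => 5) fun i _ => h5 i]; rfl)
      (by rw [sum_deg_sq K univ, sum_inter K univ 5 2 (fun i _ => h5 i) (fun i _ j _ => h2 i j),
            card_univ, card_univ, hα]; rfl) x (mem_univ x)
  refine ⟨hr, fun x y hxy => ?_⟩
  set S := univ.filter fun i => x ∈ K i with hS
  have hx : ∀ f : α → ℕ, ∑ z ∈ univ.erase x, f z = (∑ z, f z) - f x := fun f => by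
    rw [← add_sum_erase univ f (mem_univ x)]; omega
  have hxS : S.filter (fun i => x ∈ K i) = S := by
    rw [hS, filter_filter]; simp
  have := eq_of_sums (univ.erase x) (fun z => (S.filter fun i => z ∈ K i).card) 2
    (by
      rw [hx, sum_deg K S, sum_congr rfl (g := fun _ => 5) (fun i _ => h5 i), sum_const, hxS,
        hr x, card_erase_of_mem (mem_univ x), card_univ, hα]; rfl)
    (by
      rw [hx, sum_deg_sq K S, sum_inter K S 5 2 (fun i _ => h5 i) (fun i _ j _ => h2 i j), hxS,
        hr x, card_erase_of_mem (mem_univ x), card_univ, hα]; rfl)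
    y (mem_erase.2 ⟨hxy.symm, mem_univ y⟩)
  rw [← this, hS, filter_filter]

end counts

theorem biplane_unique_std (K : Fin 11 → Finset (Fin 11))
    (h5 : ∀ i, (K i).card = 5) (h2 : ∀ i j, i ≠ j → (K i ∩ K j).card = 2)
    (h0 : K 0 = {0, 1, 2, 3, 4}) :
    ∃ e : Fin 11 ≃ Fin 11, ∀ i, ∃ j, ∀ x, x ∈ K i ↔ e x ∈ stdBlk j := by
  obtain ⟨hr, hl⟩ := biplane_counts (by simp) K h5 h2
  have hedge : ∀ e : Fin 10, (edge e).1 ≠ (edge e).2 ∧ (edge e).1 ∈ ({0, 1, 2, 3, 4} : Finset (Fin 11)) ∧
      (edge e).2 ∈ ({0, 1, 2, 3, 4} : Finset (Fin 11)) := by decide +kernel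
  have hex : ∀ e : Fin 10, ∃ i, i ≠ 0 ∧ (edge e).1 ∈ K i ∧ (edge e).2 ∈ K i := by
    intro e
    obtain ⟨hne, ha, hb⟩ := hedge e
    by_contra hno
    push Not at hno
    have hsub : (univ.filter fun i => (edge e).1 ∈ K i ∧ (edge e).2 ∈ K i) ⊆ {0} := by
      intro i hi
      rw [mem_singleton]
      by_contra hi0
      exact hno i hi0 (mem_filter.1 hi).2.1 (mem_filter.1 hi).2.2
    have := card_le_card hsub
    rw [hl _ _ hne, card_singleton] at this
    omega
  choose B hB0 hBa hBb using hex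
  have hBinter : ∀ e, K (B e) ∩ {0, 1, 2, 3, 4} = {(edge e).1, (edge e).2} := by
    intro e
    refine (eq_of_subset_of_card_le ?_ ?_).symm
    · intro z hz
      simp only [mem_insert, mem_singleton] at hz
      rcases hz with rfl | rfl
      · exact mem_inter.2 ⟨hBa e, (hedge e).2.1⟩
      · exact mem_inter.2 ⟨hBb e, (hedge e).2.2⟩
    · rw [← h0, h2 _ _ (hB0 e), card_pair (hedge e).1]
  have hBinj : Function.Injective B := by
    intro e f h
    have : ({(edge e).1, (edge e).2} : Finset (Fin 11)) = {(edge f).1, (edge f).2} := by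
      rw [← hBinter, ← hBinter, h]
    have hpair : ∀ e f : Fin 10, ({(edge e).1, (edge e).2} : Finset (Fin 11)) = {(edge f).1, (edge f).2} →
        e = f := by decide +kernel
    exact hpair e f this
  have hBimg : univ.image B = univ.erase 0 := by
    refine eq_of_subset_of_card_le (fun i hi => ?_) ?_
    · obtain ⟨e, -, rfl⟩ := mem_image.1 hi
      exact mem_erase.2 ⟨hB0 e, mem_univ _⟩
    · rw [card_image_of_injective _ hBinj]; simp
  have htrans : ∀ (P : Fin 11 → Prop) [DecidablePred P], ¬ P 0 →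
      (univ.filter fun e => P (B e)).card = (univ.filter P).card := by
    intro P _ hP0
    rw [← card_image_of_injective _ hBinj]
    refine congrArg Finset.card ?_
    ext i
    simp only [mem_image, mem_filter, mem_univ, true_and]
    constructor
    · rintro ⟨e, he, rfl⟩; exact he
    · intro hi
      have : i ∈ univ.image B := hBimg ▸ mem_erase.2 ⟨fun h => hP0 (h ▸ hi), mem_univ _⟩
      obtain ⟨e, -, rfl⟩ := mem_image.1 this
      exact ⟨e, hi, rfl⟩
  let m : Fin 11 → ℕ := fun x => Nat.ofBits fun e : Fin 10 => decide (x ∈ K (B e))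
  have hbit : ∀ x (e : Fin 10), (m x).testBit e.val = true ↔ x ∈ K (B e) := by
    intro x e
    show (Nat.ofBits _).testBit e.val = true ↔ _
    rw [Nat.testBit_ofBits_lt _ e.val e.isLt]
    simp
  have hout : ∀ x : Fin 11, 5 ≤ x.val → x ∉ K 0 := by
    rw [h0]; decide +kernel
  have hpent : ∀ x : Fin 11, 5 ≤ x.val → m x ∈ pentagons := by
    intro x hx
    have hall : ∀ n < 1024, (univ.filter fun e : Fin 10 => n.testBit e.val = true).card = 5 →
        (∀ a : Fin 11, a.val < 5 → (univ.filter fun e : Fin 10 =>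
          n.testBit e.val = true ∧ (a = (edge e).1 ∨ a = (edge e).2)).card = 2) → n ∈ pentagons := by
      decide +kernel
    refine hall _ (Nat.ofBits_lt_two_pow _) ?_ fun a ha => ?_
    · rw [← hr x, ← htrans _ (hout x hx)]
      exact congrArg Finset.card (filter_congr fun e _ => hbit x e)
    · have hax : a ≠ x := fun h => by omega
      rw [← hl a x hax, ← htrans (fun i => a ∈ K i ∧ x ∈ K i) (fun h => hout x hx h.2)]
      refine congrArg Finset.card (filter_congr fun e _ => ?_)
      rw [hbit]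
      have hlow : ∀ y : Fin 11, y.val < 5 → y ∈ ({0, 1, 2, 3, 4} : Finset (Fin 11)) := by
        decide +kernel
      have h05 := hlow a ha
      constructor
      · rintro ⟨h1, h3⟩
        refine ⟨?_, h1⟩
        have : a ∈ K (B e) ∩ {0, 1, 2, 3, 4} := by
          rw [hBinter]; simpa using h3
        exact (mem_inter.1 this).1
      · rintro ⟨h1, h3⟩
        refine ⟨h3, ?_⟩
        have := mem_inter.2 ⟨h1, h05⟩
        rw [hBinter] at this
        simpa using this
  have hcommon : ∀ x y : Fin 11, 5 ≤ x.val → 5 ≤ y.val → x ≠ y →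
      (univ.filter fun e : Fin 10 => (m x).testBit e.val = true ∧ (m y).testBit e.val = true).card = 2 := by
    intro x y hx _ hxy
    rw [← hl x y hxy, ← htrans (fun i => x ∈ K i ∧ y ∈ K i) (fun h => hout x hx h.1)]
    exact congrArg Finset.card (filter_congr fun e _ => and_congr (hbit x e) (hbit y e))
  have hinj : ∀ x y : Fin 11, 5 ≤ x.val → 5 ≤ y.val → m x = m y → x = y := by
    intro x y hx hy h
    by_contra hxy
    have h2' := hcommon x y hx hy hxy
    rw [h] at h2'
    simp only [and_self] at h2'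
    have h5' := hr y
    rw [← htrans _ (hout y hy)] at h5'
    rw [filter_congr (fun e _ => hbit y e), h5'] at h2'
    omega
  set P6 : Finset (Fin 11) := univ.filter fun x => 5 ≤ x.val with hP6
  set M := P6.image m with hM
  set l := pentagons.filter (fun n => decide (n ∈ M)) with hl'
  have hlM : ∀ n, n ∈ l ↔ n ∈ M := by
    intro n
    rw [hl', List.mem_filter, decide_eq_true_eq]
    refine ⟨fun h => h.2, fun h => ⟨?_, h⟩⟩
    obtain ⟨x, hx, rfl⟩ := mem_image.1 h
    exact hpent x (mem_filter.1 hx).2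
  have hlen : l.length = 6 := by
    rw [← List.toFinset_card_of_nodup ((show pentagons.Nodup by decide +kernel).filter _),
      show l.toFinset = M from Finset.ext fun n => by rw [List.mem_toFinset, hlM],
      hM, card_image_of_injOn fun x hx y hy => hinj x y (mem_filter.1 hx).2 (mem_filter.1 hy).2]
    decide +kernel
  have hsearch : ∀ l ∈ pentagons.sublistsLen 6, (∀ a ∈ l, ∀ b ∈ l, a ≠ b →
      (univ.filter fun e : Fin 10 => Nat.testBit a e.val = true ∧ Nat.testBit b e.val = true).card = 2) →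
      ∃ c ∈ pentCerts, c.1 = l := by decide +kernel
  obtain ⟨⟨l', σ⟩, hc, hcl⟩ := hsearch l (List.mem_sublistsLen.2 ⟨List.filter_sublist, hlen⟩) (by
    intro a ha b hb hab
    rw [hlM] at ha hb
    obtain ⟨x, hx, rfl⟩ := mem_image.1 ha
    obtain ⟨y, hy, rfl⟩ := mem_image.1 hb
    exact hcommon x y (mem_filter.1 hx).2 (mem_filter.1 hy).2 fun h => hab (h ▸ rfl))
  dsimp only at hcl
  subst hcl
  have hcheck : ∀ c ∈ pentCerts,
      Function.Injective (fun y : Fin 11 => c.2.getD y.val 0) ∧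
      (∃ j, ∀ y : Fin 11, y ∈ ({0, 1, 2, 3, 4} : Finset (Fin 11)) ↔ c.2.getD y.val 0 ∈ stdBlk j) ∧
      ∀ e : Fin 10, ∃ j, ∀ y : Fin 11, inBlk c.1 e y = true ↔ c.2.getD y.val 0 ∈ stdBlk j := by
    decide +kernel
  obtain ⟨hσ, ⟨j₀, hj₀⟩, hblk⟩ := hcheck _ hc
  have hidx : ∀ x : Fin 11, 5 ≤ x.val → l.idxOf (m x) < 6 := fun x hx => by
    rw [← hlen]
    exact List.idxOf_lt_length_iff.2 ((hlM _).2 (mem_image_of_mem m (mem_filter.2 ⟨mem_univ x, hx⟩)))
  let τ : Fin 11 → Fin 11 := fun x =>
    if h : 5 ≤ x.val then ⟨5 + l.idxOf (m x), by have := hidx x h; omega⟩ else x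
  have hτlo : ∀ x : Fin 11, x.val < 5 → τ x = x := fun x hx => dif_neg (by omega)
  have hτhi : ∀ x : Fin 11, 5 ≤ x.val → (τ x).val = 5 + l.idxOf (m x) := fun x hx => by
    show (dite _ _ _ : Fin 11).val = _
    rw [dif_pos hx]
  have hget : ∀ x : Fin 11, 5 ≤ x.val → l.getD ((τ x).val - 5) 0 = m x := fun x hx => by
    have h6 := hidx x hx
    rw [hτhi x hx, Nat.add_sub_cancel_left, List.getD_eq_getElem _ _ (by omega), List.getElem_idxOf]
  have hτinj : Function.Injective τ := by
    intro x y h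
    by_cases hx : 5 ≤ x.val <;> by_cases hy : 5 ≤ y.val
    · refine hinj x y hx hy ?_
      rw [← hget x hx, ← hget y hy, h]
    · have := hτhi x hx; rw [h, hτlo y (by omega)] at this; omega
    · have := hτhi y hy; rw [← h, hτlo x (by omega)] at this; omega
    · rwa [hτlo x (by omega), hτlo y (by omega)] at h
  refine ⟨Equiv.ofBijective _ (Finite.injective_iff_bijective.1 (hσ.comp hτinj)), fun i => ?_⟩
  by_cases hi : i = 0
  · subst hi
    refine ⟨j₀, fun x => ?_⟩
    show _ ↔ σ.getD (τ x).val 0 ∈ stdBlk j₀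
    rw [← hj₀, h0]
    have h05 : ∀ y : Fin 11, y ∈ ({0, 1, 2, 3, 4} : Finset (Fin 11)) ↔ y.val < 5 := by decide +kernel
    rw [h05, h05]
    by_cases hx : 5 ≤ x.val
    · have := hτhi x hx; omega
    · rw [hτlo x (by omega)]
  · obtain ⟨e, -, rfl⟩ := mem_image.1 (show i ∈ univ.image B from hBimg ▸ mem_erase.2 ⟨hi, mem_univ _⟩)
    obtain ⟨j, hj⟩ := hblk e
    refine ⟨j, fun x => ?_⟩
    show _ ↔ σ.getD (τ x).val 0 ∈ stdBlk j
    rw [← hj, inBlk]
    by_cases hx : 5 ≤ x.val
    · rw [if_neg (by have := hτhi x hx; omega), hget x hx, hbit]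
    · rw [hτlo x (by omega), if_pos (by omega), decide_eq_true_eq]
      have hx5 : x ∈ ({0, 1, 2, 3, 4} : Finset (Fin 11)) := by
        have h05 : ∀ y : Fin 11, y.val < 5 → y ∈ ({0, 1, 2, 3, 4} : Finset (Fin 11)) := by decide +kernel
        exact h05 x (by omega)
      constructor
      · intro h
        have := mem_inter.2 ⟨h, hx5⟩
        rw [hBinter] at this
        simpa using this
      · rintro (rfl | rfl)
        exacts [hBa e, hBb e]

/-- Any family of eleven 5-subsets of eleven points meeting pairwise in two points is a copy of the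
standard biplane. -/
theorem biplane_unique {α : Type*} [Fintype α] [DecidableEq α] (hα : Fintype.card α = 11)
    (K : Fin 11 → Finset α) (h5 : ∀ i, (K i).card = 5)
    (h2 : ∀ i j, i ≠ j → (K i ∩ K j).card = 2) :
    ∃ e : α ≃ Fin 11, ∀ i, ∃ j, ∀ x, x ∈ K i ↔ e x ∈ stdBlk j := by
  have e5 : {x // x ∈ K 0} ≃ Fin 5 := Fintype.equivFinOfCardEq (by rw [Fintype.card_coe, h5 0])
  have e6 : {x // x ∉ K 0} ≃ Fin 6 := Fintype.equivFinOfCardEq (by
    rw [Fintype.card_subtype_compl, Fintype.card_coe, h5 0, hα])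
  let φ : α ≃ Fin 11 :=
    ((Equiv.sumCompl fun x => x ∈ K 0).symm.trans (Equiv.sumCongr e5 e6)).trans finSumFinEquiv
  have hφ : ∀ x, x ∈ K 0 ↔ (φ x).val < 5 := by
    intro x
    by_cases hx : x ∈ K 0
    · simp only [φ, Equiv.trans_apply, Equiv.sumCompl_symm_apply_of_pos hx, Equiv.sumCongr_apply,
        Sum.map_inl, hx, true_iff]
      exact (e5 ⟨x, hx⟩).isLt
    · simp only [φ, Equiv.trans_apply, Equiv.sumCompl_symm_apply_of_neg hx, Equiv.sumCongr_apply,
        Sum.map_inr, hx, false_iff]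
      exact Nat.not_lt.2 (Nat.le_add_right 5 (e6 ⟨x, hx⟩).val)
  have h0 : (K 0).image φ = {0, 1, 2, 3, 4} := by
    refine eq_of_subset_of_card_le ?_ (by rw [card_image_of_injective _ φ.injective, h5 0]; decide +kernel)
    intro y hy
    obtain ⟨x, hx, rfl⟩ := mem_image.1 hy
    have h05 : ∀ y : Fin 11, y.val < 5 → y ∈ ({0, 1, 2, 3, 4} : Finset (Fin 11)) := by decide +kernel
    exact h05 _ ((hφ x).1 hx)
  obtain ⟨e, he⟩ := biplane_unique_std (fun i => (K i).image φ)
    (fun i => by rw [card_image_of_injective _ φ.injective, h5 i])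
    (fun i j hij => by rw [← image_inter _ _ φ.injective, card_image_of_injective _ φ.injective, h2 i j hij])
    h0
  refine ⟨φ.trans e, fun i => ?_⟩
  obtain ⟨j, hj⟩ := he i
  exact ⟨j, fun x => by rw [Equiv.trans_apply, ← hj, φ.injective.mem_finset_image]⟩

end CfsgLib.DesignUnique
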