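import Cfsg.Agent.DesignUnique.Biplane
import Cfsg.Agent.Designs.SelfDual24
import Cfsg.Agent.Golay.Weights

/-! The binary [24,12,8] code is unique. -/

set_option autoImplicit false

open scoped symmDiff

namespace CfsgLib.DesignUnique

open Cfsg Finset
open CfsgLib.SelfDual24 (sets Hyp mem_sets word supp)

/-- Positions of the biplane points. -/
def innerPos : Fin 11 → Fin 24 := ![2, 3, 6, 8, 18, 1, 4, 9, 12, 13, 16]

/-- Positions of the biplane blocks. -/
def outerPos : Fin 11 → Fin 24 := ![7, 10, 11, 14, 15, 17, 19, 20, 21, 22, 23]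

/-- The mask of the standard dodecad. -/
def maskStd : ℕ := 340831

/-- The standard generator attached to a block. -/
def genStd (j : Fin 11) : ℕ :=
  Nat.ofBits fun k : Fin 24 => decide (k = 0 ∨ k = 5 ∨ k = outerPos j ∨ ∃ x ∈ stdBlk j, innerPos x = k)

theorem std_facts :
    Golay.inCode maskStd = true ∧ (∀ j, Golay.inCode (genStd j) = true) ∧
    maskStd.testBit (0 : Fin 24).val = true ∧ maskStd.testBit (5 : Fin 24).val = false ∧
    (∀ k, maskStd.testBit (innerPos k).val = true) ∧ (∀ k, maskStd.testBit (outerPos k).val = false) ∧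
    (∀ j, (genStd j).testBit (0 : Fin 24).val = true) ∧
    (∀ j, (genStd j).testBit (5 : Fin 24).val = true) ∧
    (∀ j k, (genStd j).testBit (innerPos k).val = true ↔ k ∈ stdBlk j) ∧
    (∀ j k, (genStd j).testBit (outerPos k).val = true ↔ k = j) ∧
    Function.Injective innerPos ∧ Function.Injective outerPos ∧
    (∀ k l, innerPos k ≠ outerPos l) ∧ (∀ k, innerPos k ≠ 0 ∧ innerPos k ≠ 5) ∧
    (∀ k, outerPos k ≠ 0 ∧ outerPos k ≠ 5) := by
  decide +kernel

variable {C : Submodule (ZMod 2) (Fin 24 → ZMod 2)}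

theorem inter_symmDiff (s t u : Finset (Fin 24)) : (s ∆ t) ∩ u = (s ∩ u) ∆ (t ∩ u) := by
  ext a
  simp only [mem_inter, mem_symmDiff]
  constructor
  · rintro ⟨⟨h1, h2⟩ | ⟨h1, h2⟩, h3⟩
    · exact Or.inl ⟨⟨h1, h3⟩, fun h => h2 h.1⟩
    · exact Or.inr ⟨⟨h1, h3⟩, fun h => h2 h.1⟩
  · rintro (⟨⟨h1, h3⟩, h2⟩ | ⟨⟨h1, h3⟩, h2⟩)
    · exact ⟨Or.inl ⟨h1, fun h => h2 ⟨h, h3⟩⟩, h3⟩
    · exact ⟨Or.inr ⟨h1, fun h => h2 ⟨h, h3⟩⟩, h3⟩

theorem univ_mem_sets (h : Hyp C) : (univ : Finset (Fin 24)) ∈ sets C := by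
  refine mem_sets.2 (h.mem_of_orth fun v hv _ => ?_)
  rw [SelfDual24.dot_eq, SelfDual24.supp_word, univ_inter, ZMod.natCast_eq_zero_iff_even]
  exact h.even_card (SelfDual24.supp_mem_sets.2 hv)

theorem exists_dodecad (h : Hyp C) : ∃ D ∈ sets C, D.card = 12 := by
  obtain ⟨b, ⟨hb, -⟩, -⟩ := h.steiner {0, 1, 2, 3, 4} (by decide)
  rw [mem_filter] at hb
  obtain ⟨P, hP, hPc⟩ := exists_subset_card_eq (show 2 ≤ b.card by omega)
  set F := (sets C).filter fun b => b.card = 8 with hF
  have h77 : (F.filter (P ⊆ ·)).card = 77 := h.card_octads_through P 77 (by omega) (by rw [hPc]; decide)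
  set Rs := (b \ P).powersetCard 2 with hRs
  have hRcard : Rs.card = 15 := by
    rw [hRs, card_powersetCard, card_sdiff_of_subset hP, hb.2, hPc]; rfl
  have hsmall : ∀ R ∈ Rs, ((F.filter (P ∪ R ⊆ ·)).erase b).card = 4 := by
    intro R hR
    obtain ⟨hRsub, hR2⟩ := mem_powersetCard.1 hR
    have h4 : (P ∪ R).card = 4 := by
      rw [card_union_of_disjoint (disjoint_left.2 fun x hx hx' => (mem_sdiff.1 (hRsub hx')).2 hx)]
      omega
    have h5 : (F.filter (P ∪ R ⊆ ·)).card = 5 :=
      h.card_octads_through (P ∪ R) 5 (by omega) (by rw [h4]; decide)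
    rw [card_erase_of_mem, h5]
    exact mem_filter.2 ⟨mem_filter.2 hb, union_subset hP (hRsub.trans sdiff_subset)⟩
  have hex : ∃ c ∈ F.filter (P ⊆ ·), (b ∩ c).card = 2 := by
    by_contra hno
    push Not at hno
    have hsub : F.filter (P ⊆ ·) ⊆
        insert b (Rs.biUnion fun R => (F.filter (P ∪ R ⊆ ·)).erase b) := by
      intro c hc
      rw [mem_insert]
      by_cases hcb : c = b
      · exact Or.inl hcb
      right
      obtain ⟨hcF, hPcs⟩ := mem_filter.1 hc
      have hc8 := mem_filter.1 hcF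
      have hPbc : P ⊆ b ∩ c := subset_inter hP hPcs
      obtain ⟨t, ht⟩ := h.even_inter hb.1 hc8.1
      have h2 := card_le_card hPbc
      have hne := hno c hc
      obtain ⟨R, hR, hR2⟩ := exists_subset_card_eq (show 2 ≤ ((b ∩ c) \ P).card by
        rw [card_sdiff_of_subset hPbc]; omega)
      exact mem_biUnion.2 ⟨R, mem_powersetCard.2 ⟨hR.trans (sdiff_subset_sdiff inter_subset_left le_rfl), hR2⟩,
        mem_erase.2 ⟨hcb, mem_filter.2 ⟨hcF, union_subset hPcs
          ((hR.trans sdiff_subset).trans inter_subset_right)⟩⟩⟩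
    have := (card_le_card hsub).trans ((card_insert_le _ _).trans
      (Nat.add_le_add_right (card_biUnion_le.trans (le_of_eq (sum_congr rfl hsmall))) 1))
    rw [sum_const, hRcard, h77, smul_eq_mul] at this
    omega
  obtain ⟨c, hc, h2⟩ := hex
  obtain ⟨hc1, hc8⟩ := mem_filter.1 (mem_filter.1 hc).1
  refine ⟨b ∆ c, SelfDual24.symmDiff_mem hb.1 hc1, ?_⟩
  have := SelfDual24.card_symmDiff_add b c
  omega

section coords

variable {D : Finset (Fin 24)}

theorem eq_empty_or_dodecad (h : Hyp C) (hD : D ∈ sets C) (hDc : D.card = 12) {s : Finset (Fin 24)}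
    (hs : s ∈ sets C) (hsD : s ⊆ D) : s = ∅ ∨ s = D := by
  rcases h.eq_empty_or hs with e | e
  · exact Or.inl e
  rcases h.eq_empty_or (SelfDual24.symmDiff_mem hs hD) with e' | e'
  · exact Or.inr (symmDiff_eq_bot.1 e')
  · exfalso
    have := SelfDual24.card_symmDiff_add s D
    rw [inter_eq_left.2 hsD] at this
    omega

theorem six_inside (h : Hyp C) (hD : D ∈ sets C) (hDc : D.card = 12) {c : Finset (Fin 24)}
    (hc : c ∈ sets C) (h2 : (c ∩ Dᶜ).card = 2) : (c ∩ D).card = 6 := by
  have hsplit : c.card = (c ∩ D).card + (c ∩ Dᶜ).card := by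
    rw [← card_sdiff_add_card_inter c D, add_comm, sdiff_eq_inter_compl]
  have h1 := SelfDual24.card_symmDiff_add c D
  rcases h.eq_empty_or hc with rfl | e
  · simp at h2
  rcases h.eq_empty_or (SelfDual24.symmDiff_mem hc hD) with e' | e'
  · have := symmDiff_eq_bot.1 e'
    subst this
    simp at h2
  · omega

theorem exists_pair_word (h : Hyp C) (hD : D ∈ sets C) (hDc : D.card = 12) {a b : Fin 24}
    (ha : a ∈ Dᶜ) (hb : b ∈ Dᶜ) (hab : a ≠ b) : ∃ c ∈ sets C, c ∩ Dᶜ = {a, b} := by
  have hO : Dᶜ.card = 12 := by rw [card_compl, Fintype.card_fin, hDc]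
  have heven : ∀ c ∈ sets C, Even (c ∩ Dᶜ).card := by
    intro c hc
    refine h.even_inter hc ?_
    have := SelfDual24.symmDiff_mem (univ_mem_sets h) hD
    rwa [show (univ : Finset (Fin 24)) ∆ D = Dᶜ by
      ext x; simp [mem_symmDiff]] at this
  set I := (sets C).image fun c => c ∩ Dᶜ with hI
  have himg : 2048 ≤ I.card := by
    have hle := card_le_mul_card_image (f := fun c => c ∩ Dᶜ) (sets C) 2 (fun t ht => by
      obtain ⟨c, hc, rfl⟩ := mem_image.1 ht
      refine le_trans (card_le_card (t := {c, c ∆ D}) ?_) card_le_two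
      intro c' hc'
      obtain ⟨hc'C, he⟩ := mem_filter.1 hc'
      rw [mem_insert, mem_singleton]
      have hsub : c ∆ c' ⊆ D := by
        intro x hx
        by_contra hxD
        have h1 : x ∈ (c ∆ c') ∩ Dᶜ := mem_inter.2 ⟨hx, mem_compl.2 hxD⟩
        rw [inter_symmDiff, he, symmDiff_self] at h1
        exact notMem_empty _ h1
      rcases eq_empty_or_dodecad h hD hDc (SelfDual24.symmDiff_mem hc hc'C) hsub with e | e
      · exact Or.inl (symmDiff_eq_bot.1 e).symm
      · right; rw [← e, symmDiff_symmDiff_cancel_left])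
    rw [h.card_sets, ← hI] at hle
    omega
  by_contra hno
  push Not at hno
  have hP : ({a, b} : Finset (Fin 24)) ∉ I := fun hP => by
    obtain ⟨c, hc, e⟩ := mem_image.1 hP
    exact hno c hc e
  set E := insert {a, b} I with hE
  have hEeven : ∀ t ∈ E, Even t.card ∧ t ⊆ Dᶜ := by
    intro t ht
    rcases mem_insert.1 ht with rfl | ht
    · exact ⟨by rw [card_pair hab]; decide, insert_subset ha (singleton_subset_iff.2 hb)⟩
    · obtain ⟨c, hc, rfl⟩ := mem_image.1 ht
      exact ⟨heven c hc, inter_subset_right⟩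
  have hsub : E ∪ E.image (fun t => t ∆ {a}) ⊆ Dᶜ.powerset := by
    intro t ht
    rw [mem_powerset]
    rcases mem_union.1 ht with ht | ht
    · exact (hEeven t ht).2
    · obtain ⟨t', ht', rfl⟩ := mem_image.1 ht
      intro x hx
      rcases mem_symmDiff.1 hx with ⟨hx, -⟩ | ⟨hx, -⟩
      · exact (hEeven t' ht').2 hx
      · exact mem_singleton.1 hx ▸ ha
  have hdis : Disjoint E (E.image fun t => t ∆ {a}) := by
    rw [disjoint_left]
    intro t ht ht2
    obtain ⟨t', ht', rfl⟩ := mem_image.1 ht2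
    have h1 := SelfDual24.card_symmDiff_add t' {a}
    obtain ⟨u, hu⟩ := (hEeven _ ht').1
    obtain ⟨v, hv⟩ := (hEeven _ ht).1
    rw [card_singleton] at h1
    omega
  have := card_le_card hsub
  rw [card_union_of_disjoint hdis, card_image_of_injective _ (symmDiff_left_injective _),
    card_powerset, hO, hE, card_insert_of_notMem hP] at this
  omega

end coords

/-- Any binary [24,12,8] self-orthogonal code is a copy of the Golay code. -/
theorem exists_equiv_golay (h : Hyp C) :
    ∃ e : Fin 24 ≃ GolayPt, ∀ s : Finset (Fin 24), s ∈ sets C ↔ s.image e ∈ Golay.codeSets := by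
  obtain ⟨D, hD, hDc⟩ := exists_dodecad h
  obtain ⟨p, hp⟩ := card_pos.1 (show 0 < D.card by omega)
  have hO : Dᶜ.card = 12 := by rw [card_compl, Fintype.card_fin, hDc]
  obtain ⟨q, hq⟩ := card_pos.1 (show 0 < Dᶜ.card by omega)
  let idxO : {x // x ∈ Dᶜ.erase q} ≃ Fin 11 :=
    Fintype.equivFinOfCardEq (by rw [Fintype.card_coe, card_erase_of_mem hq, hO])
  have hword : ∀ i : Fin 11, ∃ c ∈ sets C, p ∈ c ∧ c ∩ Dᶜ = {q, (idxO.symm i : Fin 24)} := by
    intro i
    obtain ⟨hne, hmem⟩ := mem_erase.1 (idxO.symm i).2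
    obtain ⟨c, hc, e⟩ := exists_pair_word h hD hDc hq hmem (Ne.symm hne)
    by_cases hpc : p ∈ c
    · exact ⟨c, hc, hpc, e⟩
    · refine ⟨c ∆ D, SelfDual24.symmDiff_mem hc hD, mem_symmDiff.2 (Or.inr ⟨hp, hpc⟩), ?_⟩
      rw [inter_symmDiff, inter_compl, ← bot_eq_empty, symmDiff_bot, e]
  choose c hcC hcp hcO using hword
  have hsix : ∀ i, (c i ∩ D).card = 6 := fun i => six_inside h hD hDc (hcC i) (by
    rw [hcO i, card_pair (Ne.symm (mem_erase.1 (idxO.symm i).2).1)])
  have hthree : ∀ i j, i ≠ j → (c i ∩ c j ∩ D).card = 3 := by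
    intro i j hij
    have h1 : ((c i ∆ c j) ∩ Dᶜ).card = 2 := by
      have hne : (idxO.symm i : Fin 24) ≠ (idxO.symm j : Fin 24) := fun e =>
        hij (idxO.symm.injective (Subtype.ext e))
      have hqi := (mem_erase.1 (idxO.symm i).2).1
      have hqj := (mem_erase.1 (idxO.symm j).2).1
      rw [inter_symmDiff, hcO, hcO, show ({q, (idxO.symm i : Fin 24)} : Finset (Fin 24)) ∆
          {q, (idxO.symm j : Fin 24)} = {(idxO.symm i : Fin 24), (idxO.symm j : Fin 24)} by
        ext x
        simp only [mem_symmDiff, mem_insert, mem_singleton]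
        grind, card_pair hne]
    have h2 := six_inside h hD hDc (SelfDual24.symmDiff_mem (hcC i) (hcC j)) h1
    rw [inter_symmDiff] at h2
    have h3 := SelfDual24.card_symmDiff_add (c i ∩ D) (c j ∩ D)
    rw [h2, hsix, hsix, show (c i ∩ D) ∩ (c j ∩ D) = c i ∩ c j ∩ D by
      ext x; simp only [mem_inter]; grind] at h3
    omega
  let K : Fin 11 → Finset {x // x ∈ D.erase p} := fun i => (c i).subtype _
  have hK5 : ∀ i, (K i).card = 5 := fun i => by
    rw [card_subtype, show (c i).filter (fun x => x ∈ D.erase p) = (c i ∩ D).erase p by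
      ext x; simp only [mem_filter, mem_erase, mem_inter]; grind,
      card_erase_of_mem (mem_inter.2 ⟨hcp i, hp⟩), hsix]
  have hK2 : ∀ i j, i ≠ j → (K i ∩ K j).card = 2 := fun i j hij => by
    rw [show K i ∩ K j = (c i ∩ c j).subtype _ by ext x; simp [K], card_subtype,
      show (c i ∩ c j).filter (fun x => x ∈ D.erase p) = (c i ∩ c j ∩ D).erase p by
        ext x; simp only [mem_filter, mem_erase, mem_inter]; grind,
      card_erase_of_mem (mem_inter.2 ⟨mem_inter.2 ⟨hcp i, hcp j⟩, hp⟩), hthree i j hij]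
  obtain ⟨ψ, hψ⟩ := biplane_unique (by rw [Fintype.card_coe, card_erase_of_mem hp, hDc]) K hK5 hK2
  choose J hJ using hψ
  have hJinj : Function.Injective J := by
    intro i j e
    by_contra hij
    have hKK : K i = K j := Finset.ext fun x => (hJ i x).trans (e ▸ (hJ j x).symm)
    have := hK2 i j hij
    rw [hKK, inter_self, hK5] at this
    omega
  obtain ⟨hmD, hgen, hD0, hD5, hDi, hDo, hg0, hg5, hgi, hgo, hii, hoi, hio, hi05, ho05⟩ := std_facts
  let f : Fin 24 → Fin 24 := fun x =>
    if hx : x ∈ D.erase p then innerPos (ψ ⟨x, hx⟩)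
    else if hx' : x ∈ Dᶜ.erase q then outerPos (J (idxO ⟨x, hx'⟩))
    else if x = p then 0 else 5
  have hpq : q ≠ p := fun e => (mem_compl.1 hq) (e ▸ hp)
  have hfi : ∀ (x : Fin 24) (hx : x ∈ D.erase p), f x = innerPos (ψ ⟨x, hx⟩) := fun x hx => dif_pos hx
  have hfo : ∀ (x : Fin 24) (hx : x ∈ Dᶜ.erase q), f x = outerPos (J (idxO ⟨x, hx⟩)) := fun x hx => by
    show dite _ _ _ = _
    rw [dif_neg (fun h' => mem_compl.1 (mem_of_mem_erase hx) (mem_of_mem_erase h')), dif_pos hx]
  have hfp : f p = 0 := by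
    show dite _ _ _ = _
    rw [dif_neg (notMem_erase p D), dif_neg (fun h' => mem_compl.1 (mem_of_mem_erase h') hp), if_pos rfl]
  have hfq : f q = 5 := by
    show dite _ _ _ = _
    rw [dif_neg (fun h' => mem_compl.1 hq (mem_of_mem_erase h')), dif_neg (notMem_erase q _), if_neg hpq]
  have hcases : ∀ x, x = p ∨ x = q ∨ x ∈ D.erase p ∨ x ∈ Dᶜ.erase q := by
    intro x
    simp only [mem_erase, mem_compl]
    by_cases h1 : x ∈ D <;> by_cases h2 : x = p <;> by_cases h3 : x = q <;> simp [h1, h2, h3]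
  have hfinj : Function.Injective f := by
    intro x y e
    rcases hcases x with rfl | rfl | hx | hx <;> rcases hcases y with rfl | rfl | hy | hy <;>
      try simp only [hfp, hfq] at e
    all_goals first
      | rfl
      | exact absurd e (by decide)
      | (rw [hfi _ hy] at e; first
          | exact absurd e.symm (hi05 _).1
          | exact absurd e.symm (hi05 _).2
          | (rw [hfi _ hx] at e; exact congrArg Subtype.val (ψ.injective (hii e)))
          | (rw [hfo _ hx] at e; exact absurd e.symm (hio _ _)))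
      | (rw [hfo _ hy] at e; first
          | exact absurd e.symm (ho05 _).1
          | exact absurd e.symm (ho05 _).2
          | (rw [hfi _ hx] at e; exact absurd e (hio _ _))
          | (rw [hfo _ hx] at e; exact congrArg Subtype.val (idxO.injective (hJinj (hoi e)))))
      | (rw [hfi _ hx] at e; first
          | exact absurd e (hi05 _).1
          | exact absurd e (hi05 _).2)
      | (rw [hfo _ hx] at e; first
          | exact absurd e (ho05 _).1
          | exact absurd e (ho05 _).2)
  let e : Fin 24 ≃ GolayPt :=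
    (Equiv.ofBijective f (Finite.injective_iff_bijective.1 hfinj)).trans Golay.ptEquiv
  have hmask : ∀ (s : Finset (Fin 24)) (m : ℕ), Golay.inCode m = true →
      (∀ x, x ∈ s ↔ m.testBit (f x).val = true) → s.image e ∈ Golay.codeSets := by
    intro s m hm hiff
    rw [Golay.codeSets_eq, mem_image]
    refine ⟨m, List.mem_toFinset.2 (Golay.mem_codeMasks.2 hm), ?_⟩
    ext y
    obtain ⟨x, rfl⟩ := e.surjective y
    rw [Golay.mem_ofMask, e.injective.mem_finset_image, hiff,
      show Golay.idx (e x) = f x from Golay.idx_pt (f x)]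
  have hDimg : D.image e ∈ Golay.codeSets := hmask D maskStd hmD fun x => by
    rcases hcases x with rfl | rfl | hx | hx
    · rw [hfp]; exact iff_of_true hp hD0
    · rw [hfq, hD5]; exact iff_of_false (mem_compl.1 hq) (by simp)
    · rw [hfi x hx]; exact iff_of_true (mem_of_mem_erase hx) (hDi _)
    · rw [hfo x hx, hDo]; exact iff_of_false (mem_compl.1 (mem_of_mem_erase hx)) (by simp)
  have hcimg : ∀ i, (c i).image e ∈ Golay.codeSets := fun i => hmask (c i) (genStd (J i)) (hgen _) fun x => by
    have hmemO : ∀ y ∈ Dᶜ, (y ∈ c i ↔ y = q ∨ y = (idxO.symm i : Fin 24)) := fun y hy => by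
      have := Finset.ext_iff.1 (hcO i) y
      simp only [mem_inter, mem_insert, mem_singleton] at this
      exact ⟨fun h' => this.1 ⟨h', hy⟩, fun h' => (this.2 h').1⟩
    rcases hcases x with rfl | rfl | hx | hx
    · rw [hfp]; exact iff_of_true (hcp i) (hg0 _)
    · rw [hfq]; exact iff_of_true ((hmemO _ hq).2 (Or.inl rfl)) (hg5 _)
    · rw [hfi x hx, hgi]
      refine Iff.trans ?_ (hJ i ⟨x, hx⟩)
      simp [K]
    · rw [hfo x hx, hgo, hmemO x (mem_of_mem_erase hx), hJinj.eq_iff]
      constructor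
      · rintro (h' | h')
        · exact absurd h' (mem_erase.1 hx).1
        · subst h'; exact idxO.apply_symm_apply i
      · intro h'
        right
        rw [← h', Equiv.symm_apply_apply]
  have hclosed : ∀ s t : Finset (Fin 24), s.image e ∈ Golay.codeSets → t.image e ∈ Golay.codeSets →
      (s ∆ t).image e ∈ Golay.codeSets := fun s t hs ht => by
    rw [image_symmDiff _ _ e.injective, Golay.mem_codeSets]
    exact Golay.symmDiff_mem (Golay.mem_codeSets.1 hs) (Golay.mem_codeSets.1 ht)
  have hall : ∀ n, ∀ s ∈ sets C, ((s ∩ Dᶜ).erase q).card = n → s.image e ∈ Golay.codeSets := by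
    intro n
    induction n using Nat.strong_induction_on with
    | _ n ih =>
      intro s hs hn
      by_cases h0 : s ∩ Dᶜ = ∅
      · rcases eq_empty_or_dodecad h hD hDc hs (fun x hx => by
          by_contra hxD
          exact notMem_empty x (h0 ▸ mem_inter.2 ⟨hx, mem_compl.2 hxD⟩)) with rfl | rfl
        · rw [image_empty, Golay.mem_codeSets]; exact Golay.empty_mem
        · exact hDimg
      · obtain ⟨y, hy⟩ : ((s ∩ Dᶜ).erase q).Nonempty := by
          rw [nonempty_iff_ne_empty]
          intro he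
          have hs1 : s ∩ Dᶜ = {q} := (erase_eq_empty_iff _ _).1 he |>.resolve_left h0
          have hcompl : Dᶜ ∈ sets C := by
            have := SelfDual24.symmDiff_mem (univ_mem_sets h) hD
            rwa [show (univ : Finset (Fin 24)) ∆ D = Dᶜ by ext x; simp [mem_symmDiff]] at this
          obtain ⟨u, hu⟩ := h.even_inter hs hcompl
          rw [hs1, card_singleton] at hu
          omega
        obtain ⟨hyq, hy'⟩ := mem_erase.1 hy
        obtain ⟨hys, hyO⟩ := mem_inter.1 hy'
        set i := idxO ⟨y, mem_erase.2 ⟨hyq, hyO⟩⟩ with hi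
        have hsym : (idxO.symm i : Fin 24) = y := by rw [hi, Equiv.symm_apply_apply]
        have hlt : (((s ∆ c i) ∩ Dᶜ).erase q).card < n := by
          rw [← hn]
          refine card_lt_card ⟨?_, fun hsub => ?_⟩
          · intro x hx
            rw [inter_symmDiff, hcO, hsym] at hx
            simp only [mem_erase, mem_symmDiff, mem_inter, mem_insert, mem_singleton] at hx ⊢
            grind
          · have := hsub hy
            rw [inter_symmDiff, hcO, hsym] at this
            simp only [mem_erase, mem_symmDiff, mem_inter, mem_insert, mem_singleton] at this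
            grind
        have := hclosed _ _ (ih _ hlt _ (SelfDual24.symmDiff_mem hs (hcC i)) rfl) (hcimg i)
        rwa [symmDiff_assoc, symmDiff_self, symmDiff_bot] at this
  refine ⟨e, fun s => ⟨fun hs => hall _ s hs rfl, fun hs => ?_⟩⟩
  have heq : (sets C).image (fun s => s.image e) = Golay.codeSets := eq_of_subset_of_card_le
    (fun t ht => by obtain ⟨u, hu, rfl⟩ := mem_image.1 ht; exact hall _ u hu rfl)
    (by rw [card_image_of_injective _ (image_injective e.injective), h.card_sets, Golay.card_codeSets])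
  rw [← heq, mem_image] at hs
  obtain ⟨u, hu, hue⟩ := hs
  exact image_injective e.injective hue ▸ hu

end CfsgLib.DesignUnique
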