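import Cfsg.Agent.DesignUnique.CodeUnique
import Cfsg.Agent.Designs.SteinerCount

/-! From families of 8-sets with even intersections to the Golay code. -/

set_option autoImplicit false

open scoped symmDiff

namespace CfsgLib.DesignUnique

open Cfsg Finset
open CfsgLib.SelfDual24 (sets Hyp mem_sets word supp)

/-- The orthogonal complement of a binary code of length 24. -/
def dualCode (C : Submodule (ZMod 2) (Fin 24 → ZMod 2)) : Submodule (ZMod 2) (Fin 24 → ZMod 2) :=
  C.dualAnnihilator.comap (dotProductEquiv (ZMod 2) (Fin 24)).toLinearMap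

theorem mem_dualCode {C : Submodule (ZMod 2) (Fin 24 → ZMod 2)} {x : Fin 24 → ZMod 2} :
    x ∈ dualCode C ↔ ∀ c ∈ C, ∑ i, x i * c i = 0 := by
  simp only [dualCode, Submodule.mem_comap, Submodule.mem_dualAnnihilator]
  rfl

theorem finrank_dualCode (C : Submodule (ZMod 2) (Fin 24 → ZMod 2)) :
    Module.finrank (ZMod 2) C + Module.finrank (ZMod 2) (dualCode C) = 24 := by
  have h := Subspace.finrank_add_finrank_dualAnnihilator_eq C
  rw [Module.finrank_fin_fun] at h
  rw [dualCode, Submodule.comap_equiv_eq_map_symm, LinearEquiv.finrank_map_eq]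
  exact h

theorem dualCode_dualCode (C : Submodule (ZMod 2) (Fin 24 → ZMod 2)) : dualCode (dualCode C) = C := by
  refine (Submodule.eq_of_le_of_finrank_eq (fun c hc => mem_dualCode.2 fun x hx => ?_) ?_).symm
  · rw [sum_congr rfl fun i _ => mul_comm (c i) (x i)]
    exact mem_dualCode.1 hx c hc
  · have := finrank_dualCode C
    have := finrank_dualCode (dualCode C)
    omega

/-- The code spanned by a family of sets. -/
def famCode (F : Finset (Finset (Fin 24))) : Submodule (ZMod 2) (Fin 24 → ZMod 2) :=
  Submodule.span (ZMod 2) (word '' (F : Set (Finset (Fin 24))))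

theorem word_mem_famCode {F : Finset (Finset (Fin 24))} {b : Finset (Fin 24)} (hb : b ∈ F) :
    word b ∈ famCode F := Submodule.subset_span ⟨b, hb, rfl⟩

theorem word_mem_dual {F : Finset (Finset (Fin 24))} {u : Finset (Fin 24)}
    (hu : ∀ b ∈ F, Even (u ∩ b).card) : word u ∈ dualCode (famCode F) := by
  rw [mem_dualCode]
  intro c hc
  rw [famCode] at hc
  induction hc using Submodule.span_induction with
  | mem v hv =>
    obtain ⟨b, hb, rfl⟩ := hv
    rw [SelfDual24.dot_eq, SelfDual24.supp_word, SelfDual24.supp_word,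
      ZMod.natCast_eq_zero_iff_even]
    exact hu b hb
  | zero => simp
  | add a b _ _ ha hb =>
    rw [sum_congr rfl (g := fun i => word u i * a i + word u i * b i)
      (fun i _ => by rw [Pi.add_apply]; ring), sum_add_distrib, ha, hb, add_zero]
  | smul r a _ ha =>
    rw [sum_congr rfl (g := fun i => r * (word u i * a i))
      (fun i _ => by rw [Pi.smul_apply, smul_eq_mul]; ring), ← mul_sum, ha, mul_zero]

theorem even_of_mem_dual {F : Finset (Finset (Fin 24))} {x : Fin 24 → ZMod 2}
    (hx : x ∈ dualCode (famCode F)) {b : Finset (Fin 24)} (hb : b ∈ F) :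
    Even (supp x ∩ b).card := by
  have := mem_dualCode.1 hx _ (word_mem_famCode hb)
  rwa [SelfDual24.dot_eq, SelfDual24.supp_word, ZMod.natCast_eq_zero_iff_even] at this

theorem famCode_le_dual {F : Finset (Finset (Fin 24))}
    (heven : ∀ b ∈ F, ∀ c ∈ F, Even (b ∩ c).card) : famCode F ≤ dualCode (famCode F) :=
  Submodule.span_le.2 fun _ ⟨b, hb, e⟩ => e ▸ word_mem_dual (heven b hb)

theorem four_dvd_famCode {F : Finset (Finset (Fin 24))}
    (hF : ∀ b ∈ F, 4 ∣ b.card) (heven : ∀ b ∈ F, ∀ c ∈ F, Even (b ∩ c).card)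
    {w : Fin 24 → ZMod 2} (hw : w ∈ famCode F) : 4 ∣ (supp w).card := by
  rw [famCode] at hw
  induction hw using Submodule.span_induction with
  | mem v hv =>
    obtain ⟨b, hb, rfl⟩ := hv
    rw [SelfDual24.supp_word]; exact hF b hb
  | zero => rw [SelfDual24.supp_zero]; simp
  | add a b ha hb ha4 hb4 =>
    rw [SelfDual24.supp_add]
    have h1 := mem_dualCode.1 (famCode_le_dual heven ha) b hb
    rw [SelfDual24.dot_eq, ZMod.natCast_eq_zero_iff_even] at h1
    obtain ⟨k, hk⟩ := h1
    have := SelfDual24.card_symmDiff_add (supp a) (supp b)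
    omega
  | smul r a _ ha4 =>
    rcases SelfDual24.zmod_two r with rfl | rfl
    · rw [zero_smul, SelfDual24.supp_zero]; simp
    · rwa [one_smul]

/-- The sphere packing bound for minimum weight 7. -/
theorem finrank_le_of_minWeight {D : Submodule (ZMod 2) (Fin 24 → ZMod 2)}
    (hD : ∀ x ∈ D, x ≠ 0 → 7 ≤ (supp x).card) : Module.finrank (ZMod 2) D ≤ 12 := by
  set B := (univ : Finset (Finset (Fin 24))).filter fun e => e.card ≤ 3 with hB
  have hBc : B.card = 2325 := by
    have e : B = (range 4).biUnion (fun k => (univ : Finset (Fin 24)).powersetCard k) := by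
      ext s
      simp only [hB, mem_filter, mem_univ, true_and, mem_biUnion, mem_range, mem_powersetCard,
        subset_univ]
      exact ⟨fun h => ⟨s.card, by omega, rfl⟩, fun ⟨k, hk, h⟩ => by omega⟩
    rw [e, card_biUnion]
    · simp only [card_powersetCard, card_univ, Fintype.card_fin]
      rfl
    · intro a _ b _ hab
      rw [Function.onFun, disjoint_left]
      exact fun s hs hs' => hab ((mem_powersetCard.1 hs).2.symm.trans (mem_powersetCard.1 hs').2)
  have hinj : Set.InjOn (fun p : Finset (Fin 24) × Finset (Fin 24) => p.1 ∆ p.2) ↑(sets D ×ˢ B) := by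
    rintro ⟨c, e⟩ hp ⟨c', e'⟩ hp' heq
    simp only [coe_product, Set.mem_prod, mem_coe, hB, mem_filter, mem_univ, true_and] at hp hp'
    change c ∆ e = c' ∆ e' at heq
    have hd : c ∆ c' = e ∆ e' := by
      calc c ∆ c' = (c ∆ e) ∆ (c' ∆ e') ∆ (e ∆ e') := by
            rw [show (c ∆ e) ∆ (c' ∆ e') = (c ∆ c') ∆ (e ∆ e') from symmDiff_symmDiff_symmDiff_comm _ _ _ _,
              symmDiff_assoc, symmDiff_self, symmDiff_bot]
        _ = e ∆ e' := by rw [heq, symmDiff_self, bot_symmDiff]
    have hle : (c ∆ c').card ≤ 6 := by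
      rw [hd]
      exact (card_le_card symmDiff_subset_union).trans ((card_union_le _ _).trans (by omega))
    have h0 : c ∆ c' = ∅ := by
      by_contra hne
      have h7 := hD (word (c ∆ c')) (mem_sets.1 (SelfDual24.symmDiff_mem hp.1 hp'.1)) (fun h => hne (by
        rw [← SelfDual24.supp_word (c ∆ c'), h, SelfDual24.supp_zero]))
      rw [SelfDual24.supp_word] at h7
      omega
    obtain rfl := symmDiff_eq_bot.1 h0
    exact Prod.ext rfl (symmDiff_right_injective _ heq)
  have h := card_le_univ ((sets D ×ˢ B).image fun p => p.1 ∆ p.2)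
  rw [card_image_of_injOn hinj, card_product, hBc, Fintype.card_finset, Fintype.card_fin, sets,
    card_image_of_injective _ SelfDual24.supp_injective,
    ← Set.ncard_eq_toFinset_card (D : Set (Fin 24 → ZMod 2)) (Set.toFinite _)] at h
  change Nat.card D * 2325 ≤ 2 ^ 24 at h
  rw [Module.natCard_eq_pow_finrank (K := ZMod 2), Nat.card_zmod] at h
  by_contra hk
  have : 2 ^ 13 ≤ 2 ^ Module.finrank (ZMod 2) D := Nat.pow_le_pow_right (by norm_num) (by omega)
  have := Nat.mul_le_mul_right 2325 this
  omega

/-- The main step on the positions `Fin 24`. -/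
theorem hyp_of_family (F : Finset (Finset (Fin 24))) (h8 : ∀ b ∈ F, b.card = 8)
    (heven : ∀ b ∈ F, ∀ c ∈ F, Even (b ∩ c).card)
    (hdual : ∀ u : Finset (Fin 24), u ≠ ∅ → u.card ≤ 6 → ∃ b ∈ F, ¬ Even (u ∩ b).card) :
    Hyp (famCode F) := by
  have h7 : ∀ x ∈ dualCode (famCode F), x ≠ 0 → 7 ≤ (supp x).card := by
    intro x hx hx0
    by_contra hlt
    obtain ⟨b, hb, hodd⟩ := hdual (supp x)
      (fun h => hx0 (SelfDual24.supp_injective (h.trans SelfDual24.supp_zero.symm))) (by omega)
    exact hodd (even_of_mem_dual hx hb)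
  have hle := famCode_le_dual heven
  have h1 := finrank_dualCode (famCode F)
  have h2 := finrank_le_of_minWeight h7
  have h3 := Submodule.finrank_mono hle
  refine ⟨by omega, fun v hv w hw => mem_dualCode.1 (hle hv) w hw, fun w hw hw0 => ?_⟩
  rw [SelfDual24.hammingNorm_eq]
  have h4 := four_dvd_famCode (fun b hb => by rw [h8 b hb]; decide) heven hw
  have := h7 w (hle hw) hw0
  omega

/-- A family of 8-sets meeting evenly, with no small set orthogonal to all of them, lies in a copy
of the Golay code. -/
theorem exists_equiv_octads {Ω : Type*} [Fintype Ω] [DecidableEq Ω] (hΩ : Fintype.card Ω = 24)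
    (F : Finset (Finset Ω)) (h8 : ∀ b ∈ F, b.card = 8)
    (heven : ∀ b ∈ F, ∀ c ∈ F, Even (b ∩ c).card)
    (hdual : ∀ u : Finset Ω, u ≠ ∅ → u.card ≤ 6 → ∃ b ∈ F, ¬ Even (u ∩ b).card) :
    ∃ e : Ω ≃ GolayPt, ∀ b ∈ F, b.image e ∈ octads := by
  let ι := Fintype.equivFinOfCardEq hΩ
  have hH : Hyp (famCode (F.image fun b => b.image ι)) := by
    refine hyp_of_family _ ?_ ?_ ?_
    · simp only [mem_image, forall_exists_index, and_imp]
      rintro _ b hb rfl
      rw [card_image_of_injective _ ι.injective, h8 b hb]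
    · simp only [mem_image, forall_exists_index, and_imp]
      rintro _ b hb rfl _ c hc rfl
      rw [← image_inter _ _ ι.injective, card_image_of_injective _ ι.injective]
      exact heven b hb c hc
    · intro u hu hu6
      obtain ⟨b, hb, hodd⟩ := hdual (u.image ι.symm)
        (fun h => hu (image_eq_empty.1 h))
        (by rwa [card_image_of_injective _ ι.symm.injective])
      refine ⟨b.image ι, mem_image_of_mem _ hb, fun hev => hodd ?_⟩
      rw [← card_image_of_injective _ ι.injective, image_inter _ _ ι.injective, image_image,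
        Equiv.self_comp_symm, image_id]
      exact hev
  obtain ⟨e, he⟩ := exists_equiv_golay hH
  refine ⟨ι.trans e, fun b hb => ⟨?_, ?_⟩⟩
  · rw [show b.image (ι.trans e) = (b.image ι).image e by rw [image_image]; rfl]
    exact Golay.mem_codeSets.1 ((he _).1 (mem_sets.2
      (word_mem_famCode (mem_image_of_mem (fun b : Finset Ω => b.image ι) hb))))
  · rw [card_image_of_injective _ (Equiv.injective _), h8 b hb]

/-- The double count in a Steiner system, sorted by the intersection with a set. -/
theorem moments {α : Type*} [Fintype α] [DecidableEq α] {t k : ℕ} {B : Finset (Finset α)}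
    (hk : ∀ b ∈ B, b.card = k) (hB : ∀ s : Finset α, s.card = t → ∃! b, b ∈ B ∧ s ⊆ b)
    (u : Finset α) {m : ℕ} (hm : u.card = m) (j c : ℕ) (hj : j ≤ t) (htk : t ≤ k)
    (hc : c * (k - j).choose (t - j) = (Fintype.card α - j).choose (t - j)) :
    ∑ i ∈ range (m + 1), (B.filter fun b => (b ∩ u).card = i).card * i.choose j =
      m.choose j * c := by
  have h := SteinerCount.sum_choose B u j c fun S hS => by
    obtain ⟨-, hSj⟩ := mem_powersetCard.1 hS
    have := SteinerCount.card_through hk hB S (by omega)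
    rw [hSj, ← hc] at this
    exact Nat.eq_of_mul_eq_mul_right (Nat.choose_pos (by omega)) this
  rw [← hm, ← h]
  rw [← sum_fiberwise_of_maps_to (t := range (u.card + 1)) (g := fun b => (b ∩ u).card)
    (fun b _ => mem_range.2 (Nat.lt_succ_of_le (card_le_card inter_subset_right)))]
  refine sum_congr rfl fun i _ => ?_
  rw [sum_congr rfl (g := fun _ => i.choose j) (fun b hb => by rw [(mem_filter.1 hb).2]), sum_const,
    smul_eq_mul]

/-- A bijection taking one Steiner system into another takes it onto it. -/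
theorem image_eq_of_steiner {α β : Type*} [Fintype α] [DecidableEq α] [Fintype β] [DecidableEq β]
    {t k : ℕ} {B : Set (Finset α)} {B' : Set (Finset β)} (hB : IsSteinerSystem t k B)
    (hB' : IsSteinerSystem t k B') (htk : t ≤ k) (e : α ≃ β) (h : ∀ b ∈ B, b.image e ∈ B') :
    (fun b => b.image e) '' B = B' := by
  refine Set.Subset.antisymm (Set.image_subset_iff.2 h) fun o ho => ?_
  obtain ⟨s, hs, hsc⟩ := exists_subset_card_eq (show t ≤ o.card by rw [hB'.1 o ho]; exact htk)
  obtain ⟨b, ⟨hb, hsb⟩, -⟩ := hB.2 (s.image e.symm) (by rw [card_image_of_injective _ e.symm.injective, hsc])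
  refine ⟨b, hb, (hB'.2 s hsc).unique ⟨h b hb, fun x hx => ?_⟩ ⟨ho, hs⟩⟩
  exact mem_image.2 ⟨e.symm x, hsb (mem_image_of_mem _ hx), e.apply_symm_apply x⟩

end CfsgLib.DesignUnique
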