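import Cfsg.Agent.DesignUnique.Large

/-! Isomorphisms of set systems. -/

set_option autoImplicit false

namespace CfsgLib.DesignUnique

open Cfsg

theorem setSystemIso_of_equiv {α β γ : Type*} [DecidableEq β] [DecidableEq γ] {B : Set (Finset α)}
    {B' : Set (Finset β)} {S : Set (Finset γ)} (h : ∃ e : α ≃ γ, (fun b => b.image e) '' B = S)
    (h' : ∃ e : β ≃ γ, (fun b => b.image e) '' B' = S) : SetSystemIso B B' := by
  obtain ⟨e, he⟩ := h
  obtain ⟨f, hf⟩ := h'
  refine ⟨e.trans f.symm, Set.ext fun s => ?_⟩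
  constructor
  · rintro ⟨b, hb, rfl⟩
    have hmem : b.image e ∈ (fun c => c.image f) '' B' := hf ▸ he ▸ ⟨b, hb, rfl⟩
    obtain ⟨c, hc, hcb⟩ := hmem
    have : b.image (e.trans f.symm) = c := by
      ext x
      have := Finset.ext_iff.1 hcb (f x)
      simp only [Finset.mem_image, f.injective.eq_iff, exists_eq_right] at this
      simp only [Finset.mem_image, Equiv.trans_apply, Equiv.symm_apply_eq]
      exact this.symm
    show b.image (e.trans f.symm) ∈ B'
    rw [this]; exact hc
  · intro hs
    have hmem : s.image f ∈ (fun b => b.image e) '' B := he ▸ hf ▸ ⟨s, hs, rfl⟩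
    obtain ⟨b, hb, hbs⟩ := hmem
    refine ⟨b, hb, ?_⟩
    ext x
    have := Finset.ext_iff.1 hbs (f x)
    simp only [Finset.mem_image, f.injective.eq_iff, exists_eq_right] at this
    simp only [Finset.mem_image, Equiv.trans_apply, Equiv.symm_apply_eq]
    exact this

end CfsgLib.DesignUnique
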