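import Cfsg.Agent.DesignUnique.Family
import Cfsg.Agent.Golay.Steiner
import Cfsg.Agent.Mathieu.M24

/-! Uniqueness of the Steiner systems on 24, 23 and 22 points. -/

set_option autoImplicit false

open scoped symmDiff Pointwise

namespace CfsgLib.DesignUnique

open Cfsg Finset

variable {α : Type*} [Fintype α] [DecidableEq α]

/-- The blocks of a set system as a finset. -/
noncomputable def blockSet (B : Set (Finset α)) : Finset (Finset α) := B.toFinite.toFinset

theorem mem_blockSet {B : Set (Finset α)} {b : Finset α} : b ∈ blockSet B ↔ b ∈ B :=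
  Set.Finite.mem_toFinset _

theorem blockSet_steiner {t k : ℕ} {B : Set (Finset α)} (hB : IsSteinerSystem t k B) :
    (∀ b ∈ blockSet B, b.card = k) ∧
      ∀ s : Finset α, s.card = t → ∃! b, b ∈ blockSet B ∧ s ⊆ b := by
  refine ⟨fun b hb => hB.1 b (mem_blockSet.1 hb), fun s hs => ?_⟩
  simp only [mem_blockSet]
  exact hB.2 s hs

theorem count_eq_zero {B : Finset (Finset α)} (u : Finset α) (i : ℕ)
    (h : ∀ b ∈ B, (b ∩ u).card ≠ i) : (B.filter fun b => (b ∩ u).card = i).card = 0 :=
  card_eq_zero.2 (filter_eq_empty_iff.2 h)

theorem count_self {t k : ℕ} {B : Set (Finset α)} (hB : IsSteinerSystem t k B) {b : Finset α}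
    (hb : b ∈ B) (htk : t ≤ k) :
    ((blockSet B).filter fun c => (c ∩ b).card = k).card = 1 ∧
      ∀ i, t ≤ i → i < k → ((blockSet B).filter fun c => (c ∩ b).card = i).card = 0 := by
  have hkey : ∀ c ∈ B, t ≤ (c ∩ b).card → c = b := by
    intro c hc hle
    obtain ⟨s, hs, hsc⟩ := exists_subset_card_eq hle
    exact (hB.2 s hsc).unique ⟨hc, hs.trans inter_subset_left⟩ ⟨hb, hs.trans inter_subset_right⟩
  constructor
  · refine card_eq_one.2 ⟨b, ?_⟩
    ext c
    simp only [mem_filter, mem_blockSet, mem_singleton]
    refine ⟨fun h => hkey c h.1 (h.2.ge.trans' htk), fun h => ?_⟩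
    subst h
    exact ⟨hb, by rw [inter_self]; exact hB.1 _ hb⟩
  · intro i h1 h2
    refine count_eq_zero b i fun c hc h => ?_
    have := hkey c (mem_blockSet.1 hc) (by omega)
    subst this
    rw [inter_self, hB.1 _ hb] at h
    omega

/-- The intersection numbers of S(5,8,24). -/
theorem inter24 (hα : Fintype.card α = 24) {B : Set (Finset α)} (hB : IsSteinerSystem 5 8 B)
    {b c : Finset α} (hb : b ∈ B) (hc : c ∈ B) : Even (c ∩ b).card := by
  obtain ⟨hk, hu⟩ := blockSet_steiner hB
  obtain ⟨h8, h0⟩ := count_self hB hb (by norm_num)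
  have e := fun j l hj hl => moments hk hu b (hB.1 b hb) j l hj (by norm_num) hl
  have e0 := e 0 759 (by norm_num) (by rw [hα]; decide)
  have e1 := e 1 253 (by norm_num) (by rw [hα]; decide)
  have e2 := e 2 77 (by norm_num) (by rw [hα]; decide)
  have e3 := e 3 21 (by norm_num) (by rw [hα]; decide)
  have e4 := e 4 5 (by norm_num) (by rw [hα]; decide)
  simp [sum_range_succ, Nat.choose, h8, h0] at e0 e1 e2 e3 e4
  by_contra hodd
  have hle : (c ∩ b).card ≤ 8 := (card_le_card inter_subset_right).trans (hB.1 b hb).le
  have hpos : 0 < ((blockSet B).filter fun d => (d ∩ b).card = (c ∩ b).card).card :=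
    card_pos.2 ⟨c, mem_filter.2 ⟨mem_blockSet.2 hc, rfl⟩⟩
  rw [Nat.not_even_iff] at hodd
  revert hodd hpos
  generalize (c ∩ b).card = i at hle
  interval_cases i <;> simp_all <;> omega

/-- The intersection numbers of S(4,7,23). -/
theorem inter23 (hα : Fintype.card α = 23) {B : Set (Finset α)} (hB : IsSteinerSystem 4 7 B)
    {b c : Finset α} (hb : b ∈ B) (hc : c ∈ B) : ¬ Even (c ∩ b).card := by
  obtain ⟨hk, hu⟩ := blockSet_steiner hB
  obtain ⟨h7, h0⟩ := count_self hB hb (by norm_num)
  have e := fun j l hj hl => moments hk hu b (hB.1 b hb) j l hj (by norm_num) hl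
  have e0 := e 0 253 (by norm_num) (by rw [hα]; decide)
  have e1 := e 1 77 (by norm_num) (by rw [hα]; decide)
  have e2 := e 2 21 (by norm_num) (by rw [hα]; decide)
  have e3 := e 3 5 (by norm_num) (by rw [hα]; decide)
  simp [sum_range_succ, Nat.choose, h7, h0] at e0 e1 e2 e3
  intro hev
  have hle : (c ∩ b).card ≤ 7 := (card_le_card inter_subset_right).trans (hB.1 b hb).le
  have hpos : 0 < ((blockSet B).filter fun d => (d ∩ b).card = (c ∩ b).card).card :=
    card_pos.2 ⟨c, mem_filter.2 ⟨mem_blockSet.2 hc, rfl⟩⟩
  rw [Nat.even_iff] at hev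
  revert hev hpos
  generalize (c ∩ b).card = i at hle
  interval_cases i <;> simp_all <;> omega

/-- The intersection numbers of S(3,6,22). -/
theorem inter22 (hα : Fintype.card α = 22) {B : Set (Finset α)} (hB : IsSteinerSystem 3 6 B)
    {b c : Finset α} (hb : b ∈ B) (hc : c ∈ B) : Even (c ∩ b).card := by
  obtain ⟨hk, hu⟩ := blockSet_steiner hB
  obtain ⟨h6, h0⟩ := count_self hB hb (by norm_num)
  have e := fun j l hj hl => moments hk hu b (hB.1 b hb) j l hj (by norm_num) hl
  have e0 := e 0 77 (by norm_num) (by rw [hα]; decide)
  have e1 := e 1 21 (by norm_num) (by rw [hα]; decide)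
  have e2 := e 2 5 (by norm_num) (by rw [hα]; decide)
  simp [sum_range_succ, Nat.choose, h6, h0] at e0 e1 e2
  by_contra hodd
  have hle : (c ∩ b).card ≤ 6 := (card_le_card inter_subset_right).trans (hB.1 b hb).le
  have hpos : 0 < ((blockSet B).filter fun d => (d ∩ b).card = (c ∩ b).card).card :=
    card_pos.2 ⟨c, mem_filter.2 ⟨mem_blockSet.2 hc, rfl⟩⟩
  rw [Nat.not_even_iff] at hodd
  revert hodd hpos
  generalize (c ∩ b).card = i at hle
  interval_cases i <;> simp_all <;> omega

/-- Any S(5,8,24) is a copy of the octads. -/
theorem exists_equiv24 (hα : Fintype.card α = 24) {B : Set (Finset α)}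
    (hB : IsSteinerSystem 5 8 B) : ∃ e : α ≃ GolayPt, (fun b => b.image e) '' B = octads := by
  obtain ⟨hk, hu⟩ := blockSet_steiner hB
  obtain ⟨e, he⟩ := exists_equiv_octads hα (blockSet B) hk
    (fun b hb c hc => inter24 hα hB (mem_blockSet.1 hc) (mem_blockSet.1 hb)) (fun u hu0 hu6 => by
      by_contra hno
      push Not at hno
      have hz : ∀ i, i % 2 = 1 → ((blockSet B).filter fun b => (b ∩ u).card = i).card = 0 :=
        fun i hi => count_eq_zero u i fun b hb h => by
          have := Nat.even_iff.1 (hno b hb)
          rw [inter_comm] at this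
          omega
      obtain ⟨m, hm⟩ : ∃ m, u.card = m := ⟨_, rfl⟩
      have hm6 : m ≤ 6 := hm ▸ hu6
      have e := fun j l hj hl => moments hk hu u hm j l hj (by norm_num) hl
      have e1 := e 1 253 (by norm_num) (by rw [hα]; decide)
      have e2 := e 2 77 (by norm_num) (by rw [hα]; decide)
      have e3 := e 3 21 (by norm_num) (by rw [hα]; decide)
      have e4 := e 4 5 (by norm_num) (by rw [hα]; decide)
      have e5 := e 5 1 (by norm_num) (by rw [hα]; decide)
      have hm0 : m ≠ 0 := fun h => hu0 (card_eq_zero.1 (hm.trans h))
      interval_cases m <;>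
        simp [sum_range_succ, Nat.choose, hz 1, hz 3, hz 5] at e1 e2 e3 e4 e5 <;> omega)
  exact ⟨e, image_eq_of_steiner hB Golay.octads_steiner (by norm_num) e
    fun b hb => he b (mem_blockSet.2 hb)⟩

/-- The heptads of the standard S(4,7,23). -/
def std23 : Set (Finset (ZMod 23)) := {s | Finset.insertNone s ∈ octads}

theorem std23_steiner : IsSteinerSystem 4 7 std23 := by
  refine ⟨fun b hb => ?_, fun s hs => ?_⟩
  · have := (show Finset.insertNone b ∈ octads from hb).2
    rw [Finset.card_insertNone] at this
    omega
  · obtain ⟨o, ⟨ho, hso⟩, huniq⟩ := Golay.octads_steiner.2 (Finset.insertNone s)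
      (by rw [Finset.card_insertNone, hs])
    have hn : none ∈ o := hso (Finset.none_mem_insertNone)
    have hoe : Finset.insertNone o.eraseNone = o := by
      rw [Finset.insertNone_eraseNone, insert_eq_of_mem hn]
    refine ⟨o.eraseNone, ⟨show Finset.insertNone o.eraseNone ∈ octads by rw [hoe]; exact ho,
      fun x hx => Finset.mem_eraseNone.2 (hso (Finset.some_mem_insertNone.2 hx))⟩, ?_⟩
    rintro c ⟨hc, hsc⟩
    have := huniq (Finset.insertNone c) ⟨hc, fun x hx => by
      rw [Finset.mem_insertNone] at hx ⊢
      exact fun a ha => hsc (hx a ha)⟩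
    rw [← this, Finset.eraseNone_insertNone]

theorem image_insertNone {β γ : Type*} [DecidableEq β] [DecidableEq γ] (s : Finset β)
    (f : Option β → Option γ) (g : β → γ) (hn : f none = none) (hs : ∀ x, f (some x) = some (g x)) :
    (Finset.insertNone s).image f = Finset.insertNone (s.image g) := by
  ext o
  simp only [mem_image, Finset.mem_insertNone]
  constructor
  · rintro ⟨o', ho', rfl⟩
    cases o' with
    | none => simp [hn]
    | some x =>
      intro a ha
      rw [Option.mem_def, hs, Option.some_inj] at ha
      exact ⟨x, ho' x rfl, ha⟩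
  · intro h
    cases o with
    | none => exact ⟨none, by simp, hn⟩
    | some y =>
      obtain ⟨x, hx, e⟩ := h y rfl
      exact ⟨some x, fun a ha => by cases ha; exact hx, by rw [hs, e]⟩

theorem card_insertNone_inter (b : Finset α) (u : Finset (Option α)) :
    (u ∩ Finset.insertNone b).card =
      (b ∩ u.eraseNone).card + if none ∈ u then 1 else 0 := by
  by_cases hn : none ∈ u
  · have : u ∩ Finset.insertNone b = Finset.insertNone (b ∩ u.eraseNone) := by
      ext o; cases o <;> simp [hn, and_comm]
    rw [this, Finset.card_insertNone, if_pos hn]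
  · have : u ∩ Finset.insertNone b = (b ∩ u.eraseNone).image some := by
      ext o; cases o <;> simp [hn, and_comm]
    rw [this, card_image_of_injective _ (Option.some_injective _), if_neg hn, add_zero]

/-- Any S(4,7,23) is a copy of the standard one. -/
theorem exists_equiv23 (hα : Fintype.card α = 23) {B : Set (Finset α)}
    (hB : IsSteinerSystem 4 7 B) : ∃ e : α ≃ ZMod 23, (fun b => b.image e) '' B = std23 := by
  obtain ⟨hk, hu⟩ := blockSet_steiner hB
  obtain ⟨e, he⟩ := exists_equiv_octads (Ω := Option α) (by rw [Fintype.card_option, hα])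
    ((blockSet B).image Finset.insertNone)
    (by
      simp only [mem_image, forall_exists_index, and_imp]
      rintro _ b hb rfl
      rw [Finset.card_insertNone, hk b hb])
    (by
      simp only [mem_image, forall_exists_index, and_imp]
      rintro _ b hb rfl _ c hc rfl
      rw [card_insertNone_inter, if_pos (Finset.none_mem_insertNone), Finset.eraseNone_insertNone,
        Nat.even_add_one]
      exact inter23 hα hB (mem_blockSet.1 hb) (mem_blockSet.1 hc))
    (fun u hu0 hu6 => by
      by_contra hno
      push Not at hno
      obtain ⟨m, hm⟩ : ∃ m, u.eraseNone.card = m := ⟨_, rfl⟩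
      have hpar : ∀ b ∈ blockSet B, Even ((b ∩ u.eraseNone).card + if none ∈ u then 1 else 0) :=
        fun b hb => by rw [← card_insertNone_inter]; exact hno _ (mem_image_of_mem _ hb)
      have hz : ∀ i, (i + if none ∈ u then 1 else 0) % 2 = 1 →
          ((blockSet B).filter fun b => (b ∩ u.eraseNone).card = i).card = 0 :=
        fun i hi => count_eq_zero _ i fun b hb h => by
          have := Nat.even_iff.1 (hpar b hb); rw [h] at this; omega
      have e := fun j l hj hl => moments hk hu u.eraseNone hm j l hj (by norm_num) hl
      have e0 := e 0 253 (by norm_num) (by rw [hα]; decide)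
      have e1 := e 1 77 (by norm_num) (by rw [hα]; decide)
      have e2 := e 2 21 (by norm_num) (by rw [hα]; decide)
      have e3 := e 3 5 (by norm_num) (by rw [hα]; decide)
      have e4 := e 4 1 (by norm_num) (by rw [hα]; decide)
      have hmu : m + (if none ∈ u then 1 else 0) = u.card := by
        have := card_insertNone_inter (univ : Finset α) u
        rw [univ_inter, hm, show (Finset.insertNone (univ : Finset α)) = univ by
          ext o; simp, inter_univ] at this
        omega
      by_cases hn : none ∈ u
      · simp only [if_pos hn] at hz hmu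
        have hm5 : m ≤ 5 := by omega
        interval_cases m <;>
          simp only [sum_range_succ, sum_range_zero, hz 0 (by decide), hz 2 (by decide),
            hz 4 (by decide)] at e0 e1 e2 e3 e4 <;>
          simp [Nat.choose] at e0 e1 e2 e3 e4 <;> omega
      · simp only [if_neg hn, add_zero] at hz hmu
        have hm6 : m ≤ 6 := by omega
        have hm0 : m ≠ 0 := fun h => hu0 (card_eq_zero.1 (by omega))
        interval_cases m <;>
          simp [sum_range_succ, Nat.choose, hz 1, hz 3, hz 5] at e1 e2 e3 e4 <;> omega)
  obtain ⟨g, hg, hg0⟩ := Mathieu.exists_map_one (e none) none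
  let e' : Option α ≃ Option (ZMod 23) := e.trans g
  have he'0 : e' none = none := hg0
  refine ⟨e'.removeNone, image_eq_of_steiner hB std23_steiner (by norm_num) _ fun b hb => ?_⟩
  show Finset.insertNone (b.image e'.removeNone) ∈ octads
  have h1 : ∀ x, e' (some x) = some (e'.removeNone x) := fun x => by
    refine (Equiv.removeNone_some e' ?_).symm
    cases hx : e' (some x) with
    | none => exact absurd (e'.injective (hx.trans he'0.symm)) (by simp)
    | some y => exact ⟨y, rfl⟩
  rw [← image_insertNone b e' _ he'0 h1,
    show (Finset.insertNone b).image e' = g • (Finset.insertNone b).image e by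
      rw [Finset.smul_finset_def, image_image]; rfl]
  exact Golay.smul_mem_octads hg (he _ (mem_image_of_mem _ (mem_blockSet.2 hb)))

/-- The points of the standard S(3,6,22). -/
abbrev Pt22 : Type := {x : ZMod 23 // x ≠ 0}

/-- Adding the two extra points. -/
def addTwo {β : Type*} (s : Finset β) : Finset (Option (Option β)) :=
  Finset.insertNone (Finset.insertNone s)

/-- The Golay points as the 22 points and two more. -/
def iota22 : Option (Option Pt22) ≃ GolayPt := Equiv.optionCongr (Equiv.optionSubtypeNe (0 : ZMod 23))

theorem iota22_none : iota22 none = none := rfl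

theorem iota22_some_none : iota22 (some none) = some 0 := rfl

/-- The hexads of the standard S(3,6,22). -/
def std22 : Set (Finset Pt22) := {s | (addTwo s).image iota22 ∈ octads}

theorem std22_steiner : IsSteinerSystem 3 6 std22 := by
  refine ⟨fun b hb => ?_, fun s hs => ?_⟩
  · have := (show (addTwo b).image iota22 ∈ octads from hb).2
    rw [card_image_of_injective _ iota22.injective, addTwo, Finset.card_insertNone,
      Finset.card_insertNone] at this
    omega
  · obtain ⟨o, ⟨ho, hso⟩, huniq⟩ := Golay.octads_steiner.2 ((addTwo s).image iota22)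
      (by rw [card_image_of_injective _ iota22.injective, addTwo, Finset.card_insertNone,
        Finset.card_insertNone, hs])
    set o' := o.image iota22.symm with ho'
    have hback : o'.image iota22 = o := by
      rw [ho', image_image, Equiv.self_comp_symm, image_id]
    have hsub : addTwo s ⊆ o' := fun x hx => mem_image.2
      ⟨iota22 x, hso (mem_image_of_mem _ hx), iota22.symm_apply_apply x⟩
    have hn : none ∈ o' := hsub Finset.none_mem_insertNone
    have hn' : none ∈ o'.eraseNone :=
      Finset.mem_eraseNone.2 (hsub (Finset.some_mem_insertNone.2 Finset.none_mem_insertNone))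
    have hoe : addTwo o'.eraseNone.eraseNone = o' := by
      rw [addTwo, Finset.insertNone_eraseNone, insert_eq_of_mem hn', Finset.insertNone_eraseNone,
        insert_eq_of_mem hn]
    refine ⟨o'.eraseNone.eraseNone, ⟨show (addTwo o'.eraseNone.eraseNone).image iota22 ∈ octads by
      rw [hoe, hback]; exact ho, fun x hx => Finset.mem_eraseNone.2 (Finset.mem_eraseNone.2
        (hsub (Finset.some_mem_insertNone.2 (Finset.some_mem_insertNone.2 hx))))⟩, ?_⟩
    rintro c ⟨hc, hsc⟩
    have := huniq ((addTwo c).image iota22) ⟨hc, image_subset_image fun x hx => by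
      simp only [addTwo, Finset.mem_insertNone] at hx ⊢
      exact fun a ha b hb => hsc (hx a ha b hb)⟩
    rw [← hback] at this
    have h2 := image_injective iota22.injective this
    rw [← h2, addTwo, Finset.eraseNone_insertNone, Finset.eraseNone_insertNone]

theorem card_addTwo_inter (b : Finset α) (u : Finset (Option (Option α))) :
    (u ∩ addTwo b).card = (b ∩ u.eraseNone.eraseNone).card +
      (if none ∈ u then 1 else 0) + (if some none ∈ u then 1 else 0) := by
  rw [addTwo, card_insertNone_inter, inter_comm, card_insertNone_inter]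
  simp only [Finset.mem_eraseNone]
  omega

theorem card_two_split (u : Finset (Option (Option α))) :
    u.card = u.eraseNone.eraseNone.card +
      (if none ∈ u then 1 else 0) + (if some none ∈ u then 1 else 0) := by
  have h := card_addTwo_inter (univ : Finset α) u
  rwa [univ_inter, show addTwo (univ : Finset α) = univ by ext (_ | _ | o) <;> simp [addTwo],
    inter_univ] at h

/-- Any S(3,6,22) is a copy of the standard one. -/
theorem exists_equiv22 (hα : Fintype.card α = 22) {B : Set (Finset α)}
    (hB : IsSteinerSystem 3 6 B) : ∃ e : α ≃ Pt22, (fun b => b.image e) '' B = std22 := by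
  obtain ⟨hk, hu⟩ := blockSet_steiner hB
  have hΩ : Fintype.card (Option (Option α)) = 24 := by simp [hα]
  -- a set of seven points meeting every block in one or three points
  have hsmall : ∀ v : Finset α, (∀ b ∈ blockSet B, ¬ Even (b ∩ v).card) → 7 ≤ v.card := by
    intro v hv
    by_contra hlt
    obtain ⟨m, hm⟩ : ∃ m, v.card = m := ⟨_, rfl⟩
    have hm6 : m ≤ 6 := by omega
    have hz : ∀ i, i % 2 = 0 → ((blockSet B).filter fun b => (b ∩ v).card = i).card = 0 :=
      fun i hi => count_eq_zero v i fun b hb h => hv b hb (by rw [h, Nat.even_iff]; exact hi)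
    have e := fun j l hj hl => moments hk hu v hm j l hj (by norm_num) hl
    have e0 := e 0 77 (by norm_num) (by rw [hα]; decide)
    have e1 := e 1 21 (by norm_num) (by rw [hα]; decide)
    have e2 := e 2 5 (by norm_num) (by rw [hα]; decide)
    have e3 := e 3 1 (by norm_num) (by rw [hα]; decide)
    interval_cases m <;>
      simp only [sum_range_succ, sum_range_zero, hz 0 (by decide), hz 2 (by decide),
        hz 4 (by decide), hz 6 (by decide)] at e0 e1 e2 e3 <;>
      simp [Nat.choose] at e0 e1 e2 e3 <;> omega
  have hblock : ∀ v : Finset α, v ≠ ∅ → v.card ≤ 6 → (∀ b ∈ blockSet B, Even (b ∩ v).card) →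
      v ∈ B := by
    intro v hv0 hv6 hv
    obtain ⟨m, hm⟩ : ∃ m, v.card = m := ⟨_, rfl⟩
    have hm6 : m ≤ 6 := by omega
    have hm0 : m ≠ 0 := fun h => hv0 (card_eq_zero.1 (hm.trans h))
    have hz : ∀ i, i % 2 = 1 → ((blockSet B).filter fun b => (b ∩ v).card = i).card = 0 :=
      fun i hi => count_eq_zero v i fun b hb h => by
        have := Nat.even_iff.1 (hv b hb); rw [h] at this; omega
    have e := fun j l hj hl => moments hk hu v hm j l hj (by norm_num) hl
    have e1 := e 1 21 (by norm_num) (by rw [hα]; decide)
    have e2 := e 2 5 (by norm_num) (by rw [hα]; decide)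
    have e3 := e 3 1 (by norm_num) (by rw [hα]; decide)
    by_contra hvB
    have h6 : ((blockSet B).filter fun b => (b ∩ v).card = 6).card = 0 :=
      count_eq_zero v 6 fun b hb h => hvB (by
        have hbv : b ∩ v = v := eq_of_subset_of_card_le inter_subset_right (by omega)
        have hbv' : b ∩ v = b := eq_of_subset_of_card_le inter_subset_left (by rw [hk b hb]; omega)
        rw [← hbv, hbv']; exact mem_blockSet.1 hb)
    interval_cases m <;>
      simp [sum_range_succ, Nat.choose, hz 1, hz 3, hz 5, h6] at e1 e2 e3 <;> omega
  -- existence of such a set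
  let ι := Fintype.equivFinOfCardEq hΩ
  set F₀ := (blockSet B).image fun b => (addTwo b).image ι with hF₀
  have hodd : ∃ x ∈ dualCode (famCode F₀), x (ι none) + x (ι (some none)) ≠ 0 := by
    by_contra hno
    push Not at hno
    have hmem : SelfDual24.word {ι none, ι (some none)} ∈ famCode F₀ := by
      rw [← dualCode_dualCode (famCode F₀), mem_dualCode]
      intro x hx
      rw [← hno x hx, sum_congr rfl (g := fun i => if i ∈ ({ι none, ι (some none)} : Finset (Fin 24)) then x i else 0)
        (fun i _ => by simp [SelfDual24.word, ite_mul]), ← sum_filter, filter_univ_mem,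
        sum_pair (by simp)]
    have h4 := four_dvd_famCode (F := F₀) (by
        simp only [hF₀, mem_image, forall_exists_index, and_imp]
        rintro _ b hb rfl
        rw [card_image_of_injective _ ι.injective, addTwo, Finset.card_insertNone,
          Finset.card_insertNone, hk b hb]
        decide) (by
        simp only [hF₀, mem_image, forall_exists_index, and_imp]
        rintro _ b hb rfl _ c hc rfl
        rw [← image_inter _ _ ι.injective, card_image_of_injective _ ι.injective, inter_comm,
          card_addTwo_inter, if_pos (by simp [addTwo]), if_pos (by simp [addTwo])]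
        simp only [addTwo, Finset.eraseNone_insertNone]
        have := Nat.even_iff.1 (inter22 hα hB (mem_blockSet.1 hb) (mem_blockSet.1 hc))
        rw [Nat.even_iff, inter_comm]
        omega) hmem
    rw [SelfDual24.supp_word, card_pair (by simp)] at h4
    omega
  obtain ⟨x, hx, hxε⟩ := hodd
  have hex : ∃ n, ∃ v : Finset α, v.card = n ∧ ∀ b ∈ blockSet B, ¬ Even (b ∩ v).card := by
    refine ⟨_, ((SelfDual24.supp x).image ι.symm).eraseNone.eraseNone, rfl, fun b hb => ?_⟩
    have h := even_of_mem_dual hx (mem_image_of_mem (fun b => (addTwo b).image ι) hb)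
    have hmem : ∀ a, a ∈ (SelfDual24.supp x).image ι.symm ↔ x (ι a) ≠ 0 := fun a => by
      rw [mem_image]
      exact ⟨fun ⟨i, hi, hia⟩ => by rw [← hia, ι.apply_symm_apply]; exact SelfDual24.mem_supp.1 hi,
        fun ha => ⟨ι a, SelfDual24.mem_supp.2 ha, ι.symm_apply_apply a⟩⟩
    have hh : ((SelfDual24.supp x) ∩ (addTwo b).image ι).card =
        ((SelfDual24.supp x).image ι.symm ∩ addTwo b).card := by
      rw [← card_image_of_injective _ ι.symm.injective, image_inter _ _ ι.symm.injective, image_image,
        Equiv.symm_comp_self, image_id]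
    rw [hh, card_addTwo_inter] at h
    simp only [hmem] at h
    rw [Nat.even_iff] at h ⊢
    rcases SelfDual24.zmod_two (x (ι none)) with h1 | h1 <;>
      rcases SelfDual24.zmod_two (x (ι (some none))) with h2 | h2 <;>
      rw [h1, h2] at hxε <;> simp [h1, h2] at h hxε ⊢ <;> first | omega | exact absurd (by decide) hxε
  obtain ⟨v, hv7, hv⟩ : ∃ v : Finset α, v.card = Nat.find hex ∧ ∀ b ∈ blockSet B, ¬ Even (b ∩ v).card :=
    Nat.find_spec hex
  have hv3 : ∀ b ∈ blockSet B, (b ∩ v).card ≤ 3 := by
    intro b hb
    by_contra hgt
    have h1 : ∀ c ∈ blockSet B, ¬ Even (c ∩ (v ∆ b)).card := fun c hc => by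
      have e1 := Nat.not_even_iff.1 (hv c hc)
      have e2 := Nat.even_iff.1 (inter22 hα hB (mem_blockSet.1 hb) (mem_blockSet.1 hc))
      have h3 : c ∩ (v ∆ b) = (c ∩ v) ∆ (c ∩ b) := inf_symmDiff_distrib_left c v b
      have h4 : ((c ∩ v) ∆ (c ∩ b)).card + 2 * ((c ∩ v) ∩ (c ∩ b)).card =
          (c ∩ v).card + (c ∩ b).card := by
        have := card_union_add_card_inter ((c ∩ v) \ (c ∩ b)) ((c ∩ b) \ (c ∩ v))
        have h5 := card_sdiff_add_card_inter (c ∩ v) (c ∩ b)
        have h6 := card_sdiff_add_card_inter (c ∩ b) (c ∩ v)
        rw [inter_comm (c ∩ b)] at h6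
        rw [show (c ∩ v) ∆ (c ∩ b) = (c ∩ v) \ (c ∩ b) ∪ (c ∩ b) \ (c ∩ v) from rfl]
        have hd : Disjoint ((c ∩ v) \ (c ∩ b)) ((c ∩ b) \ (c ∩ v)) := disjoint_sdiff_sdiff
        rw [disjoint_iff_inter_eq_empty.1 hd, card_empty] at this
        omega
      rw [Nat.not_even_iff, h3]
      omega
    have hmin := Nat.find_min' hex ⟨v ∆ b, rfl, h1⟩
    have h5 := card_sdiff_add_card_inter v b
    have h6 := card_sdiff_add_card_inter b v
    have h7 : (v ∆ b).card ≤ (v \ b).card + (b \ v).card := card_union_le _ _
    rw [inter_comm] at hgt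
    rw [hk b hb, inter_comm] at h6
    omega
  have hvc : v.card = 7 := by
    have h1 := hsmall v hv
    obtain ⟨m, hm⟩ : ∃ m, v.card = m := ⟨_, rfl⟩
    have e := fun j l hj hl => moments hk hu v hm j l hj (by norm_num) hl
    have e0 := e 0 77 (by norm_num) (by rw [hα]; decide)
    have e1 := e 1 21 (by norm_num) (by rw [hα]; decide)
    have e2 := e 2 5 (by norm_num) (by rw [hα]; decide)
    have e3 := e 3 1 (by norm_num) (by rw [hα]; decide)
    have hm22 : m ≤ 22 := hm ▸ (card_le_univ v).trans hα.le
    have hm7 : 7 ≤ m := hm ▸ h1
    have hz : ∀ i, i ≠ 1 → i ≠ 3 → ((blockSet B).filter fun b => (b ∩ v).card = i).card = 0 :=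
      fun i hi hi' => count_eq_zero v i fun b hb h => by
        have := hv3 b hb
        have := Nat.not_even_iff.1 (hv b hb)
        omega
    rw [hm]
    interval_cases m <;> first
      | rfl
      | (simp [sum_range_succ, hz, Nat.choose] at e0 e1 e2 e3 <;> omega)
  -- the extended family
  set w : Finset (Option (Option α)) := insert none ((v.image some).image some) with hw
  have hwmem : ∀ a : α, some (some a) ∈ w ↔ a ∈ v := fun a => by simp [hw]
  have hw0 : none ∈ w := by simp [hw]
  have hw1 : some none ∉ w := by simp [hw]
  have hwe : w.eraseNone.eraseNone = v := by ext a; simp [hwmem]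
  have hwc : w.card = 8 := by rw [card_two_split, hwe, if_pos hw0, if_neg hw1, hvc]
  obtain ⟨e, he⟩ := exists_equiv_octads hΩ (insert w ((blockSet B).image addTwo))
    (by
      simp only [mem_insert, mem_image]
      rintro _ (rfl | ⟨b, hb, rfl⟩)
      · exact hwc
      · rw [addTwo, Finset.card_insertNone, Finset.card_insertNone, hk b hb])
    (by
      have hwb : ∀ b ∈ blockSet B, Even (w ∩ addTwo b).card := fun b hb => by
        rw [card_addTwo_inter, hwe, if_pos hw0, if_neg hw1, add_zero, Nat.even_add_one]
        exact hv b hb
      simp only [mem_insert, mem_image]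
      rintro _ (rfl | ⟨b, hb, rfl⟩) _ (rfl | ⟨c, hc, rfl⟩)
      · rw [inter_self, hwc]; decide
      · exact hwb c hc
      · rw [inter_comm]; exact hwb b hb
      · rw [inter_comm, card_addTwo_inter, if_pos (by simp [addTwo]), if_pos (by simp [addTwo])]
        simp only [addTwo, Finset.eraseNone_insertNone]
        have := Nat.even_iff.1 (inter22 hα hB (mem_blockSet.1 hb) (mem_blockSet.1 hc))
        rw [Nat.even_iff, inter_comm]
        omega)
    (fun u hu0 hu6 => by
      by_contra hno
      push Not at hno
      have hsplit := card_two_split u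
      have hpar : ∀ b ∈ blockSet B, Even ((b ∩ u.eraseNone.eraseNone).card +
          (if none ∈ u then 1 else 0) + (if some none ∈ u then 1 else 0)) := fun b hb => by
        rw [← card_addTwo_inter]; exact hno _ (mem_insert_of_mem (mem_image_of_mem _ hb))
      have hw' := hno w (mem_insert_self _ _)
      by_cases h0 : none ∈ u <;> by_cases h1 : some none ∈ u <;>
        simp only [h0, h1, if_true, if_false, add_zero, zero_add] at hsplit hpar
      · by_cases hu' : u.eraseNone.eraseNone = ∅
        · have : u ∩ w = {none} := by
            ext (_ | _ | a)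
            · simp [h0, hw0]
            · simp [h1, hw1]
            · have : some (some a) ∉ u := fun h => by
                have : a ∈ u.eraseNone.eraseNone := by simp [h]
                rw [hu'] at this
                exact notMem_empty _ this
              simp [this]
          rw [this, card_singleton] at hw'
          exact Nat.not_even_one hw'
        · have hB' := hblock _ hu' (by omega) fun b hb => by
            have := Nat.even_iff.1 (hpar b hb); rw [Nat.even_iff]; omega
          have := hB.1 _ hB'
          omega
      · have := hsmall u.eraseNone.eraseNone fun b hb =>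
          Nat.not_even_iff.2 (by have := Nat.even_iff.1 (hpar b hb); omega)
        omega
      · have := hsmall u.eraseNone.eraseNone fun b hb =>
          Nat.not_even_iff.2 (by have := Nat.even_iff.1 (hpar b hb); omega)
        omega
      · have hne : u.eraseNone.eraseNone ≠ ∅ := fun h => hu0 (card_eq_zero.1 (by rw [hsplit, h, card_empty]))
        have hB' := hblock _ hne (by omega) hpar
        refine hv _ (mem_blockSet.2 hB') ?_
        rw [inter_comm] at hw'
        have : w ∩ u = ((v ∩ u.eraseNone.eraseNone).image some).image some := by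
          ext (_ | _ | a)
          · simp [h0]
          · simp [h1]
          · simp [hwmem]
        rwa [this, card_image_of_injective _ (Option.some_injective _),
          card_image_of_injective _ (Option.some_injective _), inter_comm] at hw')
  obtain ⟨g, hg, hg0, hg1⟩ := Mathieu.exists_map_two (a := e none) (b := e (some none)) (c := none)
    (d := some 0) (fun h => by simpa using e.injective h) (by simp)
  let e' : Option (Option α) ≃ Option (Option Pt22) := (e.trans g).trans iota22.symm
  have he0 : e' none = none := by
    show iota22.symm (g (e none)) = none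
    rw [hg0, Equiv.symm_apply_eq, iota22_none]
  have he1 : e' (some none) = some none := by
    show iota22.symm (g (e (some none))) = some none
    rw [hg1, Equiv.symm_apply_eq, iota22_some_none]
  have h1 : ∀ x, e' (some x) = some (e'.removeNone x) := fun x => by
    refine (Equiv.removeNone_some e' ?_).symm
    cases hx : e' (some x) with
    | none => exact absurd (e'.injective (hx.trans he0.symm)) (by simp)
    | some y => exact ⟨y, rfl⟩
  have he1' : e'.removeNone none = none := Option.some_inj.1 ((h1 none).symm.trans he1)
  have h2 : ∀ x, e'.removeNone (some x) = some (e'.removeNone.removeNone x) := fun x => by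
    refine (Equiv.removeNone_some e'.removeNone ?_).symm
    cases hx : e'.removeNone (some x) with
    | none => exact absurd (e'.removeNone.injective (hx.trans he1'.symm)) (by simp)
    | some y => exact ⟨y, rfl⟩
  refine ⟨e'.removeNone.removeNone, image_eq_of_steiner hB std22_steiner (by norm_num) _ fun b hb => ?_⟩
  show (addTwo (b.image e'.removeNone.removeNone)).image iota22 ∈ octads
  rw [show addTwo (b.image e'.removeNone.removeNone) = (addTwo b).image e' by
      rw [addTwo, addTwo, ← image_insertNone b e'.removeNone _ he1' h2,
        ← image_insertNone _ e' _ he0 h1],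
    image_image,
    show (addTwo b).image (iota22 ∘ e') = g • (addTwo b).image e by
      rw [Finset.smul_finset_def, image_image]
      exact image_congr fun x _ => by simp [e']]
  exact Golay.smul_mem_octads hg (he _ (mem_insert_of_mem (mem_image_of_mem _ (mem_blockSet.2 hb))))

end CfsgLib.DesignUnique
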