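import Mathlib

/-! Certificates for the small Steiner systems: a standard system, isomorphisms from the leaves of
the search, and automorphisms. -/

set_option autoImplicit false

namespace CfsgLib.DesignUnique.SmallData

/-- The standard system. -/
def std11 : List ℕ := [31,103,122,171,188,205,214,241,301,307,334,345,372,405,410,422,451,488,558,565,595,604,617,647,665,690,714,740,779,790,824,837,866,908,929,976,1078,1081,1099,1109,1132,1166,1171,1189,1240,1250,1287,1308,1322,1362,1377,1417,1456,1476,1549,1562,1571,1606,1648,1684,1704,1729,1809,1828,1864,1922]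

/-- Isomorphisms from the leaves. -/
def maps11 : List (List ℕ) := [
  [0,1,2,3,4,5,6,7,8,9,10],
  [0,1,2,3,4,8,10,9,5,6,7],
  [0,1,2,3,4,10,8,6,9,7,5],
  [0,1,2,3,4,7,9,5,6,10,8],
  [0,1,2,3,4,6,5,10,7,8,9],
  [0,1,2,3,4,9,7,8,10,5,6]]

/-- Automorphisms fixing the first `k` points and moving point `k` to each later point. -/
def autos11 : List (List (List ℕ)) := [
  [[0,1,2,3,4,5,6,7,8,9,10],
    [1,0,2,3,4,7,9,5,10,6,8],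
    [2,0,1,3,4,9,7,10,5,8,6],
    [3,0,1,2,4,6,10,7,8,5,9],
    [4,0,1,2,3,5,8,9,10,6,7],
    [5,0,1,2,6,3,7,8,9,4,10],
    [6,0,1,2,5,4,9,10,7,3,8],
    [7,0,1,2,9,8,6,4,5,10,3],
    [8,0,1,2,10,9,3,6,4,7,5],
    [9,0,1,2,7,10,5,3,6,8,4],
    [10,0,1,2,8,7,4,5,3,9,6]],
  [[0,1,2,3,4,5,6,7,8,9,10],
    [0,2,1,3,4,10,8,9,6,7,5],
    [0,3,1,2,4,7,5,6,9,10,8],
    [0,4,1,2,3,9,6,5,7,8,10],
    [0,5,1,2,6,8,4,3,10,7,9],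
    [0,6,1,2,5,10,3,4,8,9,7],
    [0,7,1,2,9,4,10,8,3,6,5],
    [0,8,1,2,10,6,7,9,5,3,4],
    [0,9,1,2,7,3,8,10,4,5,6],
    [0,10,1,2,8,5,9,7,6,4,3]],
  [[0,1,2,3,4,5,6,7,8,9,10],
    [0,1,3,2,4,8,9,10,5,6,7],
    [0,1,4,2,3,10,7,8,6,5,9],
    [0,1,5,2,6,9,10,7,4,3,8],
    [0,1,6,2,5,7,8,9,3,4,10],
    [0,1,7,2,9,5,3,6,10,8,4],
    [0,1,8,2,10,4,5,3,7,9,6],
    [0,1,9,2,7,6,4,5,8,10,3],
    [0,1,10,2,8,3,6,4,9,7,5]],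
  [[0,1,2,3,4,5,6,7,8,9,10],
    [0,1,2,4,3,6,5,9,10,7,8],
    [0,1,2,5,6,4,3,8,9,10,7],
    [0,1,2,6,5,3,4,10,7,8,9],
    [0,1,2,7,9,10,8,4,5,3,6],
    [0,1,2,8,10,7,9,6,4,5,3],
    [0,1,2,9,7,8,10,3,6,4,5],
    [0,1,2,10,8,9,7,5,3,6,4]]]

/-- The standard system. -/
def std12 : List ℕ := [63,207,245,250,343,366,377,411,429,438,476,483,603,615,636,669,686,691,726,745,798,811,821,845,882,903,952,970,977,996,1117,1131,1142,1182,1191,1209,1235,1260,1295,1331,1340,1370,1381,1429,1450,1478,1481,1520,1559,1581,1594,1614,1649,1675,1716,1733,1752,1762,1817,1830,1859,1876,1896,1932,1938,1953,2142,2157,2163,2199,2219,2236,2265,2278,2333,2343,2362,2379,2420,2446,2481,2501,2514,2536,2575,2614,2617,2645,2666,2714,2725,2755,2764,2800,2835,2860,2886,2904,2913,2953,2964,2978,3099,3118,3125,3143,3192,3213,3250,3274,3284,3297,3350,3369,3404,3409,3426,3459,3480,3492,3612,3619,3657,3666,3684,3718,3729,3752,3845,3850,3888,4032]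

/-- Isomorphisms from the leaves. -/
def maps12 : List (List ℕ) := [
  [0,1,2,3,4,5,6,7,8,9,10,11],
  [0,1,2,3,4,5,9,11,10,6,7,8],
  [0,1,2,3,4,5,11,9,7,10,8,6],
  [0,1,2,3,4,5,8,10,6,7,11,9],
  [0,1,2,3,4,5,7,6,11,8,9,10],
  [0,1,2,3,4,5,10,8,9,11,6,7]]

/-- Automorphisms fixing the first `k` points and moving point `k` to each later point. -/
def autos12 : List (List (List ℕ)) := [
  [[0,1,2,3,4,5,6,7,8,9,10,11],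
    [1,0,2,3,4,5,9,11,10,6,8,7],
    [2,0,1,3,4,5,11,9,7,8,6,10],
    [3,0,1,2,4,5,6,7,9,10,11,8],
    [4,0,1,2,3,5,9,10,6,7,8,11],
    [5,0,1,2,3,4,11,8,7,6,10,9],
    [6,0,1,2,3,7,10,11,5,4,9,8],
    [7,0,1,2,3,6,8,9,4,5,11,10],
    [8,0,1,2,3,10,6,4,11,9,5,7],
    [9,0,1,2,3,11,5,6,8,10,7,4],
    [10,0,1,2,3,8,7,5,9,11,4,6],
    [11,0,1,2,3,9,4,7,10,8,6,5]],
  [[0,1,2,3,4,5,6,7,8,9,10,11],
    [0,2,1,3,4,5,8,10,6,11,7,9],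
    [0,3,1,2,4,5,10,8,11,6,9,7],
    [0,4,1,2,3,5,7,11,8,9,6,10],
    [0,5,1,2,3,4,6,9,10,11,7,8],
    [0,6,1,2,3,7,4,8,9,10,5,11],
    [0,7,1,2,3,6,5,10,11,8,4,9],
    [0,8,1,2,3,10,9,7,5,6,11,4],
    [0,9,1,2,3,11,10,4,7,5,8,6],
    [0,10,1,2,3,8,11,6,4,7,9,5],
    [0,11,1,2,3,9,8,5,6,4,10,7]],
  [[0,1,2,3,4,5,6,7,8,9,10,11],
    [0,1,3,2,4,5,11,9,10,7,8,6],
    [0,1,4,2,3,5,8,6,7,10,11,9],
    [0,1,5,2,3,4,10,7,6,8,9,11],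
    [0,1,6,2,3,7,9,5,4,11,8,10],
    [0,1,7,2,3,6,11,4,5,9,10,8],
    [0,1,8,2,3,10,5,11,9,4,7,6],
    [0,1,9,2,3,11,7,8,10,6,4,5],
    [0,1,10,2,3,8,4,9,11,5,6,7],
    [0,1,11,2,3,9,6,10,8,7,5,4]],
  [[0,1,2,3,4,5,6,7,8,9,10,11],
    [0,1,2,4,3,5,9,10,11,6,7,8],
    [0,1,2,5,3,4,11,8,9,7,6,10],
    [0,1,2,6,3,7,10,11,8,5,4,9],
    [0,1,2,7,3,6,8,9,10,4,5,11],
    [0,1,2,8,3,10,6,4,7,11,9,5],
    [0,1,2,9,3,11,5,6,4,8,10,7],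
    [0,1,2,10,3,8,7,5,6,9,11,4],
    [0,1,2,11,3,9,4,7,5,10,8,6]],
  [[0,1,2,3,4,5,6,7,8,9,10,11],
    [0,1,2,3,5,4,7,6,10,11,8,9],
    [0,1,2,3,6,7,5,4,9,10,11,8],
    [0,1,2,3,7,6,4,5,11,8,9,10],
    [0,1,2,3,8,10,11,9,5,6,4,7],
    [0,1,2,3,9,11,8,10,7,5,6,4],
    [0,1,2,3,10,8,9,11,4,7,5,6],
    [0,1,2,3,11,9,10,8,6,4,7,5]]]

end CfsgLib.DesignUnique.SmallData
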