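import Cfsg.Agent.DesignUnique.Search

/-! The case trees for the small Steiner systems. -/

set_option autoImplicit false

namespace CfsgLib.DesignUnique.SmallData

open Search

/-- A node. -/
def nd11_0 : Tree :=
  .node 60 [2,0,0,0,0,0,0,2,6,5,1] .none

/-- A node. -/
def nd11_1 : Tree :=
  .node 58 [3,0,0,0,0,0,0,6,3,4,0] (.child 6 122 nd11_0 .none)

/-- A node. -/
def nd11_2 : Tree :=
  .node 54 [0,0,0,3,0,0,6,0,2,3,0] (.child 10 1078 nd11_1 .none)

/-- A node. -/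
def nd11_3 : Tree :=
  .node 898 [13,0,14,14,10,13,10,0,0,0,0] (.child 10 1922 (.leaf 0) .none)

/-- A node. -/
def nd11_4 : Tree :=
  .node 840 [18,15,13,0,9,15,0,9,0,0,0] (.child 10 1864 nd11_3 .none)

/-- A node. -/
def nd11_5 : Tree :=
  .node 804 [11,14,0,12,18,0,14,11,0,0,0] (.child 10 1828 nd11_4 .none)

/-- A node. -/
def nd11_6 : Tree :=
  .node 785 [0,20,16,17,0,10,7,7,0,0,0] (.child 10 1809 nd11_5 .none)

/-- A node. -/
def nd11_7 : Tree :=
  .node 705 [0,26,15,26,6,9,0,0,6,0,0] (.child 10 1729 nd11_6 .none)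

/-- A node. -/
def nd11_8 : Tree :=
  .node 680 [8,25,9,0,15,0,21,0,8,0,0] (.child 10 1704 nd11_7 .none)

/-- A node. -/
def nd11_9 : Tree :=
  .node 660 [29,17,0,8,0,21,4,0,4,0,0] (.child 10 1684 nd11_8 .none)

/-- A node. -/
def nd11_10 : Tree :=
  .node 624 [38,9,20,13,0,0,0,3,3,0,0] (.child 10 1648 nd11_9 .none)

/-- A node. -/
def nd11_11 : Tree :=
  .node 582 [11,0,0,22,15,8,0,19,8,0,0] (.child 10 1606 nd11_10 .none)

/-- A node. -/
def nd11_12 : Tree :=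
  .node 538 [15,0,14,0,0,11,21,21,11,0,0] (.child 10 1562 nd11_11 .none)

/-- A node. -/
def nd11_13 : Tree :=
  .node 525 [0,14,0,0,25,40,9,4,4,0,0] (.child 10 1549 nd11_12 .none)

/-- A node. -/
def nd11_14 : Tree :=
  .node 464 [20,7,0,15,0,1,0,0,0,0,0] (.child 9 976 nd11_13 .none)

/-- A node. -/
def nd11_15 : Tree :=
  .node 452 [7,19,0,2,25,14,0,0,0,2,0] (.child 10 1476 nd11_14 .none)

/-- A node. -/
def nd11_16 : Tree :=
  .node 432 [0,19,20,7,0,0,13,0,0,0,0] (.child 10 1456 nd11_15 .none)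

/-- A node. -/
def nd11_17 : Tree :=
  .node 417 [0,17,19,1,23,0,3,0,0,0,1] (.child 9 929 nd11_16 .none)

/-- A node. -/
def nd11_18 : Tree :=
  .node 396 [0,18,0,0,7,11,11,0,0,0,0] (.child 9 908 nd11_17 .none)

/-- A node. -/
def nd11_19 : Tree :=
  .node 393 [0,8,21,0,18,10,10,0,0,8,0] (.child 10 1417 nd11_18 .none)

/-- A node. -/
def nd11_20 : Tree :=
  .node 354 [0,0,16,4,1,0,0,9,0,0,0] (.child 9 866 nd11_19 .none)

/-- A node. -/
def nd11_21 : Tree :=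
  .node 353 [0,13,1,8,22,0,0,8,0,1,0] (.child 10 1377 nd11_20 .none)

/-- A node. -/
def nd11_22 : Tree :=
  .node 338 [12,0,4,15,0,21,0,12,0,4,0] (.child 10 1362 nd11_21 .none)

/-- A node. -/
def nd11_23 : Tree :=
  .node 325 [0,5,0,26,17,20,0,11,0,0,5] (.child 9 837 nd11_22 .none)

/-- A node. -/
def nd11_24 : Tree :=
  .node 312 [28,0,1,0,0,0,5,5,0,0,0] (.child 9 824 nd11_23 .none)

/-- A node. -/
def nd11_25 : Tree :=
  .node 298 [2,0,11,0,12,0,4,4,0,2,0] (.child 10 1322 nd11_24 .none)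

/-- A node. -/
def nd11_26 : Tree :=
  .node 284 [14,0,0,0,0,17,17,11,0,0,0] (.child 10 1308 nd11_25 .none)

/-- A node. -/
def nd11_27 : Tree :=
  .node 278 [1,0,0,10,0,9,16,9,0,0,1] (.child 9 790 nd11_26 .none)

/-- A node. -/
def nd11_28 : Tree :=
  .node 267 [0,0,0,0,9,34,6,6,0,0,0] (.child 9 779 nd11_27 .none)

/-- A node. -/
def nd11_29 : Tree :=
  .node 263 [0,0,0,20,11,7,5,5,0,10,0] (.child 10 1287 nd11_28 .none)

/-- A node. -/
def nd11_30 : Tree :=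
  .node 232 [20,1,0,0,2,0,0,0,0,0,1] (.child 8 488 nd11_29 .none)

/-- A node. -/
def nd11_31 : Tree :=
  .node 228 [19,0,0,13,12,0,0,0,5,0,0] (.child 9 740 nd11_30 .none)

/-- A node. -/
def nd11_32 : Tree :=
  .node 226 [2,0,4,1,3,0,0,0,2,1,0] (.child 10 1250 nd11_31 .none)

/-- A node. -/
def nd11_33 : Tree :=
  .node 216 [5,0,12,0,0,22,0,0,4,0,0] (.child 10 1240 nd11_32 .none)

/-- A node. -/
def nd11_34 : Tree :=
  .node 202 [0,0,8,0,3,22,0,0,0,0,8] (.child 9 714 nd11_33 .none)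

/-- A node. -/
def nd11_35 : Tree :=
  .node 195 [0,0,4,15,6,23,0,0,0,4,6] (.child 8 451 nd11_34 .none)

/-- A node. -/
def nd11_36 : Tree :=
  .node 178 [5,0,0,1,0,0,10,0,0,0,5] (.child 9 690 nd11_35 .none)

/-- A node. -/
def nd11_37 : Tree :=
  .node 166 [2,0,0,5,9,0,9,0,0,2,5] (.child 8 422 nd11_36 .none)

/-- A node. -/
def nd11_38 : Tree :=
  .node 154 [0,0,4,0,0,17,8,0,0,0,3] (.child 8 410 nd11_37 .none)

/-- A node. -/
def nd11_39 : Tree :=
  .node 153 [0,2,1,0,0,16,11,0,1,0,2] (.child 9 665 nd11_38 .none)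

/-- A node. -/
def nd11_40 : Tree :=
  .node 135 [0,0,0,2,0,19,6,0,0,0,1] (.child 9 647 nd11_39 .none)

/-- A node. -/
def nd11_41 : Tree :=
  .node 149 [0,0,0,9,0,14,5,0,0,19,0] (.child 8 405 nd11_40 .none)

/-- A node. -/
def nd11_42 : Tree :=
  .node 147 [0,0,4,23,0,16,4,0,20,6,0] (.child 10 1171 nd11_41 .none)

/-- A node. -/
def nd11_43 : Tree :=
  .node 142 [7,0,0,0,3,12,3,0,6,20,0] (.child 10 1166 nd11_42 .none)

/-- A node. -/
def nd11_44 : Tree :=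
  .node 116 [3,2,0,0,0,0,0,2,0,1,0] (.child 8 372 nd11_43 .none)

/-- A node. -/
def nd11_45 : Tree :=
  .node 108 [5,4,0,0,0,0,0,5,4,0,0] (.child 10 1132 nd11_44 .none)

/-- A node. -/
def nd11_46 : Tree :=
  .node 92 [1,0,0,0,0,9,0,0,3,0,1] (.child 9 604 nd11_45 .none)

/-- A node. -/
def nd11_47 : Tree :=
  .node 86 [0,0,0,2,0,7,0,0,2,1,0] (.child 7 214 nd11_46 .none)

/-- A node. -/
def nd11_48 : Tree :=
  .node 85 [0,0,0,2,0,10,0,2,4,0,0] (.child 10 1109 nd11_47 .none)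

/-- A node. -/
def nd11_49 : Tree :=
  .node 83 [0,0,17,2,0,7,0,9,3,0,2] (.child 9 595 nd11_48 .none)

/-- A node. -/
def nd11_50 : Tree :=
  .node 78 [0,0,0,0,6,6,0,0,0,13,1] (.child 8 334 nd11_49 .none)

/-- A node. -/
def nd11_51 : Tree :=
  .node 77 [0,0,0,0,1,2,0,0,1,2,0] (.child 7 205 nd11_50 .none)

/-- A node. -/
def nd11_52 : Tree :=
  .node 75 [0,0,14,0,0,1,0,13,0,1,0] (.child 10 1099 nd11_51 .none)

/-- A node. -/
def nd11_53 : Tree :=
  .node 89 [0,3,14,0,0,0,0,5,0,0,4] (.child 8 345 nd11_52 .none)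

/-- A node. -/
def nd11_54 : Tree :=
  .node 105 [0,2,10,0,2,0,0,4,10,0,3] (.child 9 617 nd11_53 .none)

/-- A node. -/
def nd11_55 : Tree :=
  .node 54 [5,0,0,0,0,0,1,0,7,5,0] (.child 10 1078 nd11_54 .none)

/-- A node. -/
def nd11_56 : Tree :=
  .node 60 [1,0,0,0,0,0,0,0,8,4,1] (.child 7 188 nd11_55 .none)

/-- A node. -/
def nd11_57 : Tree :=
  .node 58 [0,0,6,0,0,0,0,8,5,6,0] (.child 6 122 nd11_56 .none)

/-- A node. -/
def nd11_58 : Tree :=
  .node 57 [0,4,2,0,0,0,0,0,4,2,0] (.child 10 1081 nd11_57 .none)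

/-- A node. -/
def nd11_59 : Tree :=
  .node 177 [0,3,0,6,0,0,0,0,3,1,0] (.child 6 241 nd11_58 .none)

/-- A node. -/
def nd11_60 : Tree :=
  .node 165 [0,5,0,4,0,0,6,0,4,0,0] (.child 10 1189 nd11_59 .none)

/-- A node. -/
def nd11_61 : Tree :=
  .node 900 [15,12,0,15,10,12,10,0,0,0,0] (.child 10 1924 (.leaf 1) .none)

/-- A node. -/
def nd11_62 : Tree :=
  .node 834 [16,0,17,17,9,11,0,9,0,0,0] (.child 10 1858 nd11_61 .none)

/-- A node. -/
def nd11_63 : Tree :=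
  .node 808 [13,10,16,0,18,0,15,10,0,0,0] (.child 10 1832 nd11_62 .none)

/-- A node. -/
def nd11_64 : Tree :=
  .node 785 [0,20,17,12,0,14,7,7,0,0,0] (.child 10 1809 nd11_63 .none)

/-- A node. -/
def nd11_65 : Tree :=
  .node 705 [0,26,26,11,6,13,0,0,6,0,0] (.child 10 1729 nd11_64 .none)

/-- A node. -/
def nd11_66 : Tree :=
  .node 688 [29,7,15,21,0,0,5,0,5,0,0] (.child 10 1712 nd11_65 .none)

/-- A node. -/
def nd11_67 : Tree :=
  .node 650 [9,0,24,0,17,6,20,0,6,0,0] (.child 10 1674 nd11_66 .none)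

/-- A node. -/
def nd11_68 : Tree :=
  .node 612 [10,23,0,11,13,0,0,19,10,0,0] (.child 10 1636 nd11_67 .none)

/-- A node. -/
def nd11_69 : Tree :=
  .node 600 [38,15,10,0,0,18,0,2,2,0,0] (.child 10 1624 nd11_68 .none)

/-- A node. -/
def nd11_70 : Tree :=
  .node 534 [16,0,0,14,0,11,21,21,11,0,0] (.child 10 1558 nd11_69 .none)

/-- A node. -/
def nd11_71 : Tree :=
  .node 525 [0,15,0,0,25,24,8,5,5,0,0] (.child 10 1549 nd11_70 .none)

/-- A node. -/
def nd11_72 : Tree :=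
  .node 464 [20,3,16,0,0,5,0,0,0,0,0] (.child 9 976 nd11_71 .none)

/-- A node. -/
def nd11_73 : Tree :=
  .node 456 [3,19,6,0,20,14,0,0,0,3,0] (.child 10 1480 nd11_72 .none)

/-- A node. -/
def nd11_74 : Tree :=
  .node 418 [0,0,8,19,1,0,14,0,0,0,0] (.child 9 930 nd11_73 .none)

/-- A node. -/
def nd11_75 : Tree :=
  .node 417 [0,17,13,1,18,0,3,0,0,1,0] (.child 10 1441 nd11_74 .none)

/-- A node. -/
def nd11_76 : Tree :=
  .node 402 [16,0,22,8,0,17,16,0,0,8,0] (.child 10 1426 nd11_75 .none)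

/-- A node. -/
def nd11_77 : Tree :=
  .node 393 [0,8,21,0,16,16,15,0,0,0,8] (.child 9 905 nd11_76 .none)

/-- A node. -/
def nd11_78 : Tree :=
  .node 368 [0,24,3,15,0,0,0,10,0,0,0] (.child 10 1392 nd11_77 .none)

/-- A node. -/
def nd11_79 : Tree :=
  .node 353 [0,13,1,29,24,0,0,9,0,0,1] (.child 9 865 nd11_78 .none)

/-- A node. -/
def nd11_80 : Tree :=
  .node 332 [0,21,0,0,3,8,0,8,0,0,0] (.child 9 844 nd11_79 .none)

/-- A node. -/
def nd11_81 : Tree :=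
  .node 325 [0,5,0,27,17,7,0,7,0,5,0] (.child 10 1349 nd11_80 .none)

/-- A node. -/
def nd11_82 : Tree :=
  .node 308 [16,0,0,1,0,0,6,6,0,0,0] (.child 9 820 nd11_81 .none)

/-- A node. -/
def nd11_83 : Tree :=
  .node 294 [3,0,0,18,23,0,5,5,0,3,0] (.child 10 1318 nd11_82 .none)

/-- A node. -/
def nd11_84 : Tree :=
  .node 284 [14,0,0,0,0,9,22,9,0,0,0] (.child 10 1308 nd11_83 .none)

/-- A node. -/
def nd11_85 : Tree :=
  .node 282 [0,0,16,0,0,8,20,8,0,0,0] (.child 9 794 nd11_84 .none)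

/-- A node. -/
def nd11_86 : Tree :=
  .node 267 [0,0,0,0,22,26,6,6,0,0,0] (.child 10 1291 nd11_85 .none)

/-- A node. -/
def nd11_87 : Tree :=
  .node 263 [0,0,0,14,11,33,5,5,0,0,12] (.child 9 775 nd11_86 .none)

/-- A node. -/
def nd11_88 : Tree :=
  .node 232 [15,1,0,0,5,0,0,0,0,0,1] (.child 9 744 nd11_87 .none)

/-- A node. -/
def nd11_89 : Tree :=
  .node 228 [6,0,0,5,1,0,0,0,0,2,0] (.child 8 484 nd11_88 .none)

/-- A node. -/
def nd11_90 : Tree :=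
  .node 226 [2,0,1,15,12,0,0,0,2,1,0] (.child 10 1250 nd11_89 .none)

/-- A node. -/
def nd11_91 : Tree :=
  .node 212 [7,0,0,5,0,12,0,0,7,0,0] (.child 10 1236 nd11_90 .none)

/-- A node. -/
def nd11_92 : Tree :=
  .node 198 [0,0,0,9,13,25,0,0,0,0,7] (.child 9 710 nd11_91 .none)

/-- A node. -/
def nd11_93 : Tree :=
  .node 195 [0,0,6,12,7,10,0,0,0,7,6] (.child 8 451 nd11_92 .none)

/-- A node. -/
def nd11_94 : Tree :=
  .node 184 [3,11,0,0,0,0,9,0,0,2,0] (.child 8 440 nd11_93 .none)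

/-- A node. -/
def nd11_95 : Tree :=
  .node 172 [0,6,0,0,1,0,15,0,6,0,0] (.child 10 1196 nd11_94 .none)

/-- A node. -/
def nd11_96 : Tree :=
  .node 165 [0,3,0,14,2,0,7,0,2,0,3] (.child 9 677 nd11_95 .none)

/-- A node. -/
def nd11_97 : Tree :=
  .node 156 [0,4,0,0,0,19,8,0,1,0,0] (.child 9 668 nd11_96 .none)

/-- A node. -/
def nd11_98 : Tree :=
  .node 153 [0,2,0,0,0,5,5,0,0,2,0] (.child 10 1177 nd11_97 .none)

/-- A node. -/
def nd11_99 : Tree :=
  .node 149 [0,0,0,11,0,4,4,0,0,1,0] (.child 8 405 nd11_98 .none)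

/-- A node. -/
def nd11_100 : Tree :=
  .node 135 [0,0,0,1,0,17,10,0,1,0,0] (.child 10 1159 nd11_99 .none)

/-- A node. -/
def nd11_101 : Tree :=
  .node 147 [0,0,16,4,0,2,2,0,19,0,3] (.child 9 659 nd11_100 .none)

/-- A node. -/
def nd11_102 : Tree :=
  .node 142 [8,0,0,0,3,15,3,0,0,19,7] (.child 8 398 nd11_101 .none)

/-- A node. -/
def nd11_103 : Tree :=
  .node 114 [0,0,3,2,0,0,0,0,3,0,1] (.child 9 626 nd11_102 .none)

/-- A node. -/
def nd11_104 : Tree :=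
  .node 113 [0,0,3,4,0,0,0,0,4,3,0] (.child 7 241 nd11_103 .none)

/-- A node. -/
def nd11_105 : Tree :=
  .node 83 [0,0,1,0,0,15,0,0,1,2,0] (.child 10 1107 nd11_104 .none)

/-- A node. -/
def nd11_106 : Tree :=
  .node 90 [2,0,0,0,0,6,0,0,0,5,3] (.child 7 218 nd11_105 .none)

/-- A node. -/
def nd11_107 : Tree :=
  .node 86 [0,0,0,2,0,9,0,10,0,0,2] (.child 8 342 nd11_106 .none)

/-- A node. -/
def nd11_108 : Tree :=
  .node 85 [0,16,0,0,0,8,0,2,0,0,10] (.child 9 597 nd11_107 .none)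

/-- A node. -/
def nd11_109 : Tree :=
  .node 89 [0,2,1,0,0,4,0,1,0,2,4] (.child 8 345 nd11_108 .none)

/-- A node. -/
def nd11_110 : Tree :=
  .node 78 [0,0,0,0,6,2,0,0,2,1,0] (.child 10 1102 nd11_109 .none)

/-- A node. -/
def nd11_111 : Tree :=
  .node 77 [0,0,0,0,5,2,0,0,11,0,2] (.child 7 205 nd11_110 .none)

/-- A node. -/
def nd11_112 : Tree :=
  .node 75 [0,0,12,0,13,0,0,11,0,0,1] (.child 9 587 nd11_111 .none)

/-- A node. -/
def nd11_113 : Tree :=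
  .node 106 [0,0,3,0,1,0,0,10,0,8,0] (.child 8 362 nd11_112 .none)

/-- A node. -/
def nd11_114 : Tree :=
  .node 105 [0,9,2,0,1,0,0,9,8,1,0] (.child 10 1129 nd11_113 .none)

/-- A node. -/
def nd11_115 : Tree :=
  .node 58 [0,0,1,0,0,0,1,2,5,0,0] (.child 10 1082 nd11_114 .none)

/-- A node. -/
def nd11_116 : Tree :=
  .node 57 [0,4,0,0,0,0,0,7,4,0,2] (.child 9 569 nd11_115 .none)

/-- A node. -/
def nd11_117 : Tree :=
  .node 60 [1,0,0,0,0,0,0,0,5,4,1] (.child 6 124 nd11_116 .none)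

/-- A node. -/
def nd11_118 : Tree :=
  .node 54 [0,0,0,3,0,0,6,0,2,3,0] (.child 7 182 nd11_117 .none)

/-- A node. -/
def nd11_119 : Tree :=
  .node 53 [0,1,0,3,0,0,5,0,1,0,0] (.child 7 181 nd11_2 (.child 9 565 nd11_60 (.child 10 1077 nd11_118 .none)))

/-- A node. -/
def nd11_120 : Tree :=
  .node 547 [0,0,1,1,0,0,4,3,0,0,0] (.child 10 1571 nd11_119 .none)

/-- A node. -/
def nd11_121 : Tree :=
  .node 900 [14,15,0,15,11,14,11,0,0,0,0] (.child 10 1924 (.leaf 2) .none)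

/-- A node. -/
def nd11_122 : Tree :=
  .node 833 [0,17,19,19,10,13,0,10,0,0,0] (.child 10 1857 nd11_121 .none)

/-- A node. -/
def nd11_123 : Tree :=
  .node 808 [12,13,18,0,19,0,16,12,0,0,0] (.child 10 1832 nd11_122 .none)

/-- A node. -/
def nd11_124 : Tree :=
  .node 786 [19,0,18,12,0,15,8,8,0,0,0] (.child 10 1810 nd11_123 .none)

/-- A node. -/
def nd11_125 : Tree :=
  .node 712 [27,11,16,0,7,22,0,0,7,0,0] (.child 10 1736 nd11_124 .none)

/-- A node. -/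
def nd11_126 : Tree :=
  .node 674 [9,0,22,10,27,0,13,0,9,0,0] (.child 10 1698 nd11_125 .none)

/-- A node. -/
def nd11_127 : Tree :=
  .node 657 [0,25,31,16,0,8,5,0,5,0,0] (.child 10 1681 nd11_126 .none)

/-- A node. -/
def nd11_128 : Tree :=
  .node 624 [38,11,14,25,0,0,0,4,4,0,0] (.child 10 1648 nd11_127 .none)

/-- A node. -/
def nd11_129 : Tree :=
  .node 582 [17,0,0,12,29,10,0,19,10,0,0] (.child 10 1606 nd11_128 .none)

/-- A node. -/
def nd11_130 : Tree :=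
  .node 549 [0,16,0,31,12,0,18,5,5,0,0] (.child 10 1573 nd11_129 .none)

/-- A node. -/
def nd11_131 : Tree :=
  .node 540 [12,27,0,0,0,11,10,22,10,0,0] (.child 10 1564 nd11_130 .none)

/-- A node. -/
def nd11_132 : Tree :=
  .node 523 [0,0,14,0,11,40,20,4,4,0,0] (.child 10 1547 nd11_131 .none)

/-- A node. -/
def nd11_133 : Tree :=
  .node 464 [18,0,17,7,0,1,0,0,0,0,0] (.child 9 976 nd11_132 .none)

/-- A node. -/
def nd11_134 : Tree :=
  .node 450 [17,0,17,2,26,5,0,0,0,2,0] (.child 10 1474 nd11_133 .none)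

/-- A node. -/
def nd11_135 : Tree :=
  .node 432 [0,20,7,12,0,0,12,0,0,0,0] (.child 10 1456 nd11_134 .none)

/-- A node. -/
def nd11_136 : Tree :=
  .node 417 [0,19,15,1,24,0,11,0,0,0,1] (.child 9 929 nd11_135 .none)

/-- A node. -/
def nd11_137 : Tree :=
  .node 394 [0,0,8,0,19,10,10,0,0,0,0] (.child 9 906 nd11_136 .none)

/-- A node. -/
def nd11_138 : Tree :=
  .node 393 [0,22,13,0,5,9,9,0,0,5,0] (.child 10 1417 nd11_137 .none)

/-- A node. -/
def nd11_139 : Tree :=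
  .node 356 [12,0,0,2,3,0,0,8,0,0,0] (.child 10 1380 nd11_138 .none)

/-- A node. -/
def nd11_140 : Tree :=
  .node 354 [29,0,15,7,22,0,0,7,0,0,23] (.child 9 866 nd11_139 .none)

/-- A node. -/
def nd11_141 : Tree :=
  .node 344 [2,23,0,0,0,6,0,6,0,0,0] (.child 10 1368 nd11_140 .none)

/-- A node. -/
def nd11_142 : Tree :=
  .node 332 [9,3,0,0,14,5,0,5,0,0,3] (.child 9 844 nd11_141 .none)

/-- A node. -/
def nd11_143 : Tree :=
  .node 308 [1,12,0,13,0,0,22,12,0,0,1] (.child 9 820 nd11_142 .none)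

/-- A node. -/
def nd11_144 : Tree :=
  .node 281 [0,16,0,0,0,30,25,12,0,0,0] (.child 9 793 nd11_143 .none)

/-- A node. -/
def nd11_145 : Tree :=
  .node 277 [0,1,0,11,0,32,6,6,0,1,0] (.child 10 1301 nd11_144 .none)

/-- A node. -/
def nd11_146 : Tree :=
  .node 270 [0,0,0,0,10,9,19,9,0,0,0] (.child 10 1294 nd11_145 .none)

/-- A node. -/
def nd11_147 : Tree :=
  .node 263 [0,0,0,22,13,8,4,4,0,0,12] (.child 9 775 nd11_146 .none)

/-- A node. -/
def nd11_148 : Tree :=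
  .node 232 [1,14,0,0,5,0,0,0,0,0,1] (.child 8 488 nd11_147 .none)

/-- A node. -/
def nd11_149 : Tree :=
  .node 228 [0,6,0,5,1,0,0,0,2,0,0] (.child 9 740 nd11_148 .none)

/-- A node. -/
def nd11_150 : Tree :=
  .node 225 [0,2,1,21,12,0,0,0,1,2,0] (.child 10 1249 nd11_149 .none)

/-- A node. -/
def nd11_151 : Tree :=
  .node 212 [0,7,0,5,0,11,0,0,0,7,0] (.child 10 1236 nd11_150 .none)

/-- A node. -/
def nd11_152 : Tree :=
  .node 197 [0,0,0,9,14,26,0,0,0,0,7] (.child 8 453 nd11_151 .none)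

/-- A node. -/
def nd11_153 : Tree :=
  .node 195 [0,0,6,15,7,9,0,0,7,0,6] (.child 9 707 nd11_152 .none)

/-- A node. -/
def nd11_154 : Tree :=
  .node 184 [17,3,0,0,0,0,8,0,2,0,0] (.child 9 696 nd11_153 .none)

/-- A node. -/
def nd11_155 : Tree :=
  .node 172 [6,0,0,0,1,0,13,0,0,6,0] (.child 10 1196 nd11_154 .none)

/-- A node. -/
def nd11_156 : Tree :=
  .node 166 [3,0,0,12,2,0,6,0,0,2,3] (.child 8 422 nd11_155 .none)

/-- A node. -/
def nd11_157 : Tree :=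
  .node 156 [4,0,0,0,0,18,11,0,0,1,0] (.child 8 412 nd11_156 .none)

/-- A node. -/
def nd11_158 : Tree :=
  .node 154 [2,0,0,0,0,4,4,0,2,0,0] (.child 10 1178 nd11_157 .none)

/-- A node. -/
def nd11_159 : Tree :=
  .node 150 [0,0,0,9,0,3,3,0,1,0,0] (.child 9 662 nd11_158 .none)

/-- A node. -/
def nd11_160 : Tree :=
  .node 135 [0,0,0,1,0,18,8,0,0,1,0] (.child 10 1159 nd11_159 .none)

/-- A node. -/
def nd11_161 : Tree :=
  .node 147 [0,0,17,10,0,1,1,0,0,19,6] (.child 8 403 nd11_160 .none)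

/-- A node. -/
def nd11_162 : Tree :=
  .node 141 [0,6,0,0,9,16,6,0,20,0,8] (.child 9 653 nd11_161 .none)

/-- A node. -/
def nd11_163 : Tree :=
  .node 114 [4,0,2,0,0,0,0,0,2,1,0] (.child 7 242 nd11_162 .none)

/-- A node. -/
def nd11_164 : Tree :=
  .node 106 [5,0,4,0,0,0,0,4,5,0,0] (.child 10 1130 nd11_163 .none)

/-- A node. -/
def nd11_165 : Tree :=
  .node 90 [2,0,0,0,0,9,0,3,0,0,2] (.child 9 602 nd11_164 .none)

/-- A node. -/
def nd11_166 : Tree :=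
  .node 86 [0,0,0,2,0,7,0,2,0,0,1] (.child 8 342 nd11_165 .none)

/-- A node. -/
def nd11_167 : Tree :=
  .node 85 [0,0,0,3,0,8,0,4,10,0,0] (.child 9 597 nd11_166 .none)

/-- A node. -/
def nd11_168 : Tree :=
  .node 83 [0,0,16,1,0,9,0,3,1,12,0] (.child 10 1107 nd11_167 .none)

/-- A node. -/
def nd11_169 : Tree :=
  .node 78 [0,0,0,0,6,6,0,0,0,12,1] (.child 7 206 nd11_168 .none)

/-- A node. -/
def nd11_170 : Tree :=
  .node 75 [0,0,0,0,1,2,0,1,0,2,0] (.child 8 331 nd11_169 .none)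

/-- A node. -/
def nd11_171 : Tree :=
  .node 77 [0,13,0,0,0,1,0,0,11,1,0] (.child 10 1101 nd11_170 .none)

/-- A node. -/
def nd11_172 : Tree :=
  .node 89 [0,13,3,0,0,0,0,0,5,0,4] (.child 7 217 nd11_171 .none)

/-- A node. -/
def nd11_173 : Tree :=
  .node 105 [0,10,2,0,2,0,0,10,4,0,3] (.child 9 617 nd11_172 .none)

/-- A node. -/
def nd11_174 : Tree :=
  .node 54 [4,0,0,0,0,0,1,4,0,6,0] (.child 10 1078 nd11_173 .none)

/-- A node. -/
def nd11_175 : Tree :=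
  .node 58 [1,0,0,0,0,0,0,8,0,5,1] (.child 8 314 nd11_174 .none)

/-- A node. -/
def nd11_176 : Tree :=
  .node 60 [0,5,0,0,0,0,0,2,6,5,0] (.child 6 124 nd11_175 .none)

/-- A node. -/
def nd11_177 : Tree :=
  .node 57 [0,3,1,0,0,0,0,1,0,3,0] (.child 10 1081 nd11_176 .none)

/-- A node. -/
def nd11_178 : Tree :=
  .node 305 [0,1,0,4,0,0,0,0,0,2,1] (.child 6 369 nd11_177 .none)

/-- A node. -/
def nd11_179 : Tree :=
  .node 897 [0,14,16,16,11,14,11,0,0,0,0] (.child 10 1921 (.leaf 3) .none)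

/-- A node. -/
def nd11_180 : Tree :=
  .node 840 [17,18,15,0,10,17,0,10,0,0,0] (.child 10 1864 nd11_179 .none)

/-- A node. -/
def nd11_181 : Tree :=
  .node 804 [16,12,0,14,19,0,16,12,0,0,0] (.child 10 1828 nd11_180 .none)

/-- A node. -/
def nd11_182 : Tree :=
  .node 786 [20,0,16,18,0,11,8,8,0,0,0] (.child 10 1810 nd11_181 .none)

/-- A node. -/
def nd11_183 : Tree :=
  .node 708 [27,15,0,12,7,22,0,0,7,0,0] (.child 10 1732 nd11_182 .none)

/-- A node. -/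
def nd11_184 : Tree :=
  .node 688 [27,9,29,16,0,0,6,0,6,0,0] (.child 10 1712 nd11_183 .none)

/-- A node. -/
def nd11_185 : Tree :=
  .node 650 [19,0,10,0,29,8,20,0,8,0,0] (.child 10 1674 nd11_184 .none)

/-- A node. -/
def nd11_186 : Tree :=
  .node 610 [11,0,12,19,34,0,0,7,7,0,0] (.child 10 1634 nd11_185 .none)

/-- A node. -/
def nd11_187 : Tree :=
  .node 593 [0,23,15,27,0,10,0,3,3,0,0] (.child 10 1617 nd11_186 .none)

/-- A node. -/
def nd11_188 : Tree :=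
  .node 553 [0,16,25,0,12,0,9,17,9,0,0] (.child 10 1577 nd11_187 .none)

/-- A node. -/
def nd11_189 : Tree :=
  .node 540 [13,28,0,0,0,11,31,6,6,0,0] (.child 10 1564 nd11_188 .none)

/-- A node. -/
def nd11_190 : Tree :=
  .node 519 [0,0,0,14,12,23,8,20,8,0,0] (.child 10 1543 nd11_189 .none)

/-- A node. -/
def nd11_191 : Tree :=
  .node 464 [18,0,3,17,0,5,0,0,0,0,0] (.child 9 976 nd11_190 .none)

/-- A node. -/
def nd11_192 : Tree :=
  .node 450 [17,0,6,17,23,1,0,0,0,1,0] (.child 10 1474 nd11_191 .none)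

/-- A node. -/
def nd11_193 : Tree :=
  .node 424 [16,0,2,0,7,0,12,0,0,0,0] (.child 10 1448 nd11_192 .none)

/-- A node. -/
def nd11_194 : Tree :=
  .node 418 [17,0,12,21,17,0,12,0,0,0,18] (.child 9 930 nd11_193 .none)

/-- A node. -/
def nd11_195 : Tree :=
  .node 404 [7,20,0,0,0,11,11,0,0,0,0] (.child 10 1428 nd11_194 .none)

/-- A node. -/
def nd11_196 : Tree :=
  .node 396 [13,7,0,0,19,10,10,0,0,0,7] (.child 9 908 nd11_195 .none)

/-- A node. -/
def nd11_197 : Tree :=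
  .node 368 [0,24,9,3,0,0,0,9,0,0,0] (.child 10 1392 nd11_196 .none)

/-- A node. -/
def nd11_198 : Tree :=
  .node 353 [0,24,1,11,13,0,0,8,0,0,1] (.child 9 865 nd11_197 .none)

/-- A node. -/
def nd11_199 : Tree :=
  .node 326 [0,0,0,4,23,7,0,7,0,0,0] (.child 9 838 nd11_198 .none)

/-- A node. -/
def nd11_200 : Tree :=
  .node 325 [0,16,0,9,2,6,0,6,0,2,0] (.child 10 1349 nd11_199 .none)

/-- A node. -/
def nd11_201 : Tree :=
  .node 312 [0,14,23,0,0,0,23,10,0,0,0] (.child 9 824 nd11_200 .none)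

/-- A node. -/
def nd11_202 : Tree :=
  .node 281 [0,2,0,0,0,9,7,7,0,0,0] (.child 10 1305 nd11_201 .none)

/-- A node. -/
def nd11_203 : Tree :=
  .node 277 [0,13,0,21,0,8,19,8,0,0,33] (.child 9 789 nd11_202 .none)

/-- A node. -/
def nd11_204 : Tree :=
  .node 270 [0,0,0,0,11,27,20,11,0,0,0] (.child 10 1294 nd11_203 .none)

/-- A node. -/
def nd11_205 : Tree :=
  .node 267 [0,0,11,0,10,26,4,4,0,0,22] (.child 9 779 nd11_204 .none)

/-- A node. -/
def nd11_206 : Tree :=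
  .node 232 [1,15,0,0,2,0,0,0,0,0,1] (.child 9 744 nd11_205 .none)

/-- A node. -/
def nd11_207 : Tree :=
  .node 228 [0,5,0,22,13,0,0,0,0,6,0] (.child 8 484 nd11_206 .none)

/-- A node. -/
def nd11_208 : Tree :=
  .node 225 [0,2,5,1,3,0,0,0,1,2,0] (.child 10 1249 nd11_207 .none)

/-- A node. -/
def nd11_209 : Tree :=
  .node 216 [0,6,14,0,0,12,0,0,0,5,0] (.child 10 1240 nd11_208 .none)

/-- A node. -/
def nd11_210 : Tree :=
  .node 201 [0,0,9,0,4,25,0,0,0,0,9] (.child 8 457 nd11_209 .none)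

/-- A node. -/
def nd11_211 : Tree :=
  .node 195 [0,0,5,16,7,10,0,0,5,0,7] (.child 9 707 nd11_210 .none)

/-- A node. -/
def nd11_212 : Tree :=
  .node 177 [0,6,1,2,0,0,9,0,0,1,6] (.child 8 433 nd11_211 .none)

/-- A node. -/
def nd11_213 : Tree :=
  .node 166 [0,0,0,16,4,0,8,0,3,0,0] (.child 10 1190 nd11_212 .none)

/-- A node. -/
def nd11_214 : Tree :=
  .node 165 [0,2,0,5,9,0,9,0,2,0,5] (.child 9 677 nd11_213 .none)

/-- A node. -/
def nd11_215 : Tree :=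
  .node 153 [0,0,4,0,0,19,8,0,0,0,3] (.child 9 665 nd11_214 .none)

/-- A node. -/
def nd11_216 : Tree :=
  .node 154 [2,0,1,0,0,5,5,0,0,1,2] (.child 8 410 nd11_215 .none)

/-- A node. -/
def nd11_217 : Tree :=
  .node 135 [0,0,0,2,0,24,6,0,0,0,1] (.child 8 391 nd11_216 .none)

/-- A node. -/
def nd11_218 : Tree :=
  .node 150 [0,0,0,11,0,3,3,0,15,0,0] (.child 9 662 nd11_217 .none)

/-- A node. -/
def nd11_219 : Tree :=
  .node 147 [0,0,4,22,0,2,2,0,3,19,0] (.child 10 1171 nd11_218 .none)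

/-- A node. -/
def nd11_220 : Tree :=
  .node 141 [0,9,0,0,3,14,3,0,20,8,0] (.child 10 1165 nd11_219 .none)

/-- A node. -/
def nd11_221 : Tree :=
  .node 116 [2,0,0,3,0,0,0,0,3,0,4] (.child 9 628 nd11_220 .none)

/-- A node. -/
def nd11_222 : Tree :=
  .node 114 [0,0,3,4,0,0,0,0,0,4,3] (.child 7 242 nd11_221 .none)

/-- A node. -/
def nd11_223 : Tree :=
  .node 83 [0,0,0,3,0,12,0,0,0,3,2] (.child 8 339 nd11_222 .none)

/-- A node. -/
def nd11_224 : Tree :=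
  .node 85 [0,1,0,0,0,11,0,0,0,4,1] (.child 7 213 nd11_223 .none)

/-- A node. -/
def nd11_225 : Tree :=
  .node 92 [3,0,0,0,0,5,0,4,0,1,0] (.child 8 348 nd11_224 .none)

/-- A node. -/
def nd11_226 : Tree :=
  .node 86 [16,0,0,0,0,7,0,3,7,0,0] (.child 10 1110 nd11_225 .none)

/-- A node. -/
def nd11_227 : Tree :=
  .node 90 [0,0,2,0,0,4,0,2,4,0,0] (.child 9 602 nd11_226 .none)

/-- A node. -/
def nd11_228 : Tree :=
  .node 75 [0,0,0,0,7,3,0,1,3,0,0] (.child 10 1099 nd11_227 .none)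

/-- A node. -/
def nd11_229 : Tree :=
  .node 77 [0,0,0,0,6,1,0,0,11,0,1] (.child 9 589 nd11_228 .none)

/-- A node. -/
def nd11_230 : Tree :=
  .node 78 [12,0,0,0,13,0,0,0,1,9,0] (.child 7 206 nd11_229 .none)

/-- A node. -/
def nd11_231 : Tree :=
  .node 108 [4,0,0,0,3,0,0,3,0,8,0] (.child 10 1132 nd11_230 .none)

/-- A node. -/
def nd11_232 : Tree :=
  .node 106 [3,0,7,0,0,0,0,9,0,7,0] (.child 8 362 nd11_231 .none)

/-- A node. -/
def nd11_233 : Tree :=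
  .node 58 [2,0,0,0,0,0,2,1,0,5,0] (.child 10 1082 nd11_232 .none)

/-- A node. -/
def nd11_234 : Tree :=
  .node 54 [2,0,0,0,0,0,8,0,0,4,2] (.child 8 310 nd11_233 .none)

/-- A node. -/
def nd11_235 : Tree :=
  .node 60 [0,4,0,0,0,0,0,0,5,4,1] (.child 7 188 nd11_234 .none)

/-- A node. -/
def nd11_236 : Tree :=
  .node 57 [0,2,0,0,0,0,0,5,4,2,0] (.child 6 121 nd11_235 .none)

/-- A node. -/
def nd11_237 : Tree :=
  .node 53 [0,1,0,3,0,0,5,0,3,1,0] (.child 7 181 nd11_178 (.child 10 1077 nd11_236 .none))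

/-- A node. -/
def nd11_238 : Tree :=
  .node 291 [0,0,2,2,0,0,4,3,0,0,0] (.child 10 1315 nd11_237 .none)

/-- A node. -/
def nd11_239 : Tree :=
  .node 898 [16,0,13,16,11,13,11,0,0,0,0] (.child 10 1922 (.leaf 4) .none)

/-- A node. -/
def nd11_240 : Tree :=
  .node 833 [0,19,19,15,10,16,0,10,0,0,0] (.child 10 1857 nd11_239 .none)

/-- A node. -/
def nd11_241 : Tree :=
  .node 816 [22,20,11,15,0,0,9,9,0,0,0] (.child 10 1840 nd11_240 .none)

/-- A node. -/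
def nd11_242 : Tree :=
  .node 780 [13,17,0,0,19,10,14,10,0,0,0] (.child 10 1804 nd11_241 .none)

/-- A node. -/
def nd11_243 : Tree :=
  .node 708 [24,16,0,25,7,9,0,0,7,0,0] (.child 10 1732 nd11_242 .none)

/-- A node. -/
def nd11_244 : Tree :=
  .node 680 [11,24,8,0,27,0,12,0,8,0,0] (.child 10 1704 nd11_243 .none)

/-- A node. -/
def nd11_245 : Tree :=
  .node 657 [0,27,18,10,0,22,5,0,5,0,0] (.child 10 1681 nd11_244 .none)

/-- A node. -/
def nd11_246 : Tree :=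
  .node 610 [21,0,13,10,26,0,0,20,10,0,0] (.child 10 1634 nd11_245 .none)

/-- A node. -/
def nd11_247 : Tree :=
  .node 600 [38,14,28,0,0,9,0,3,3,0,0] (.child 10 1624 nd11_246 .none)

/-- A node. -/
def nd11_248 : Tree :=
  .node 549 [0,29,0,41,15,0,19,4,4,0,0] (.child 10 1573 nd11_247 .none)

/-- A node. -/
def nd11_249 : Tree :=
  .node 534 [14,0,0,12,0,23,10,23,10,0,0] (.child 10 1558 nd11_248 .none)

/-- A node. -/
def nd11_250 : Tree :=
  .node 523 [0,0,27,0,11,43,18,5,5,0,0] (.child 10 1547 nd11_249 .none)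

/-- A node. -/
def nd11_251 : Tree :=
  .node 464 [18,7,3,0,0,14,0,0,0,0,0] (.child 9 976 nd11_250 .none)

/-- A node. -/
def nd11_252 : Tree :=
  .node 456 [3,14,17,0,19,4,0,0,0,3,0] (.child 10 1480 nd11_251 .none)

/-- A node. -/
def nd11_253 : Tree :=
  .node 420 [0,13,0,18,1,0,4,0,0,0,0] (.child 9 932 nd11_252 .none)

/-- A node. -/
def nd11_254 : Tree :=
  .node 417 [0,12,15,1,17,0,12,0,0,1,0] (.child 10 1441 nd11_253 .none)

/-- A node. -/
def nd11_255 : Tree :=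
  .node 404 [8,21,0,16,0,16,14,0,0,8,0] (.child 10 1428 nd11_254 .none)

/-- A node. -/
def nd11_256 : Tree :=
  .node 393 [0,20,13,0,6,15,13,0,0,0,6] (.child 9 905 nd11_255 .none)

/-- A node. -/
def nd11_257 : Tree :=
  .node 360 [24,3,0,0,14,0,0,9,0,0,0] (.child 9 872 nd11_256 .none)

/-- A node. -/
def nd11_258 : Tree :=
  .node 356 [11,1,0,25,22,0,0,8,0,1,0] (.child 10 1380 nd11_257 .none)

/-- A node. -/
def nd11_259 : Tree :=
  .node 338 [17,0,0,2,0,7,0,7,0,0,0] (.child 10 1362 nd11_258 .none)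

/-- A node. -/
def nd11_260 : Tree :=
  .node 326 [4,0,0,18,23,6,0,6,0,0,4] (.child 9 838 nd11_259 .none)

/-- A node. -/
def nd11_261 : Tree :=
  .node 298 [27,0,17,0,0,0,5,5,0,0,0] (.child 10 1322 nd11_260 .none)

/-- A node. -/
def nd11_262 : Tree :=
  .node 282 [0,0,16,0,0,9,21,9,0,0,0] (.child 9 794 nd11_261 .none)

/-- A node. -/
def nd11_263 : Tree :=
  .node 281 [0,13,0,0,0,8,18,8,0,0,0] (.child 10 1305 nd11_262 .none)

/-- A node. -/
def nd11_264 : Tree :=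
  .node 277 [0,0,0,19,0,17,5,5,0,0,0] (.child 9 789 nd11_263 .none)

/-- A node. -/
def nd11_265 : Tree :=
  .node 263 [0,0,0,13,11,30,4,4,0,12,0] (.child 10 1287 nd11_264 .none)

/-- A node. -/
def nd11_266 : Tree :=
  .node 240 [1,0,14,5,0,0,0,0,0,1,0] (.child 10 1264 nd11_265 .none)

/-- A node. -/
def nd11_267 : Tree :=
  .node 226 [0,0,6,1,5,0,0,0,0,0,3] (.child 8 482 nd11_266 .none)

/-- A node. -/
def nd11_268 : Tree :=
  .node 225 [0,2,1,18,13,0,0,0,1,0,2] (.child 9 737 nd11_267 .none)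

/-- A node. -/
def nd11_269 : Tree :=
  .node 202 [1,0,9,0,5,21,0,0,9,0,1] (.child 9 714 nd11_268 .none)

/-- A node. -/
def nd11_270 : Tree :=
  .node 197 [0,0,0,9,12,20,0,0,0,7,0] (.child 8 453 nd11_269 .none)

/-- A node. -/
def nd11_271 : Tree :=
  .node 195 [0,0,6,15,5,30,0,0,5,6,0] (.child 10 1219 nd11_270 .none)

/-- A node. -/
def nd11_272 : Tree :=
  .node 184 [14,0,3,0,0,0,14,0,0,0,2] (.child 8 440 nd11_271 .none)

/-- A node. -/
def nd11_273 : Tree :=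
  .node 178 [3,0,0,1,0,0,11,0,3,0,0] (.child 9 690 nd11_272 .none)

/-- A node. -/
def nd11_274 : Tree :=
  .node 166 [3,0,0,4,10,0,10,0,4,3,0] (.child 10 1190 nd11_273 .none)

/-- A node. -/
def nd11_275 : Tree :=
  .node 154 [1,0,0,0,0,19,9,0,1,0,0] (.child 10 1178 nd11_274 .none)

/-- A node. -/
def nd11_276 : Tree :=
  .node 156 [3,2,0,0,0,14,7,0,2,0,3] (.child 9 668 nd11_275 .none)

/-- A node. -/
def nd11_277 : Tree :=
  .node 147 [0,0,0,9,0,19,7,0,0,0,21] (.child 8 403 nd11_276 .none)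

/-- A node. -/
def nd11_278 : Tree :=
  .node 135 [0,0,0,0,6,18,6,0,0,0,1] (.child 9 647 nd11_277 .none)

/-- A node. -/
def nd11_279 : Tree :=
  .node 142 [0,0,0,0,5,11,5,0,0,20,0] (.child 8 398 nd11_278 .none)

/-- A node. -/
def nd11_280 : Tree :=
  .node 141 [0,21,0,0,6,10,6,0,20,9,0] (.child 10 1165 nd11_279 .none)

/-- A node. -/
def nd11_281 : Tree :=
  .node 116 [0,3,0,2,0,0,0,3,0,0,1] (.child 9 628 nd11_280 .none)

/-- A node. -/
def nd11_282 : Tree :=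
  .node 113 [0,3,0,4,0,0,0,4,0,3,0] (.child 8 369 nd11_281 .none)

/-- A node. -/
def nd11_283 : Tree :=
  .node 85 [0,1,0,0,0,13,0,1,0,2,0] (.child 10 1109 nd11_282 .none)

/-- A node. -/
def nd11_284 : Tree :=
  .node 92 [2,0,0,0,0,6,0,0,0,5,3] (.child 8 348 nd11_283 .none)

/-- A node. -/
def nd11_285 : Tree :=
  .node 86 [0,0,0,2,0,9,0,0,10,0,2] (.child 7 214 nd11_284 .none)

/-- A node. -/
def nd11_286 : Tree :=
  .node 83 [0,0,16,0,0,8,0,0,2,0,12] (.child 9 595 nd11_285 .none)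

/-- A node. -/
def nd11_287 : Tree :=
  .node 89 [0,1,2,0,0,4,0,0,1,2,4] (.child 7 217 nd11_286 .none)

/-- A node. -/
def nd11_288 : Tree :=
  .node 78 [0,0,0,0,6,2,0,2,0,1,0] (.child 10 1102 nd11_287 .none)

/-- A node. -/
def nd11_289 : Tree :=
  .node 75 [0,0,0,0,5,2,0,12,0,0,2] (.child 8 331 nd11_288 .none)

/-- A node. -/
def nd11_290 : Tree :=
  .node 77 [0,12,0,0,13,0,0,0,10,0,1] (.child 9 589 nd11_289 .none)

/-- A node. -/
def nd11_291 : Tree :=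
  .node 108 [0,3,0,0,1,0,0,0,9,8,0] (.child 7 236 nd11_290 .none)

/-- A node. -/
def nd11_292 : Tree :=
  .node 105 [0,2,8,0,1,0,0,9,8,1,0] (.child 10 1129 nd11_291 .none)

/-- A node. -/
def nd11_293 : Tree :=
  .node 60 [0,1,0,0,0,0,1,3,2,0,0] (.child 10 1084 nd11_292 .none)

/-- A node. -/
def nd11_294 : Tree :=
  .node 57 [0,0,2,0,0,0,0,2,6,0,4] (.child 9 569 nd11_293 .none)

/-- A node. -/
def nd11_295 : Tree :=
  .node 58 [3,0,0,0,0,0,0,6,0,4,3] (.child 6 122 nd11_294 .none)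

/-- A node. -/
def nd11_296 : Tree :=
  .node 54 [0,0,0,3,0,0,6,0,0,3,2] (.child 8 310 nd11_295 .none)

/-- A node. -/
def nd11_297 : Tree :=
  .node 897 [0,16,14,16,11,14,11,0,0,0,0] (.child 10 1921 (.leaf 5) .none)

/-- A node. -/
def nd11_298 : Tree :=
  .node 834 [19,0,19,15,10,16,0,10,0,0,0] (.child 10 1858 nd11_297 .none)

/-- A node. -/
def nd11_299 : Tree :=
  .node 816 [20,21,12,15,0,0,9,9,0,0,0] (.child 10 1840 nd11_298 .none)

/-- A node. -/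
def nd11_300 : Tree :=
  .node 780 [17,13,0,0,19,11,14,11,0,0,0] (.child 10 1804 nd11_299 .none)

/-- A node. -/
def nd11_301 : Tree :=
  .node 712 [24,12,26,0,7,13,0,0,7,0,0] (.child 10 1736 nd11_300 .none)

/-- A node. -/
def nd11_302 : Tree :=
  .node 674 [23,0,9,11,27,0,22,0,9,0,0] (.child 10 1698 nd11_301 .none)

/-- A node. -/
def nd11_303 : Tree :=
  .node 660 [31,17,0,26,0,8,5,0,5,0,0] (.child 10 1684 nd11_302 .none)

/-- A node. -/
def nd11_304 : Tree :=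
  .node 612 [13,23,0,10,34,0,0,7,7,0,0] (.child 10 1636 nd11_303 .none)

/-- A node. -/
def nd11_305 : Tree :=
  .node 593 [0,29,12,14,0,20,0,3,3,0,0] (.child 10 1617 nd11_304 .none)

/-- A node. -/
def nd11_306 : Tree :=
  .node 553 [0,40,31,0,13,0,8,19,8,0,0] (.child 10 1577 nd11_305 .none)

/-- A node. -/
def nd11_307 : Tree :=
  .node 538 [12,0,13,0,0,22,32,6,6,0,0] (.child 10 1562 nd11_306 .none)

/-- A node. -/
def nd11_308 : Tree :=
  .node 519 [0,0,0,29,12,46,9,19,9,0,0] (.child 10 1543 nd11_307 .none)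

/-- A node. -/
def nd11_309 : Tree :=
  .node 464 [17,3,0,7,0,14,0,0,0,0,0] (.child 9 976 nd11_308 .none)

/-- A node. -/
def nd11_310 : Tree :=
  .node 452 [7,14,0,16,23,1,0,0,0,1,0] (.child 10 1476 nd11_309 .none)

/-- A node. -/
def nd11_311 : Tree :=
  .node 424 [15,2,0,0,18,0,3,0,0,0,0] (.child 10 1448 nd11_310 .none)

/-- A node. -/
def nd11_312 : Tree :=
  .node 420 [18,6,0,21,18,0,12,0,0,0,6] (.child 9 932 nd11_311 .none)

/-- A node. -/
def nd11_313 : Tree :=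
  .node 402 [17,0,7,0,0,11,11,0,0,0,0] (.child 10 1426 nd11_312 .none)

/-- A node. -/
def nd11_314 : Tree :=
  .node 394 [8,0,19,0,19,10,10,0,0,0,8] (.child 9 906 nd11_313 .none)

/-- A node. -/
def nd11_315 : Tree :=
  .node 360 [0,9,23,0,1,0,0,9,0,0,0] (.child 9 872 nd11_314 .none)

/-- A node. -/
def nd11_316 : Tree :=
  .node 353 [0,8,1,10,14,0,0,8,0,1,0] (.child 10 1377 nd11_315 .none)

/-- A node. -/
def nd11_317 : Tree :=
  .node 344 [2,26,16,0,0,21,0,9,0,2,0] (.child 10 1368 nd11_316 .none)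

/-- A node. -/
def nd11_318 : Tree :=
  .node 325 [0,17,0,8,3,20,0,8,0,0,3] (.child 9 837 nd11_317 .none)

/-- A node. -/
def nd11_319 : Tree :=
  .node 294 [16,0,0,28,1,0,5,5,0,1,0] (.child 10 1318 nd11_318 .none)

/-- A node. -/
def nd11_320 : Tree :=
  .node 281 [0,2,1,0,0,10,6,6,0,0,1] (.child 9 793 nd11_319 .none)

/-- A node. -/
def nd11_321 : Tree :=
  .node 278 [0,0,0,12,0,17,17,12,0,0,0] (.child 9 790 nd11_320 .none)

/-- A node. -/
def nd11_322 : Tree :=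
  .node 277 [0,13,0,11,0,8,16,8,0,32,0] (.child 10 1301 nd11_321 .none)

/-- A node. -/
def nd11_323 : Tree :=
  .node 267 [0,0,12,0,20,29,3,3,0,23,0] (.child 10 1291 nd11_322 .none)

/-- A node. -/
def nd11_324 : Tree :=
  .node 240 [1,0,14,5,0,0,0,0,0,1,0] (.child 10 1264 nd11_323 .none)

/-- A node. -/
def nd11_325 : Tree :=
  .node 226 [0,0,2,19,14,0,0,0,0,0,3] (.child 8 482 nd11_324 .none)

/-- A node. -/
def nd11_326 : Tree :=
  .node 225 [0,2,5,0,4,0,0,0,0,0,2] (.child 9 737 nd11_325 .none)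

/-- A node. -/
def nd11_327 : Tree :=
  .node 201 [0,1,10,0,5,21,0,0,0,10,1] (.child 8 457 nd11_326 .none)

/-- A node. -/
def nd11_328 : Tree :=
  .node 198 [0,0,0,8,12,20,0,0,7,0,0] (.child 9 710 nd11_327 .none)

/-- A node. -/
def nd11_329 : Tree :=
  .node 195 [0,0,6,15,5,30,0,0,6,5,0] (.child 10 1219 nd11_328 .none)

/-- A node. -/
def nd11_330 : Tree :=
  .node 184 [0,14,3,0,0,0,14,0,0,0,2] (.child 9 696 nd11_329 .none)

/-- A node. -/
def nd11_331 : Tree :=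
  .node 177 [0,3,0,1,0,0,11,0,0,3,0] (.child 8 433 nd11_330 .none)

/-- A node. -/
def nd11_332 : Tree :=
  .node 165 [0,3,0,5,10,0,10,0,3,5,0] (.child 10 1189 nd11_331 .none)

/-- A node. -/
def nd11_333 : Tree :=
  .node 153 [0,1,0,0,0,20,9,0,0,1,0] (.child 10 1177 nd11_332 .none)

/-- A node. -/
def nd11_334 : Tree :=
  .node 156 [3,2,0,0,0,14,7,0,0,3,2] (.child 8 412 nd11_333 .none)

/-- A node. -/
def nd11_335 : Tree :=
  .node 147 [0,0,0,9,0,16,7,0,0,0,21] (.child 9 659 nd11_334 .none)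

/-- A node. -/
def nd11_336 : Tree :=
  .node 135 [0,0,0,0,6,15,6,0,0,1,0] (.child 8 391 nd11_335 .none)

/-- A node. -/
def nd11_337 : Tree :=
  .node 142 [0,0,0,0,7,11,7,0,10,0,0] (.child 10 1166 nd11_336 .none)

/-- A node. -/
def nd11_338 : Tree :=
  .node 141 [0,21,0,0,4,10,4,0,20,0,7] (.child 9 653 nd11_337 .none)

/-- A node. -/
def nd11_339 : Tree :=
  .node 116 [3,0,0,2,0,0,0,3,0,0,1] (.child 8 372 nd11_338 .none)

/-- A node. -/
def nd11_340 : Tree :=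
  .node 114 [3,0,0,4,0,0,0,4,3,0,0] (.child 9 626 nd11_339 .none)

/-- A node. -/
def nd11_341 : Tree :=
  .node 86 [1,0,0,0,0,10,0,1,2,0,0] (.child 10 1110 nd11_340 .none)

/-- A node. -/
def nd11_342 : Tree :=
  .node 92 [0,2,0,0,0,6,0,0,5,0,3] (.child 9 604 nd11_341 .none)

/-- A node. -/
def nd11_343 : Tree :=
  .node 85 [0,0,0,2,0,10,0,0,0,11,2] (.child 7 213 nd11_342 .none)

/-- A node. -/
def nd11_344 : Tree :=
  .node 83 [0,0,16,0,0,9,0,0,0,2,12] (.child 8 339 nd11_343 .none)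

/-- A node. -/
def nd11_345 : Tree :=
  .node 90 [1,0,2,0,0,4,0,0,2,1,4] (.child 7 218 nd11_344 .none)

/-- A node. -/
def nd11_346 : Tree :=
  .node 77 [0,0,0,0,7,2,0,2,1,0,0] (.child 10 1101 nd11_345 .none)

/-- A node. -/
def nd11_347 : Tree :=
  .node 75 [0,0,0,0,6,2,0,12,0,0,2] (.child 9 587 nd11_346 .none)

/-- A node. -/
def nd11_348 : Tree :=
  .node 78 [12,0,0,0,13,0,0,0,0,9,1] (.child 8 334 nd11_347 .none)

/-- A node. -/
def nd11_349 : Tree :=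
  .node 108 [4,0,0,0,1,0,0,0,9,8,0] (.child 7 236 nd11_348 .none)

/-- A node. -/
def nd11_350 : Tree :=
  .node 106 [3,0,7,0,2,0,0,9,2,7,0] (.child 10 1130 nd11_349 .none)

/-- A node. -/
def nd11_351 : Tree :=
  .node 60 [2,0,0,0,0,0,2,0,1,3,0] (.child 10 1084 nd11_350 .none)

/-- A node. -/
def nd11_352 : Tree :=
  .node 54 [2,0,0,0,0,0,8,0,0,2,4] (.child 7 182 nd11_351 .none)

/-- A node. -/
def nd11_353 : Tree :=
  .node 58 [0,0,4,0,0,0,0,6,0,4,3] (.child 8 314 nd11_352 .none)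

/-- A node. -/
def nd11_354 : Tree :=
  .node 57 [0,2,0,0,0,0,0,5,4,0,2] (.child 6 121 nd11_353 .none)

/-- A node. -/
def nd11_355 : Tree :=
  .node 53 [0,1,0,3,0,0,5,0,3,0,1] (.child 7 181 nd11_296 (.child 9 565 nd11_354 .none))

/-- A node. -/
def nd11_356 : Tree :=
  .node 291 [0,0,2,2,0,0,4,3,0,0,0] (.child 9 803 nd11_355 .none)

/-- A node. -/
def nd11_357 : Tree :=
  .node 51 [0,0,3,2,0,0,3,2,0,0,0] (.child 8 307 nd11_120 (.child 9 563 nd11_238 (.child 10 1075 nd11_356 .none)))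

/-- A node. -/
def nd11_358 : Tree :=
  .node 46 [0,0,0,0,3,0,2,1,0,0,0] (.child 9 558 nd11_357 .none)

/-- A node. -/
def nd11_359 : Tree :=
  .node 45 [0,0,0,0,2,0,1,0,0,0,0] (.child 8 301 nd11_358 .none)

/-- A node. -/
def nd11_360 : Tree :=
  .node 43 [0,0,0,0,1,0,0,0,0,0,0] (.child 7 171 nd11_359 .none)

/-- A node. -/
def nd11_361 : Tree :=
  .node 39 [0,0,0,0,0,0,0,0,0,0,0] (.child 6 103 nd11_360 .none)

/-- A node. -/
def nd11_362 : Tree :=
  .node 15 [0,0,0,0,0,0,0,0,0,0,0] (.child 4 31 nd11_361 .none)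

/-- The case tree. -/
def tree11 : Tree := nd11_362

/-- A node. -/
def nd12_0 : Tree :=
  .node 118 [0,0,0,1,0,0,0,0,9,5,1,6] .none

/-- A node. -/
def nd12_1 : Tree :=
  .node 117 [0,4,0,1,0,0,0,0,8,4,6,1] (.child 7 245 nd12_0 .none)

/-- A node. -/
def nd12_2 : Tree :=
  .node 110 [0,0,0,0,4,0,0,8,1,3,0,0] (.child 10 1134 nd12_1 .none)

/-- A node. -/
def nd12_3 : Tree :=
  .node 109 [0,0,0,0,4,0,0,7,0,2,4,0] (.child 11 2157 nd12_2 .none)

/-- A node. -/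
def nd12_4 : Tree :=
  .node 1984 [29,31,32,32,31,29,0,0,0,0,0,0] (.child 11 4032 (.leaf 0) .none)

/-- A node. -/
def nd12_5 : Tree :=
  .node 1840 [28,30,36,33,0,0,33,28,0,0,0,0] (.child 11 3888 nd12_4 .none)

/-- A node. -/
def nd12_6 : Tree :=
  .node 1802 [37,0,30,0,29,32,32,29,0,0,0,0] (.child 11 3850 nd12_5 .none)

/-- A node. -/
def nd12_7 : Tree :=
  .node 1797 [0,36,0,29,34,26,34,26,0,0,0,0] (.child 11 3845 nd12_6 .none)

/-- A node. -/
def nd12_8 : Tree :=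
  .node 1704 [25,41,28,0,42,0,30,0,25,0,0,0] (.child 11 3752 nd12_7 .none)

/-- A node. -/
def nd12_9 : Tree :=
  .node 1681 [0,26,43,37,0,24,41,0,24,0,0,0] (.child 11 3729 nd12_8 .none)

/-- A node. -/
def nd12_10 : Tree :=
  .node 1670 [42,0,0,26,25,35,39,0,25,0,0,0] (.child 11 3718 nd12_9 .none)

/-- A node. -/
def nd12_11 : Tree :=
  .node 1636 [41,34,0,27,30,0,0,38,27,0,0,0] (.child 11 3684 nd12_10 .none)

/-- A node. -/
def nd12_12 : Tree :=
  .node 1618 [31,0,29,38,0,37,0,23,23,0,0,0] (.child 11 3666 nd12_11 .none)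

/-- A node. -/
def nd12_13 : Tree :=
  .node 1609 [0,30,39,0,33,25,0,37,25,0,0,0] (.child 11 3657 nd12_12 .none)

/-- A node. -/
def nd12_14 : Tree :=
  .node 1571 [0,0,31,43,44,0,29,19,19,0,0,0] (.child 11 3619 nd12_13 .none)

/-- A node. -/
def nd12_15 : Tree :=
  .node 1564 [31,46,0,0,0,39,26,21,21,0,0,0] (.child 11 3612 nd12_14 .none)

/-- A node. -/
def nd12_16 : Tree :=
  .node 1444 [17,29,0,20,38,0,52,0,0,17,0,0] (.child 11 3492 nd12_15 .none)

/-- A node. -/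
def nd12_17 : Tree :=
  .node 1432 [29,18,19,0,0,51,33,0,0,18,0,0] (.child 11 3480 nd12_16 .none)

/-- A node. -/
def nd12_18 : Tree :=
  .node 1411 [0,0,57,39,17,15,25,0,0,15,0,0] (.child 11 3459 nd12_17 .none)

/-- A node. -/
def nd12_19 : Tree :=
  .node 1378 [24,0,26,19,49,0,0,30,0,19,0,0] (.child 11 3426 nd12_18 .none)

/-- A node. -/
def nd12_20 : Tree :=
  .node 1361 [0,23,21,26,0,38,0,48,0,21,0,0] (.child 11 3409 nd12_19 .none)

/-- A node. -/
def nd12_21 : Tree :=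
  .node 1356 [53,40,0,0,20,17,0,15,0,15,0,0] (.child 11 3404 nd12_20 .none)

/-- A node. -/
def nd12_22 : Tree :=
  .node 1321 [0,57,43,0,24,0,16,11,0,11,0,0] (.child 11 3369 nd12_21 .none)

/-- A node. -/
def nd12_23 : Tree :=
  .node 1302 [43,0,0,63,0,22,18,12,0,12,0,0] (.child 11 3350 nd12_22 .none)

/-- A node. -/
def nd12_24 : Tree :=
  .node 1249 [0,25,28,50,34,0,0,0,9,9,0,0] (.child 11 3297 nd12_23 .none)

/-- A node. -/
def nd12_25 : Tree :=
  .node 1236 [27,50,0,25,0,29,0,0,16,16,0,0] (.child 11 3284 nd12_24 .none)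

/-- A node. -/
def nd12_26 : Tree :=
  .node 1226 [31,0,35,0,24,23,0,0,47,23,0,0] (.child 11 3274 nd12_25 .none)

/-- A node. -/
def nd12_27 : Tree :=
  .node 1202 [65,0,27,35,0,0,22,0,8,8,0,0] (.child 11 3250 nd12_26 .none)

/-- A node. -/
def nd12_28 : Tree :=
  .node 1165 [0,29,0,0,52,37,24,0,8,8,0,0] (.child 11 3213 nd12_27 .none)

/-- A node. -/
def nd12_29 : Tree :=
  .node 1144 [29,33,60,0,0,0,0,21,9,9,0,0] (.child 11 3192 nd12_28 .none)

/-- A node. -/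
def nd12_30 : Tree :=
  .node 1077 [0,36,0,35,0,0,28,24,50,24,0,0] (.child 11 3125 nd12_29 .none)

/-- A node. -/
def nd12_31 : Tree :=
  .node 1070 [34,0,0,0,31,0,30,48,14,14,0,0] (.child 11 3118 nd12_30 .none)

/-- A node. -/
def nd12_32 : Tree :=
  .node 1051 [0,0,34,0,0,30,54,25,14,14,0,0] (.child 11 3099 nd12_31 .none)

/-- A node. -/
def nd12_33 : Tree :=
  .node 930 [0,0,12,40,2,0,16,0,0,0,0,0] (.child 11 2978 nd12_32 .none)

/-- A node. -/
def nd12_34 : Tree :=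
  .node 929 [0,48,21,3,38,0,5,0,0,0,0,3] (.child 10 1953 nd12_33 .none)

/-- A node. -/
def nd12_35 : Tree :=
  .node 916 [37,0,0,1,0,19,6,0,0,0,0,0] (.child 11 2964 nd12_34 .none)

/-- A node. -/
def nd12_36 : Tree :=
  .node 914 [11,0,46,20,0,41,35,0,0,0,0,11] (.child 10 1938 nd12_35 .none)

/-- A node. -/
def nd12_37 : Tree :=
  .node 908 [0,36,0,0,40,7,14,0,0,0,0,0] (.child 10 1932 nd12_36 .none)

/-- A node. -/
def nd12_38 : Tree :=
  .node 905 [0,19,44,0,8,39,34,0,0,0,8,0] (.child 11 2953 nd12_37 .none)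

/-- A node. -/
def nd12_39 : Tree :=
  .node 872 [0,20,5,0,1,0,0,30,0,0,0,0] (.child 10 1896 nd12_38 .none)

/-- A node. -/
def nd12_40 : Tree :=
  .node 865 [0,3,30,47,18,0,0,30,0,0,3,0] (.child 11 2913 nd12_39 .none)

/-- A node. -/
def nd12_41 : Tree :=
  .node 856 [5,32,0,0,0,36,0,9,0,0,0,0] (.child 11 2904 nd12_40 .none)

/-- A node. -/
def nd12_42 : Tree :=
  .node 852 [18,0,0,45,0,28,0,28,0,0,0,0] (.child 10 1876 nd12_41 .none)

/-- A node. -/
def nd12_43 : Tree :=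
  .node 838 [0,0,0,18,41,2,0,27,0,0,0,0] (.child 11 2886 nd12_42 .none)

/-- A node. -/
def nd12_44 : Tree :=
  .node 835 [0,0,38,29,3,40,0,9,0,0,0,3] (.child 10 1859 nd12_43 .none)

/-- A node. -/
def nd12_45 : Tree :=
  .node 812 [20,0,0,0,32,0,25,25,0,0,0,0] (.child 11 2860 nd12_44 .none)

/-- A node. -/
def nd12_46 : Tree :=
  .node 806 [36,0,0,47,18,0,24,24,0,0,0,18] (.child 10 1830 nd12_45 .none)

/-- A node. -/
def nd12_47 : Tree :=
  .node 793 [0,0,40,0,0,16,25,25,0,0,0,0] (.child 10 1817 nd12_46 .none)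

/-- A node. -/
def nd12_48 : Tree :=
  .node 787 [0,0,18,45,0,36,24,24,0,0,18,0] (.child 11 2835 nd12_47 .none)

/-- A node. -/
def nd12_49 : Tree :=
  .node 752 [9,0,5,1,0,0,0,0,19,0,0,0] (.child 11 2800 nd12_48 .none)

/-- A node. -/
def nd12_50 : Tree :=
  .node 738 [3,0,20,9,34,0,0,0,20,0,0,3] (.child 10 1762 nd12_49 .none)

/-- A node. -/
def nd12_51 : Tree :=
  .node 728 [21,5,0,0,0,26,0,0,21,0,0,0] (.child 10 1752 nd12_50 .none)

/-- A node. -/
def nd12_52 : Tree :=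
  .node 716 [0,9,0,0,50,18,0,0,18,0,0,0] (.child 11 2764 nd12_51 .none)

/-- A node. -/
def nd12_53 : Tree :=
  .node 709 [0,0,0,34,7,2,0,0,17,0,0,0] (.child 10 1733 nd12_52 .none)

/-- A node. -/
def nd12_54 : Tree :=
  .node 707 [0,0,28,3,18,45,0,0,18,0,3,0] (.child 11 2755 nd12_53 .none)

/-- A node. -/
def nd12_55 : Tree :=
  .node 692 [0,9,0,22,0,0,15,0,15,0,0,0] (.child 10 1716 nd12_54 .none)

/-- A node. -/
def nd12_56 : Tree :=
  .node 677 [0,26,0,9,35,0,14,0,14,0,9,0] (.child 11 2725 nd12_55 .none)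

/-- A node. -/
def nd12_57 : Tree :=
  .node 666 [0,0,39,0,0,5,16,0,16,0,0,0] (.child 11 2714 nd12_56 .none)

/-- A node. -/
def nd12_58 : Tree :=
  .node 651 [0,0,9,0,53,35,15,0,15,0,0,9] (.child 10 1675 nd12_57 .none)

/-- A node. -/
def nd12_59 : Tree :=
  .node 625 [0,25,1,4,0,0,0,13,13,0,0,1] (.child 10 1649 nd12_58 .none)

/-- A node. -/
def nd12_60 : Tree :=
  .node 618 [33,0,1,0,2,0,0,13,13,0,1,0] (.child 11 2666 nd12_59 .none)

/-- A node. -/
def nd12_61 : Tree :=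
  .node 597 [0,5,0,26,0,30,0,11,11,0,5,0] (.child 11 2645 nd12_60 .none)

/-- A node. -/
def nd12_62 : Tree :=
  .node 590 [5,0,0,0,34,47,0,11,11,0,0,5] (.child 10 1614 nd12_61 .none)

/-- A node. -/
def nd12_63 : Tree :=
  .node 570 [0,0,1,0,0,0,21,14,14,0,0,0] (.child 10 1594 nd12_62 .none)

/-- A node. -/
def nd12_64 : Tree :=
  .node 569 [0,29,1,0,0,0,35,13,13,0,1,0] (.child 11 2617 nd12_63 .none)

/-- A node. -/
def nd12_65 : Tree :=
  .node 566 [1,0,0,31,0,0,19,43,19,0,1,0] (.child 11 2614 nd12_64 .none)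

/-- A node. -/
def nd12_66 : Tree :=
  .node 557 [0,1,0,0,25,0,21,33,21,0,0,1] (.child 10 1581 nd12_65 .none)

/-- A node. -/
def nd12_67 : Tree :=
  .node 535 [0,0,0,0,0,24,49,15,15,0,0,0] (.child 10 1559 nd12_66 .none)

/-- A node. -/
def nd12_68 : Tree :=
  .node 527 [0,0,0,0,28,25,19,14,14,0,27,0] (.child 11 2575 nd12_67 .none)

/-- A node. -/
def nd12_69 : Tree :=
  .node 496 [3,2,1,0,0,0,0,0,0,1,0,0] (.child 10 1520 nd12_68 .none)

/-- A node. -/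
def nd12_70 : Tree :=
  .node 488 [4,3,0,0,7,0,0,0,0,0,4,0] (.child 11 2536 nd12_69 .none)

/-- A node. -/
def nd12_71 : Tree :=
  .node 484 [5,4,0,27,12,0,0,0,0,0,4,5] (.child 9 996 nd12_70 .none)

/-- A node. -/
def nd12_72 : Tree :=
  .node 466 [0,0,3,1,0,12,0,0,0,0,3,0] (.child 11 2514 nd12_71 .none)

/-- A node. -/
def nd12_73 : Tree :=
  .node 465 [0,28,3,1,0,5,0,0,0,0,1,3] (.child 9 977 nd12_72 .none)

/-- A node. -/
def nd12_74 : Tree :=
  .node 458 [0,0,1,0,12,5,0,0,0,0,0,7] (.child 9 970 nd12_73 .none)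

/-- A node. -/
def nd12_75 : Tree :=
  .node 457 [0,13,1,0,27,24,0,0,0,12,0,1] (.child 10 1481 nd12_74 .none)

/-- A node. -/
def nd12_76 : Tree :=
  .node 454 [0,0,0,5,26,24,0,0,0,6,0,0] (.child 10 1478 nd12_75 .none)

/-- A node. -/
def nd12_77 : Tree :=
  .node 453 [0,5,0,10,3,8,0,0,0,5,3,0] (.child 11 2501 nd12_76 .none)

/-- A node. -/
def nd12_78 : Tree :=
  .node 440 [0,1,11,0,0,0,24,0,0,0,1,0] (.child 9 952 nd12_77 .none)

/-- A node. -/
def nd12_79 : Tree :=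
  .node 433 [0,13,1,26,0,0,22,0,0,12,1,0] (.child 11 2481 nd12_78 .none)

/-- A node. -/
def nd12_80 : Tree :=
  .node 426 [13,0,1,0,10,0,21,0,0,13,0,1] (.child 10 1450 nd12_79 .none)

/-- A node. -/
def nd12_81 : Tree :=
  .node 405 [0,1,0,16,0,10,21,0,0,1,0,16] (.child 10 1429 nd12_80 .none)

/-- A node. -/
def nd12_82 : Tree :=
  .node 398 [0,0,0,0,14,24,20,0,0,0,13,0] (.child 11 2446 nd12_81 .none)

/-- A node. -/
def nd12_83 : Tree :=
  .node 391 [0,0,0,12,25,11,18,0,0,0,12,11] (.child 9 903 nd12_82 .none)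

/-- A node. -/
def nd12_84 : Tree :=
  .node 372 [1,0,0,5,0,0,0,18,0,0,1,0] (.child 11 2420 nd12_83 .none)

/-- A node. -/
def nd12_85 : Tree :=
  .node 370 [7,0,23,1,0,0,0,16,0,0,1,5] (.child 9 882 nd12_84 .none)

/-- A node. -/
def nd12_86 : Tree :=
  .node 357 [0,8,0,1,5,0,0,15,0,1,0,8] (.child 10 1381 nd12_85 .none)

/-- A node. -/
def nd12_87 : Tree :=
  .node 346 [1,0,9,0,0,3,0,15,0,9,0,1] (.child 10 1370 nd12_86 .none)

/-- A node. -/
def nd12_88 : Tree :=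
  .node 333 [0,0,0,0,9,18,0,14,0,0,7,0] (.child 9 845 nd12_87 .none)

/-- A node. -/
def nd12_89 : Tree :=
  .node 331 [0,0,6,0,25,4,0,12,0,4,6,0] (.child 11 2379 nd12_88 .none)

/-- A node. -/
def nd12_90 : Tree :=
  .node 316 [1,0,0,0,0,0,12,12,0,1,0,0] (.child 10 1340 nd12_89 .none)

/-- A node. -/
def nd12_91 : Tree :=
  .node 314 [1,0,5,0,0,0,28,17,0,2,1,0] (.child 11 2362 nd12_90 .none)

/-- A node. -/
def nd12_92 : Tree :=
  .node 309 [0,0,0,5,0,0,28,14,0,0,0,2] (.child 9 821 nd12_91 .none)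

/-- A node. -/
def nd12_93 : Tree :=
  .node 307 [0,0,1,0,0,0,8,8,0,0,0,1] (.child 10 1331 nd12_92 .none)

/-- A node. -/
def nd12_94 : Tree :=
  .node 299 [0,0,0,0,20,0,7,7,0,0,1,0] (.child 9 811 nd12_93 .none)

/-- A node. -/
def nd12_95 : Tree :=
  .node 295 [0,0,0,0,13,0,6,6,0,33,0,0] (.child 11 2343 nd12_94 .none)

/-- A node. -/
def nd12_96 : Tree :=
  .node 271 [0,0,0,0,0,10,29,10,0,0,0,1] (.child 10 1295 nd12_95 .none)

/-- A node. -/
def nd12_97 : Tree :=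
  .node 286 [0,0,0,0,0,11,5,5,0,0,15,0] (.child 9 798 nd12_96 .none)

/-- A node. -/
def nd12_98 : Tree :=
  .node 285 [0,16,0,0,0,8,4,4,0,15,32,0] (.child 11 2333 nd12_97 .none)

/-- A node. -/
def nd12_99 : Tree :=
  .node 236 [0,1,0,0,3,0,0,0,3,0,0,1] (.child 10 1260 nd12_98 .none)

/-- A node. -/
def nd12_100 : Tree :=
  .node 233 [0,1,6,0,3,0,0,0,1,0,5,3] (.child 9 745 nd12_99 .none)

/-- A node. -/
def nd12_101 : Tree :=
  .node 230 [0,0,0,8,7,0,0,0,0,8,6,0] (.child 11 2278 nd12_100 .none)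

/-- A node. -/
def nd12_102 : Tree :=
  .node 227 [0,0,5,8,9,0,0,0,0,9,5,8] (.child 8 483 nd12_101 .none)

/-- A node. -/
def nd12_103 : Tree :=
  .node 220 [0,9,0,0,0,1,0,0,0,10,9,0] (.child 8 476 nd12_102 .none)

/-- A node. -/
def nd12_104 : Tree :=
  .node 217 [0,10,9,0,0,1,0,0,10,9,1,0] (.child 11 2265 nd12_103 .none)

/-- A node. -/
def nd12_105 : Tree :=
  .node 188 [0,3,0,0,0,0,13,0,1,4,0,0] (.child 11 2236 nd12_104 .none)

/-- A node. -/
def nd12_106 : Tree :=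
  .node 185 [0,4,0,0,0,0,13,0,0,5,0,4] (.child 10 1209 nd12_105 .none)

/-- A node. -/
def nd12_107 : Tree :=
  .node 173 [0,0,0,0,6,0,16,0,0,2,0,3] (.child 8 429 nd12_106 .none)

/-- A node. -/
def nd12_108 : Tree :=
  .node 167 [0,0,0,1,0,0,15,0,0,1,0,2] (.child 10 1191 nd12_107 .none)

/-- A node. -/
def nd12_109 : Tree :=
  .node 182 [2,0,0,0,0,0,7,0,0,0,3,6] (.child 8 438 nd12_108 .none)

/-- A node. -/
def nd12_110 : Tree :=
  .node 174 [0,0,0,0,2,0,9,0,15,0,2,0] (.child 9 686 nd12_109 .none)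

/-- A node. -/
def nd12_111 : Tree :=
  .node 171 [0,0,22,0,0,0,8,0,3,0,15,0] (.child 11 2219 nd12_110 .none)

/-- A node. -/
def nd12_112 : Tree :=
  .node 179 [0,0,3,2,0,0,5,0,2,0,5,3] (.child 9 691 nd12_111 .none)

/-- A node. -/
def nd12_113 : Tree :=
  .node 158 [0,0,0,0,0,6,3,0,1,0,0,2] (.child 10 1182 nd12_112 .none)

/-- A node. -/
def nd12_114 : Tree :=
  .node 157 [0,0,0,0,0,9,9,0,0,0,16,1] (.child 9 669 nd12_113 .none)

/-- A node. -/
def nd12_115 : Tree :=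
  .node 155 [0,0,0,0,0,4,2,0,0,16,2,0] (.child 8 411 nd12_114 .none)

/-- A node. -/
def nd12_116 : Tree :=
  .node 151 [0,0,0,17,0,7,0,0,16,0,1,0] (.child 11 2199 nd12_115 .none)

/-- A node. -/
def nd12_117 : Tree :=
  .node 214 [0,0,0,2,0,2,0,0,15,0,0,12] (.child 9 726 nd12_116 .none)

/-- A node. -/
def nd12_118 : Tree :=
  .node 211 [0,0,5,1,0,1,0,0,14,13,0,4] (.child 10 1235 nd12_117 .none)

/-- A node. -/
def nd12_119 : Tree :=
  .node 124 [1,0,0,0,0,0,0,0,1,0,2,5] (.child 9 636 nd12_118 .none)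

/-- A node. -/
def nd12_120 : Tree :=
  .node 122 [0,0,1,0,0,0,0,0,0,11,1,2] (.child 7 250 nd12_119 .none)

/-- A node. -/
def nd12_121 : Tree :=
  .node 121 [0,1,2,0,0,0,0,2,0,10,5,1] (.child 8 377 nd12_120 .none)

/-- A node. -/
def nd12_122 : Tree :=
  .node 118 [0,0,0,3,0,0,0,1,3,6,0,0] (.child 10 1142 nd12_121 .none)

/-- A node. -/
def nd12_123 : Tree :=
  .node 115 [0,0,0,3,0,0,0,0,9,5,3,0] (.child 11 2163 nd12_122 .none)

/-- A node. -/
def nd12_124 : Tree :=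
  .node 117 [0,4,0,0,0,0,0,0,8,4,6,0] (.child 7 245 nd12_123 .none)

/-- A node. -/
def nd12_125 : Tree :=
  .node 109 [0,0,0,0,5,0,0,8,0,3,1,0] (.child 11 2157 nd12_124 .none)

/-- A node. -/
def nd12_126 : Tree :=
  .node 110 [0,0,0,0,3,0,0,7,0,2,0,3] (.child 8 366 nd12_125 .none)

/-- A node. -/
def nd12_127 : Tree :=
  .node 1984 [29,33,30,33,30,29,0,0,0,0,0,0] (.child 11 4032 (.leaf 1) .none)

/-- A node. -/
def nd12_128 : Tree :=
  .node 1840 [28,34,29,35,0,0,34,28,0,0,0,0] (.child 11 3888 nd12_127 .none)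

/-- A node. -/
def nd12_129 : Tree :=
  .node 1801 [0,31,36,0,34,27,34,27,0,0,0,0] (.child 11 3849 nd12_128 .none)

/-- A node. -/
def nd12_130 : Tree :=
  .node 1798 [35,0,0,30,27,32,32,27,0,0,0,0] (.child 11 3846 nd12_129 .none)

/-- A node. -/
def nd12_131 : Tree :=
  .node 1704 [25,29,36,0,40,0,40,0,25,0,0,0] (.child 11 3752 nd12_130 .none)

/-- A node. -/
def nd12_132 : Tree :=
  .node 1682 [38,0,25,28,0,39,39,0,25,0,0,0] (.child 11 3730 nd12_131 .none)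

/-- A node. -/
def nd12_133 : Tree :=
  .node 1669 [0,43,0,41,24,23,32,0,23,0,0,0] (.child 11 3717 nd12_132 .none)

/-- A node. -/
def nd12_134 : Tree :=
  .node 1636 [31,28,0,33,37,0,0,37,28,0,0,0] (.child 11 3684 nd12_133 .none)

/-- A node. -/
def nd12_135 : Tree :=
  .node 1617 [0,35,30,28,0,36,0,36,28,0,0,0] (.child 11 3665 nd12_134 .none)

/-- A node. -/
def nd12_136 : Tree :=
  .node 1610 [40,0,38,0,27,26,0,24,24,0,0,0] (.child 11 3658 nd12_135 .none)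

/-- A node. -/
def nd12_137 : Tree :=
  .node 1571 [0,0,41,45,33,0,25,19,19,0,0,0] (.child 11 3619 nd12_136 .none)

/-- A node. -/
def nd12_138 : Tree :=
  .node 1564 [41,45,0,0,0,29,25,19,19,0,0,0] (.child 11 3612 nd12_137 .none)

/-- A node. -/
def nd12_139 : Tree :=
  .node 1444 [17,39,0,28,18,0,53,0,0,17,0,0] (.child 11 3492 nd12_138 .none)

/-- A node. -/
def nd12_140 : Tree :=
  .node 1432 [39,20,17,0,0,52,23,0,0,17,0,0] (.child 11 3480 nd12_139 .none)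

/-- A node. -/
def nd12_141 : Tree :=
  .node 1411 [0,0,57,19,29,15,35,0,0,15,0,0] (.child 11 3459 nd12_140 .none)

/-- A node. -/
def nd12_142 : Tree :=
  .node 1377 [0,20,23,40,53,0,0,14,0,14,0,0] (.child 11 3425 nd12_141 .none)

/-- A node. -/
def nd12_143 : Tree :=
  .node 1362 [27,0,40,20,0,19,0,51,0,19,0,0] (.child 11 3410 nd12_142 .none)

/-- A node. -/
def nd12_144 : Tree :=
  .node 1356 [21,54,0,0,19,23,0,30,0,19,0,0] (.child 11 3404 nd12_143 .none)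

/-- A node. -/
def nd12_145 : Tree :=
  .node 1322 [66,0,22,0,40,0,17,15,0,15,0,0] (.child 11 3370 nd12_144 .none)

/-- A node. -/
def nd12_146 : Tree :=
  .node 1301 [0,24,0,58,0,41,19,11,0,11,0,0] (.child 11 3349 nd12_145 .none)

/-- A node. -/
def nd12_147 : Tree :=
  .node 1250 [29,0,31,45,24,0,0,0,15,15,0,0] (.child 11 3298 nd12_146 .none)

/-- A node. -/
def nd12_148 : Tree :=
  .node 1236 [47,35,0,26,0,23,0,0,9,9,0,0] (.child 11 3284 nd12_147 .none)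

/-- A node. -/
def nd12_149 : Tree :=
  .node 1225 [0,27,25,0,30,33,0,0,43,25,0,0] (.child 11 3273 nd12_148 .none)

/-- A node. -/
def nd12_150 : Tree :=
  .node 1201 [0,51,37,29,0,0,21,0,6,6,0,0] (.child 11 3249 nd12_149 .none)

/-- A node. -/
def nd12_151 : Tree :=
  .node 1166 [39,0,0,0,68,27,23,0,9,9,0,0] (.child 11 3214 nd12_150 .none)

/-- A node. -/
def nd12_152 : Tree :=
  .node 1144 [30,33,54,0,0,0,0,19,11,11,0,0] (.child 11 3192 nd12_151 .none)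

/-- A node. -/
def nd12_153 : Tree :=
  .node 1078 [34,0,0,32,0,0,30,25,48,25,0,0] (.child 11 3126 nd12_152 .none)

/-- A node. -/
def nd12_154 : Tree :=
  .node 1069 [0,36,0,0,33,0,28,50,13,13,0,0] (.child 11 3117 nd12_153 .none)

/-- A node. -/
def nd12_155 : Tree :=
  .node 1051 [0,0,35,0,0,30,56,24,15,15,0,0] (.child 11 3099 nd12_154 .none)

/-- A node. -/
def nd12_156 : Tree :=
  .node 930 [0,0,22,4,38,0,6,0,0,0,0,0] (.child 11 2978 nd12_155 .none)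

/-- A node. -/
def nd12_157 : Tree :=
  .node 929 [0,48,11,40,1,0,15,0,0,0,0,1] (.child 10 1953 nd12_156 .none)

/-- A node. -/
def nd12_158 : Tree :=
  .node 916 [0,36,0,1,0,19,6,0,0,0,0,0] (.child 10 1940 nd12_157 .none)

/-- A node. -/
def nd12_159 : Tree :=
  .node 913 [0,11,46,20,0,41,35,0,0,0,11,0] (.child 11 2961 nd12_158 .none)

/-- A node. -/
def nd12_160 : Tree :=
  .node 908 [37,0,0,0,40,7,14,0,0,0,0,0] (.child 11 2956 nd12_159 .none)

/-- A node. -/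
def nd12_161 : Tree :=
  .node 906 [19,0,44,0,8,39,33,0,0,0,0,8] (.child 10 1930 nd12_160 .none)

/-- A node. -/
def nd12_162 : Tree :=
  .node 872 [20,0,5,0,1,0,0,30,0,0,0,0] (.child 11 2920 nd12_161 .none)

/-- A node. -/
def nd12_163 : Tree :=
  .node 866 [3,0,30,47,18,0,0,30,0,0,0,3] (.child 10 1890 nd12_162 .none)

/-- A node. -/
def nd12_164 : Tree :=
  .node 856 [33,5,0,0,0,36,0,9,0,0,0,0] (.child 10 1880 nd12_163 .none)

/-- A node. -/
def nd12_165 : Tree :=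
  .node 852 [0,18,0,45,0,28,0,28,0,0,0,0] (.child 11 2900 nd12_164 .none)

/-- A node. -/
def nd12_166 : Tree :=
  .node 837 [0,0,0,18,41,2,0,27,0,0,0,0] (.child 10 1861 nd12_165 .none)

/-- A node. -/
def nd12_167 : Tree :=
  .node 835 [0,0,38,30,3,40,0,9,0,0,3,0] (.child 11 2883 nd12_166 .none)

/-- A node. -/
def nd12_168 : Tree :=
  .node 812 [0,20,0,0,32,0,25,25,0,0,0,0] (.child 10 1836 nd12_167 .none)

/-- A node. -/
def nd12_169 : Tree :=
  .node 805 [0,36,0,47,18,0,24,24,0,0,18,0] (.child 11 2853 nd12_168 .none)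

/-- A node. -/
def nd12_170 : Tree :=
  .node 794 [0,0,40,0,0,15,24,24,0,0,0,0] (.child 11 2842 nd12_169 .none)

/-- A node. -/
def nd12_171 : Tree :=
  .node 787 [0,0,18,45,0,36,23,23,0,0,0,18] (.child 10 1811 nd12_170 .none)

/-- A node. -/
def nd12_172 : Tree :=
  .node 752 [0,9,5,1,0,0,0,0,19,0,0,0] (.child 10 1776 nd12_171 .none)

/-- A node. -/
def nd12_173 : Tree :=
  .node 737 [0,3,20,9,34,0,0,0,20,0,3,0] (.child 11 2785 nd12_172 .none)

/-- A node. -/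
def nd12_174 : Tree :=
  .node 728 [5,20,0,0,0,26,0,0,20,0,0,0] (.child 11 2776 nd12_173 .none)

/-- A node. -/
def nd12_175 : Tree :=
  .node 716 [9,0,0,0,50,18,0,0,18,0,0,0] (.child 10 1740 nd12_174 .none)

/-- A node. -/
def nd12_176 : Tree :=
  .node 710 [0,0,0,34,7,2,0,0,17,0,0,0] (.child 11 2758 nd12_175 .none)

/-- A node. -/
def nd12_177 : Tree :=
  .node 707 [0,0,28,3,17,45,0,0,17,0,0,3] (.child 10 1731 nd12_176 .none)

/-- A node. -/
def nd12_178 : Tree :=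
  .node 692 [9,0,0,22,0,0,15,0,15,0,0,0] (.child 11 2740 nd12_177 .none)

/-- A node. -/
def nd12_179 : Tree :=
  .node 678 [26,0,0,9,35,0,14,0,14,0,0,9] (.child 10 1702 nd12_178 .none)

/-- A node. -/
def nd12_180 : Tree :=
  .node 665 [0,0,40,0,0,6,17,0,17,0,0,0] (.child 10 1689 nd12_179 .none)

/-- A node. -/
def nd12_181 : Tree :=
  .node 651 [0,0,9,0,53,35,16,0,16,0,9,0] (.child 11 2699 nd12_180 .none)

/-- A node. -/
def nd12_182 : Tree :=
  .node 626 [25,0,1,3,0,0,0,12,12,0,1,0] (.child 11 2674 nd12_181 .none)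

/-- A node. -/
def nd12_183 : Tree :=
  .node 617 [0,33,1,0,3,0,0,14,14,0,0,1] (.child 10 1641 nd12_182 .none)

/-- A node. -/
def nd12_184 : Tree :=
  .node 598 [5,0,0,26,0,30,0,10,10,0,0,5] (.child 10 1622 nd12_183 .none)

/-- A node. -/
def nd12_185 : Tree :=
  .node 589 [0,5,0,0,35,47,0,12,12,0,5,0] (.child 11 2637 nd12_184 .none)

/-- A node. -/
def nd12_186 : Tree :=
  .node 570 [0,0,2,0,0,0,36,14,14,0,0,0] (.child 10 1594 nd12_185 .none)

/-- A node. -/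
def nd12_187 : Tree :=
  .node 569 [0,29,0,0,0,0,20,13,13,0,0,0] (.child 11 2617 nd12_186 .none)

/-- A node. -/
def nd12_188 : Tree :=
  .node 565 [0,1,0,32,0,0,19,43,19,0,0,1] (.child 10 1589 nd12_187 .none)

/-- A node. -/
def nd12_189 : Tree :=
  .node 558 [1,0,0,0,25,0,21,33,21,0,1,0] (.child 11 2606 nd12_188 .none)

/-- A node. -/
def nd12_190 : Tree :=
  .node 535 [0,0,0,0,0,24,49,15,15,0,0,0] (.child 11 2583 nd12_189 .none)

/-- A node. -/
def nd12_191 : Tree :=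
  .node 527 [0,0,0,0,29,25,19,14,14,0,0,27] (.child 10 1551 nd12_190 .none)

/-- A node. -/
def nd12_192 : Tree :=
  .node 496 [3,2,1,0,0,0,0,0,0,1,0,0] (.child 11 2544 nd12_191 .none)

/-- A node. -/
def nd12_193 : Tree :=
  .node 488 [4,3,0,0,7,0,0,0,0,0,0,3] (.child 10 1512 nd12_192 .none)

/-- A node. -/
def nd12_194 : Tree :=
  .node 484 [5,4,0,27,12,0,0,0,0,0,4,5] (.child 9 996 nd12_193 .none)

/-- A node. -/
def nd12_195 : Tree :=
  .node 466 [0,0,3,1,0,6,0,0,0,0,0,1] (.child 9 978 nd12_194 .none)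

/-- A node. -/
def nd12_196 : Tree :=
  .node 465 [0,28,3,1,0,11,0,0,0,1,0,3] (.child 10 1489 nd12_195 .none)

/-- A node. -/
def nd12_197 : Tree :=
  .node 458 [0,0,1,0,28,25,0,0,0,0,1,0] (.child 11 2506 nd12_196 .none)

/-- A node. -/
def nd12_198 : Tree :=
  .node 457 [0,13,1,0,11,4,0,0,0,0,6,1] (.child 9 969 nd12_197 .none)

/-- A node. -/
def nd12_199 : Tree :=
  .node 454 [0,0,0,11,4,9,0,0,0,6,0,0] (.child 10 1478 nd12_198 .none)

/-- A node. -/
def nd12_200 : Tree :=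
  .node 453 [0,5,0,4,25,23,0,0,0,5,4,0] (.child 11 2501 nd12_199 .none)

/-- A node. -/
def nd12_201 : Tree :=
  .node 440 [1,0,11,0,0,0,24,0,0,0,0,1] (.child 9 952 nd12_200 .none)

/-- A node. -/
def nd12_202 : Tree :=
  .node 434 [13,0,1,26,0,0,22,0,0,12,0,1] (.child 10 1458 nd12_201 .none)

/-- A node. -/
def nd12_203 : Tree :=
  .node 425 [0,13,1,0,10,0,21,0,0,13,1,0] (.child 11 2473 nd12_202 .none)

/-- A node. -/
def nd12_204 : Tree :=
  .node 406 [1,0,0,15,0,10,21,0,0,1,15,0] (.child 11 2454 nd12_203 .none)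

/-- A node. -/
def nd12_205 : Tree :=
  .node 397 [0,0,0,0,15,24,20,0,0,0,0,13] (.child 10 1421 nd12_204 .none)

/-- A node. -/
def nd12_206 : Tree :=
  .node 391 [0,0,0,12,25,11,18,0,0,0,11,12] (.child 9 903 nd12_205 .none)

/-- A node. -/
def nd12_207 : Tree :=
  .node 372 [0,1,0,5,0,0,0,18,0,0,0,1] (.child 10 1396 nd12_206 .none)

/-- A node. -/
def nd12_208 : Tree :=
  .node 369 [0,7,23,1,0,0,0,16,0,0,5,1] (.child 9 881 nd12_207 .none)

/-- A node. -/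
def nd12_209 : Tree :=
  .node 358 [8,0,0,1,5,0,0,15,0,1,8,0] (.child 11 2406 nd12_208 .none)

/-- A node. -/
def nd12_210 : Tree :=
  .node 345 [0,1,10,0,0,3,0,15,0,10,1,0] (.child 11 2393 nd12_209 .none)

/-- A node. -/
def nd12_211 : Tree :=
  .node 334 [0,0,0,0,8,18,0,14,0,0,0,7] (.child 9 846 nd12_210 .none)

/-- A node. -/
def nd12_212 : Tree :=
  .node 331 [0,0,6,0,25,4,0,12,0,4,0,6] (.child 10 1355 nd12_211 .none)

/-- A node. -/
def nd12_213 : Tree :=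
  .node 316 [0,1,0,0,0,0,12,12,0,1,0,0] (.child 11 2364 nd12_212 .none)

/-- A node. -/
def nd12_214 : Tree :=
  .node 313 [0,1,6,0,0,0,28,17,0,2,0,1] (.child 10 1337 nd12_213 .none)

/-- A node. -/
def nd12_215 : Tree :=
  .node 310 [0,0,0,4,0,0,27,14,0,0,2,0] (.child 9 822 nd12_214 .none)

/-- A node. -/
def nd12_216 : Tree :=
  .node 307 [0,0,1,0,0,0,8,8,0,0,1,0] (.child 11 2355 nd12_215 .none)

/-- A node. -/
def nd12_217 : Tree :=
  .node 299 [0,0,0,0,20,0,7,7,0,0,0,1] (.child 9 811 nd12_216 .none)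

/-- A node. -/
def nd12_218 : Tree :=
  .node 295 [0,0,0,0,13,0,6,6,0,33,0,0] (.child 10 1319 nd12_217 .none)

/-- A node. -/
def nd12_219 : Tree :=
  .node 271 [0,0,0,0,0,10,29,10,0,1,0,0] (.child 11 2319 nd12_218 .none)

/-- A node. -/
def nd12_220 : Tree :=
  .node 286 [0,0,0,0,0,9,5,5,0,0,0,32] (.child 10 1310 nd12_219 .none)

/-- A node. -/
def nd12_221 : Tree :=
  .node 285 [0,16,0,0,0,10,4,4,0,0,32,15] (.child 9 797 nd12_220 .none)

/-- A node. -/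
def nd12_222 : Tree :=
  .node 236 [1,0,0,0,3,0,0,0,3,0,1,0] (.child 11 2284 nd12_221 .none)

/-- A node. -/
def nd12_223 : Tree :=
  .node 234 [1,0,6,0,3,0,0,0,1,0,3,5] (.child 9 746 nd12_222 .none)

/-- A node. -/
def nd12_224 : Tree :=
  .node 229 [0,0,0,8,7,0,0,0,0,8,0,6] (.child 10 1253 nd12_223 .none)

/-- A node. -/
def nd12_225 : Tree :=
  .node 227 [0,0,5,8,9,0,0,0,0,9,8,5] (.child 8 483 nd12_224 .none)

/-- A node. -/
def nd12_226 : Tree :=
  .node 220 [10,0,0,0,0,1,0,0,0,9,0,10] (.child 8 476 nd12_225 .none)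

/-- A node. -/
def nd12_227 : Tree :=
  .node 218 [10,0,8,0,0,1,0,0,10,8,0,1] (.child 10 1242 nd12_226 .none)

/-- A node. -/
def nd12_228 : Tree :=
  .node 188 [3,0,0,0,0,0,13,0,1,4,0,0] (.child 10 1212 nd12_227 .none)

/-- A node. -/
def nd12_229 : Tree :=
  .node 186 [4,0,0,0,0,0,13,0,0,5,4,0] (.child 11 2234 nd12_228 .none)

/-- A node. -/
def nd12_230 : Tree :=
  .node 174 [0,0,0,0,5,0,16,0,0,2,3,0] (.child 8 430 nd12_229 .none)

/-- A node. -/
def nd12_231 : Tree :=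
  .node 167 [0,0,0,1,0,0,15,0,0,1,2,0] (.child 11 2215 nd12_230 .none)

/-- A node. -/
def nd12_232 : Tree :=
  .node 181 [0,2,0,0,0,0,7,0,0,0,6,4] (.child 8 437 nd12_231 .none)

/-- A node. -/
def nd12_233 : Tree :=
  .node 173 [0,0,0,0,3,0,10,0,15,0,0,3] (.child 9 685 nd12_232 .none)

/-- A node. -/
def nd12_234 : Tree :=
  .node 171 [0,0,22,0,0,0,9,0,3,0,0,15] (.child 10 1195 nd12_233 .none)

/-- A node. -/
def nd12_235 : Tree :=
  .node 179 [0,0,3,2,0,0,5,0,2,0,3,5] (.child 9 691 nd12_234 .none)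

/-- A node. -/
def nd12_236 : Tree :=
  .node 158 [0,0,0,0,0,10,10,0,1,0,2,0] (.child 9 670 nd12_235 .none)

/-- A node. -/
def nd12_237 : Tree :=
  .node 157 [0,0,0,0,0,6,2,0,0,2,1,0] (.child 11 2205 nd12_236 .none)

/-- A node. -/
def nd12_238 : Tree :=
  .node 155 [0,0,0,0,0,5,2,0,0,16,0,2] (.child 8 411 nd12_237 .none)

/-- A node. -/
def nd12_239 : Tree :=
  .node 151 [0,0,0,17,0,7,0,0,16,0,0,1] (.child 10 1175 nd12_238 .none)

/-- A node. -/
def nd12_240 : Tree :=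
  .node 213 [0,0,0,3,0,3,0,0,15,0,13,0] (.child 9 725 nd12_239 .none)

/-- A node. -/
def nd12_241 : Tree :=
  .node 211 [0,0,5,2,0,2,0,0,14,13,4,0] (.child 11 2259 nd12_240 .none)

/-- A node. -/
def nd12_242 : Tree :=
  .node 124 [1,0,0,0,0,0,0,1,0,0,5,2] (.child 9 636 nd12_241 .none)

/-- A node. -/
def nd12_243 : Tree :=
  .node 122 [0,0,3,0,0,0,0,0,0,11,2,6] (.child 8 378 nd12_242 .none)

/-- A node. -/
def nd12_244 : Tree :=
  .node 121 [0,1,0,0,0,0,0,0,4,10,1,0] (.child 7 249 nd12_243 .none)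

/-- A node. -/
def nd12_245 : Tree :=
  .node 117 [0,0,0,3,0,0,0,1,3,6,0,0] (.child 11 2165 nd12_244 .none)

/-- A node. -/
def nd12_246 : Tree :=
  .node 115 [0,0,0,3,0,0,0,0,9,5,0,3] (.child 10 1139 nd12_245 .none)

/-- A node. -/
def nd12_247 : Tree :=
  .node 118 [4,0,0,0,0,0,0,0,8,4,0,5] (.child 7 246 nd12_246 .none)

/-- A node. -/
def nd12_248 : Tree :=
  .node 110 [0,0,0,0,4,0,0,8,0,3,0,1] (.child 10 1134 nd12_247 .none)

/-- A node. -/
def nd12_249 : Tree :=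
  .node 109 [0,0,0,0,4,0,0,7,0,2,4,0] (.child 8 365 nd12_248 .none)

/-- A node. -/
def nd12_250 : Tree :=
  .node 107 [0,0,1,0,4,0,0,6,0,1,0,0] (.child 8 363 nd12_3 (.child 10 1131 nd12_126 (.child 11 2155 nd12_249 .none)))

/-- A node. -/
def nd12_251 : Tree :=
  .node 1095 [0,0,0,2,2,0,0,5,4,0,0,0] (.child 11 3143 nd12_250 .none)

/-- A node. -/
def nd12_252 : Tree :=
  .node 1984 [30,32,33,33,32,30,0,0,0,0,0,0] (.child 11 4032 (.leaf 2) .none)

/-- A node. -/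
def nd12_253 : Tree :=
  .node 1840 [29,31,34,36,0,0,34,29,0,0,0,0] (.child 11 3888 nd12_252 .none)

/-- A node. -/
def nd12_254 : Tree :=
  .node 1801 [0,38,31,0,35,28,35,28,0,0,0,0] (.child 11 3849 nd12_253 .none)

/-- A node. -/
def nd12_255 : Tree :=
  .node 1798 [37,0,0,30,29,32,32,29,0,0,0,0] (.child 11 3846 nd12_254 .none)

/-- A node. -/
def nd12_256 : Tree :=
  .node 1704 [26,38,29,0,41,0,41,0,26,0,0,0] (.child 11 3752 nd12_255 .none)

/-- A node. -/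
def nd12_257 : Tree :=
  .node 1684 [38,27,0,28,0,40,40,0,27,0,0,0] (.child 11 3732 nd12_256 .none)

/-- A node. -/
def nd12_258 : Tree :=
  .node 1667 [0,0,44,42,26,24,34,0,24,0,0,0] (.child 11 3715 nd12_257 .none)

/-- A node. -/
def nd12_259 : Tree :=
  .node 1634 [33,0,28,35,38,0,0,38,28,0,0,0] (.child 11 3682 nd12_258 .none)

/-- A node. -/
def nd12_260 : Tree :=
  .node 1617 [0,32,35,29,0,37,0,37,29,0,0,0] (.child 11 3665 nd12_259 .none)

/-- A node. -/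
def nd12_261 : Tree :=
  .node 1612 [41,39,0,0,28,26,0,24,24,0,0,0] (.child 11 3660 nd12_260 .none)

/-- A node. -/
def nd12_262 : Tree :=
  .node 1573 [0,42,0,46,33,0,25,20,20,0,0,0] (.child 11 3621 nd12_261 .none)

/-- A node. -/
def nd12_263 : Tree :=
  .node 1562 [42,0,46,0,0,31,26,21,21,0,0,0] (.child 11 3610 nd12_262 .none)

/-- A node. -/
def nd12_264 : Tree :=
  .node 1444 [18,40,0,21,55,0,23,0,0,18,0,0] (.child 11 3492 nd12_263 .none)

/-- A node. -/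
def nd12_265 : Tree :=
  .node 1425 [0,19,30,40,0,17,54,0,0,17,0,0] (.child 11 3473 nd12_264 .none)

/-- A node. -/
def nd12_266 : Tree :=
  .node 1418 [56,0,19,0,18,28,34,0,0,18,0,0] (.child 11 3466 nd12_265 .none)

/-- A node. -/
def nd12_267 : Tree :=
  .node 1384 [41,27,20,0,22,0,0,50,0,20,0,0] (.child 11 3432 nd12_266 .none)

/-- A node. -/
def nd12_268 : Tree :=
  .node 1362 [24,0,41,21,0,50,0,16,0,16,0,0] (.child 11 3410 nd12_267 .none)

/-- A node. -/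
def nd12_269 : Tree :=
  .node 1349 [0,23,0,53,26,18,0,33,0,18,0,0] (.child 11 3397 nd12_268 .none)

/-- A node. -/
def nd12_270 : Tree :=
  .node 1315 [0,0,60,24,42,0,22,12,0,12,0,0] (.child 11 3363 nd12_269 .none)

/-- A node. -/
def nd12_271 : Tree :=
  .node 1308 [24,64,0,0,0,39,18,14,0,14,0,0] (.child 11 3356 nd12_270 .none)

/-- A node. -/
def nd12_272 : Tree :=
  .node 1249 [0,46,30,36,25,0,0,0,10,10,0,0] (.child 11 3297 nd12_271 .none)

/-- A node. -/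
def nd12_273 : Tree :=
  .node 1240 [32,27,46,0,0,24,0,0,16,16,0,0] (.child 11 3288 nd12_272 .none)

/-- A node. -/
def nd12_274 : Tree :=
  .node 1222 [28,0,0,26,35,30,0,0,44,26,0,0] (.child 11 3270 nd12_273 .none)

/-- A node. -/
def nd12_275 : Tree :=
  .node 1202 [37,0,29,50,0,0,22,0,9,9,0,0] (.child 11 3250 nd12_274 .none)

/-- A node. -/
def nd12_276 : Tree :=
  .node 1165 [0,39,0,0,29,65,26,0,9,9,0,0] (.child 11 3213 nd12_275 .none)

/-- A node. -/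
def nd12_277 : Tree :=
  .node 1140 [55,32,0,33,0,0,0,20,10,10,0,0] (.child 11 3188 nd12_276 .none)

/-- A node. -/
def nd12_278 : Tree :=
  .node 1099 [0,0,37,0,67,30,0,22,14,14,0,0] (.child 11 3147 nd12_277 .none)

/-- A node. -/
def nd12_279 : Tree :=
  .node 1081 [0,33,31,0,0,0,29,26,46,26,0,0] (.child 11 3129 nd12_278 .none)

/-- A node. -/
def nd12_280 : Tree :=
  .node 1070 [35,0,0,0,30,0,55,24,14,14,0,0] (.child 11 3118 nd12_279 .none)

/-- A node. -/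
def nd12_281 : Tree :=
  .node 1047 [0,0,0,34,0,31,28,49,14,14,0,0] (.child 11 3095 nd12_280 .none)

/-- A node. -/
def nd12_282 : Tree :=
  .node 930 [0,0,22,12,2,0,35,0,0,0,0,0] (.child 11 2978 nd12_281 .none)

/-- A node. -/
def nd12_283 : Tree :=
  .node 929 [0,46,3,34,20,0,5,0,0,0,0,3] (.child 10 1953 nd12_282 .none)

/-- A node. -/
def nd12_284 : Tree :=
  .node 920 [21,0,1,0,0,33,5,0,0,0,0,0] (.child 11 2968 nd12_283 .none)

/-- A node. -/
def nd12_285 : Tree :=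
  .node 914 [11,0,38,44,0,41,14,0,0,0,0,11] (.child 10 1938 nd12_284 .none)

/-- A node. -/
def nd12_286 : Tree :=
  .node 908 [0,20,0,0,40,7,31,0,0,0,0,0] (.child 10 1932 nd12_285 .none)

/-- A node. -/
def nd12_287 : Tree :=
  .node 901 [0,36,0,42,8,39,15,0,0,0,8,0] (.child 11 2949 nd12_286 .none)

/-- A node. -/
def nd12_288 : Tree :=
  .node 868 [0,35,0,5,2,0,0,10,0,0,0,0] (.child 10 1892 nd12_287 .none)

/-- A node. -/
def nd12_289 : Tree :=
  .node 865 [0,3,47,19,31,0,0,28,0,0,3,0] (.child 11 2913 nd12_288 .none)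

/-- A node. -/
def nd12_290 : Tree :=
  .node 856 [30,1,0,0,0,17,0,27,0,0,0,0] (.child 10 1880 nd12_289 .none)

/-- A node. -/
def nd12_291 : Tree :=
  .node 852 [4,18,0,45,0,35,0,28,0,0,4,0] (.child 11 2900 nd12_290 .none)

/-- A node. -/
def nd12_292 : Tree :=
  .node 842 [0,0,31,0,39,2,0,8,0,0,0,0] (.child 11 2890 nd12_291 .none)

/-- A node. -/
def nd12_293 : Tree :=
  .node 835 [0,0,30,36,3,38,0,27,0,0,0,3] (.child 10 1859 nd12_292 .none)

/-- A node. -/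
def nd12_294 : Tree :=
  .node 812 [42,0,0,0,16,0,23,23,0,0,0,0] (.child 11 2860 nd12_293 .none)

/-- A node. -/
def nd12_295 : Tree :=
  .node 810 [18,0,47,0,36,0,22,22,0,0,0,18] (.child 10 1834 nd12_294 .none)

/-- A node. -/
def nd12_296 : Tree :=
  .node 789 [0,0,0,18,0,30,24,24,0,0,0,0] (.child 10 1813 nd12_295 .none)

/-- A node. -/
def nd12_297 : Tree :=
  .node 787 [0,0,45,32,0,15,23,23,0,0,15,0] (.child 11 2835 nd12_296 .none)

/-- A node. -/
def nd12_298 : Tree :=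
  .node 752 [5,1,0,9,0,0,0,0,18,0,0,0] (.child 10 1776 nd12_297 .none)

/-- A node. -/
def nd12_299 : Tree :=
  .node 740 [3,5,0,18,27,0,0,0,18,0,3,0] (.child 11 2788 nd12_298 .none)

/-- A node. -/
def nd12_300 : Tree :=
  .node 722 [20,0,9,0,0,31,0,0,20,0,0,0] (.child 11 2770 nd12_299 .none)

/-- A node. -/
def nd12_301 : Tree :=
  .node 714 [0,0,5,0,49,16,0,0,16,0,0,0] (.child 10 1738 nd12_300 .none)

/-- A node. -/
def nd12_302 : Tree :=
  .node 713 [0,27,0,0,3,6,0,0,15,0,0,0] (.child 11 2761 nd12_301 .none)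

/-- A node. -/
def nd12_303 : Tree :=
  .node 709 [0,20,0,33,17,45,0,0,17,0,0,61] (.child 10 1733 nd12_302 .none)

/-- A node. -/
def nd12_304 : Tree :=
  .node 689 [0,8,22,1,0,0,16,0,16,0,1,0] (.child 11 2737 nd12_303 .none)

/-- A node. -/
def nd12_305 : Tree :=
  .node 678 [37,0,0,1,6,0,18,0,18,0,0,1] (.child 10 1702 nd12_304 .none)

/-- A node. -/
def nd12_306 : Tree :=
  .node 665 [0,23,8,0,0,32,14,0,14,0,0,8] (.child 10 1689 nd12_305 .none)

/-- A node. -/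
def nd12_307 : Tree :=
  .node 654 [8,0,0,0,37,46,16,0,16,0,8,0] (.child 11 2702 nd12_306 .none)

/-- A node. -/
def nd12_308 : Tree :=
  .node 632 [0,23,2,0,0,0,0,9,9,0,0,0] (.child 11 2680 nd12_307 .none)

/-- A node. -/
def nd12_309 : Tree :=
  .node 617 [0,4,27,0,29,0,0,8,8,0,0,4] (.child 10 1641 nd12_308 .none)

/-- A node. -/
def nd12_310 : Tree :=
  .node 598 [53,0,0,34,0,1,0,13,13,0,0,1] (.child 10 1622 nd12_309 .none)

/-- A node. -/
def nd12_311 : Tree :=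
  .node 572 [3,0,0,0,0,0,39,15,15,0,0,0] (.child 10 1596 nd12_310 .none)

/-- A node. -/
def nd12_312 : Tree :=
  .node 566 [0,0,0,32,0,0,19,14,14,0,0,0] (.child 11 2614 nd12_311 .none)

/-- A node. -/
def nd12_313 : Tree :=
  .node 563 [0,0,29,0,0,0,18,36,18,0,0,0] (.child 10 1587 nd12_312 .none)

/-- A node. -/
def nd12_314 : Tree :=
  .node 555 [0,0,1,0,24,0,35,15,15,0,1,0] (.child 11 2603 nd12_313 .none)

/-- A node. -/
def nd12_315 : Tree :=
  .node 541 [0,0,0,0,0,23,21,35,21,0,0,0] (.child 11 2589 nd12_314 .none)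

/-- A node. -/
def nd12_316 : Tree :=
  .node 527 [0,0,0,0,28,26,20,13,13,0,0,27] (.child 10 1551 nd12_315 .none)

/-- A node. -/
def nd12_317 : Tree :=
  .node 496 [3,1,2,0,0,0,0,0,0,0,1,0] (.child 11 2544 nd12_316 .none)

/-- A node. -/
def nd12_318 : Tree :=
  .node 488 [4,0,3,0,7,0,0,0,0,0,0,3] (.child 9 1000 nd12_317 .none)

/-- A node. -/
def nd12_319 : Tree :=
  .node 482 [5,0,4,28,12,0,0,0,0,4,0,5] (.child 10 1506 nd12_318 .none)

/-- A node. -/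
def nd12_320 : Tree :=
  .node 468 [0,3,0,1,0,6,0,0,0,0,0,1] (.child 10 1492 nd12_319 .none)

/-- A node. -/
def nd12_321 : Tree :=
  .node 465 [0,3,27,1,0,11,0,0,0,0,1,3] (.child 9 977 nd12_320 .none)

/-- A node. -/
def nd12_322 : Tree :=
  .node 460 [0,1,0,0,28,24,0,0,0,1,0,0] (.child 11 2508 nd12_321 .none)

/-- A node. -/
def nd12_323 : Tree :=
  .node 457 [0,1,13,0,11,4,0,0,0,6,0,1] (.child 10 1481 nd12_322 .none)

/-- A node. -/
def nd12_324 : Tree :=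
  .node 454 [0,0,0,11,4,9,0,0,0,0,6,0] (.child 9 966 nd12_323 .none)

/-- A node. -/
def nd12_325 : Tree :=
  .node 451 [0,0,5,4,26,23,0,0,0,4,5,0] (.child 11 2499 nd12_324 .none)

/-- A node. -/
def nd12_326 : Tree :=
  .node 440 [1,11,0,0,0,0,25,0,0,0,0,1] (.child 10 1464 nd12_325 .none)

/-- A node. -/
def nd12_327 : Tree :=
  .node 436 [13,1,0,25,0,0,21,0,0,0,12,1] (.child 9 948 nd12_326 .none)

/-- A node. -/
def nd12_328 : Tree :=
  .node 425 [0,1,13,0,10,0,20,0,0,1,13,0] (.child 11 2473 nd12_327 .none)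

/-- A node. -/
def nd12_329 : Tree :=
  .node 406 [1,0,0,15,0,10,22,0,0,15,1,0] (.child 11 2454 nd12_328 .none)

/-- A node. -/
def nd12_330 : Tree :=
  .node 395 [0,0,0,0,15,24,21,0,0,0,0,13] (.child 9 907 nd12_329 .none)

/-- A node. -/
def nd12_331 : Tree :=
  .node 391 [0,0,0,12,28,11,17,0,0,11,0,12] (.child 10 1415 nd12_330 .none)

/-- A node. -/
def nd12_332 : Tree :=
  .node 370 [0,0,1,5,0,0,0,19,0,0,0,1] (.child 9 882 nd12_331 .none)

/-- A node. -/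
def nd12_333 : Tree :=
  .node 369 [0,26,7,1,0,0,0,15,0,5,0,1] (.child 10 1393 nd12_332 .none)

/-- A node. -/
def nd12_334 : Tree :=
  .node 358 [8,0,0,1,5,0,0,14,0,8,1,0] (.child 11 2406 nd12_333 .none)

/-- A node. -/
def nd12_335 : Tree :=
  .node 345 [0,10,1,0,0,3,0,16,0,1,10,0] (.child 11 2393 nd12_334 .none)

/-- A node. -/
def nd12_336 : Tree :=
  .node 334 [0,0,0,0,8,21,0,15,0,0,0,7] (.child 10 1358 nd12_335 .none)

/-- A node. -/
def nd12_337 : Tree :=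
  .node 333 [0,6,0,0,25,4,0,11,0,0,4,6] (.child 9 845 nd12_336 .none)

/-- A node. -/
def nd12_338 : Tree :=
  .node 314 [0,0,1,0,0,0,13,13,0,0,1,0] (.child 11 2362 nd12_337 .none)

/-- A node. -/
def nd12_339 : Tree :=
  .node 313 [0,6,1,0,0,0,27,20,0,0,2,1] (.child 9 825 nd12_338 .none)

/-- A node. -/
def nd12_340 : Tree :=
  .node 310 [0,0,0,4,0,0,26,17,0,2,0,0] (.child 10 1334 nd12_339 .none)

/-- A node. -/
def nd12_341 : Tree :=
  .node 309 [0,1,0,0,0,0,7,7,0,1,0,0] (.child 11 2357 nd12_340 .none)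

/-- A node. -/
def nd12_342 : Tree :=
  .node 301 [0,0,0,0,20,0,6,6,0,0,0,1] (.child 10 1325 nd12_341 .none)

/-- A node. -/
def nd12_343 : Tree :=
  .node 295 [0,0,0,0,16,0,5,5,0,0,33,0] (.child 9 807 nd12_342 .none)

/-- A node. -/
def nd12_344 : Tree :=
  .node 271 [0,0,0,0,0,13,30,13,0,0,1,0] (.child 11 2319 nd12_343 .none)

/-- A node. -/
def nd12_345 : Tree :=
  .node 286 [0,0,0,0,0,12,6,6,0,0,0,32] (.child 9 798 nd12_344 .none)

/-- A node. -/
def nd12_346 : Tree :=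
  .node 283 [0,0,16,0,0,13,5,5,0,33,0,15] (.child 10 1307 nd12_345 .none)

/-- A node. -/
def nd12_347 : Tree :=
  .node 236 [1,0,0,0,3,0,0,0,1,3,0,0] (.child 10 1260 nd12_346 .none)

/-- A node. -/
def nd12_348 : Tree :=
  .node 234 [1,0,9,0,3,0,0,0,3,1,6,0] (.child 11 2282 nd12_347 .none)

/-- A node. -/
def nd12_349 : Tree :=
  .node 229 [0,0,0,6,7,0,0,0,0,0,7,9] (.child 8 485 nd12_348 .none)

/-- A node. -/
def nd12_350 : Tree :=
  .node 227 [0,0,8,4,9,0,0,0,9,0,4,8] (.child 9 739 nd12_349 .none)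

/-- A node. -/
def nd12_351 : Tree :=
  .node 220 [11,0,0,0,0,1,0,0,0,0,9,1] (.child 9 732 nd12_350 .none)

/-- A node. -/
def nd12_352 : Tree :=
  .node 218 [9,0,8,0,0,1,0,0,0,1,8,9] (.child 8 474 nd12_351 .none)

/-- A node. -/
def nd12_353 : Tree :=
  .node 188 [2,0,0,0,0,0,13,0,4,0,3,0] (.child 11 2236 nd12_352 .none)

/-- A node. -/
def nd12_354 : Tree :=
  .node 186 [0,0,3,0,0,0,13,0,3,0,0,7] (.child 9 698 nd12_353 .none)

/-- A node. -/
def nd12_355 : Tree :=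
  .node 171 [0,0,0,0,4,0,13,0,2,0,0,3] (.child 10 1195 nd12_354 .none)

/-- A node. -/
def nd12_356 : Tree :=
  .node 173 [0,1,0,0,0,0,12,0,1,0,0,2] (.child 9 685 nd12_355 .none)

/-- A node. -/
def nd12_357 : Tree :=
  .node 181 [0,1,0,5,0,0,7,0,2,6,0,1] (.child 10 1205 nd12_356 .none)

/-- A node. -/
def nd12_358 : Tree :=
  .node 174 [0,0,0,0,2,0,13,0,0,15,2,0] (.child 8 430 nd12_357 .none)

/-- A node. -/
def nd12_359 : Tree :=
  .node 167 [0,0,0,22,0,0,12,0,0,4,17,0] (.child 11 2215 nd12_358 .none)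

/-- A node. -/
def nd12_360 : Tree :=
  .node 179 [0,0,3,1,0,0,5,0,0,3,5,1] (.child 8 435 nd12_359 .none)

/-- A node. -/
def nd12_361 : Tree :=
  .node 158 [0,0,0,0,0,10,10,0,1,2,0,0] (.child 10 1182 nd12_360 .none)

/-- A node. -/
def nd12_362 : Tree :=
  .node 155 [0,0,0,0,0,6,3,0,0,1,3,0] (.child 11 2203 nd12_361 .none)

/-- A node. -/
def nd12_363 : Tree :=
  .node 157 [0,0,0,0,0,5,1,0,0,0,15,1] (.child 8 413 nd12_362 .none)

/-- A node. -/
def nd12_364 : Tree :=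
  .node 151 [0,0,0,17,0,7,0,0,16,0,1,0] (.child 9 663 nd12_363 .none)

/-- A node. -/
def nd12_365 : Tree :=
  .node 213 [0,0,0,3,0,3,0,0,15,4,0,0] (.child 11 2261 nd12_364 .none)

/-- A node. -/
def nd12_366 : Tree :=
  .node 211 [0,0,5,2,0,2,0,0,14,13,0,4] (.child 10 1235 nd12_365 .none)

/-- A node. -/
def nd12_367 : Tree :=
  .node 124 [1,0,0,0,0,0,0,1,0,2,0,5] (.child 8 380 nd12_366 .none)

/-- A node. -/
def nd12_368 : Tree :=
  .node 122 [0,0,3,0,0,0,0,0,6,5,0,2] (.child 10 1146 nd12_367 .none)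

/-- A node. -/
def nd12_369 : Tree :=
  .node 121 [0,1,0,0,0,0,0,0,5,0,9,1] (.child 7 249 nd12_368 .none)

/-- A node. -/
def nd12_370 : Tree :=
  .node 117 [0,0,0,2,0,0,0,1,10,0,6,0] (.child 9 629 nd12_369 .none)

/-- A node. -/
def nd12_371 : Tree :=
  .node 115 [0,0,0,3,0,0,0,0,3,8,5,0] (.child 11 2163 nd12_370 .none)

/-- A node. -/
def nd12_372 : Tree :=
  .node 118 [4,0,0,1,0,0,0,0,8,1,4,5] (.child 7 246 nd12_371 .none)

/-- A node. -/
def nd12_373 : Tree :=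
  .node 109 [0,0,0,0,5,0,0,8,1,0,3,0] (.child 11 2157 nd12_372 .none)

/-- A node. -/
def nd12_374 : Tree :=
  .node 110 [0,0,0,0,3,0,0,7,0,0,2,3] (.child 9 622 nd12_373 .none)

/-- A node. -/
def nd12_375 : Tree :=
  .node 1984 [30,33,32,33,32,30,0,0,0,0,0,0] (.child 11 4032 (.leaf 3) .none)

/-- A node. -/
def nd12_376 : Tree :=
  .node 1840 [29,36,31,34,0,0,34,29,0,0,0,0] (.child 11 3888 nd12_375 .none)

/-- A node. -/
def nd12_377 : Tree :=
  .node 1804 [38,31,0,0,30,33,33,30,0,0,0,0] (.child 11 3852 nd12_376 .none)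

/-- A node. -/
def nd12_378 : Tree :=
  .node 1795 [0,0,37,30,34,27,34,27,0,0,0,0] (.child 11 3843 nd12_377 .none)

/-- A node. -/
def nd12_379 : Tree :=
  .node 1704 [26,29,41,0,43,0,31,0,26,0,0,0] (.child 11 3752 nd12_378 .none)

/-- A node. -/
def nd12_380 : Tree :=
  .node 1681 [0,45,27,38,0,25,42,0,25,0,0,0] (.child 11 3729 nd12_379 .none)

/-- A node. -/
def nd12_381 : Tree :=
  .node 1670 [44,0,0,27,26,36,39,0,26,0,0,0] (.child 11 3718 nd12_380 .none)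

/-- A node. -/
def nd12_382 : Tree :=
  .node 1634 [43,0,35,28,30,0,0,38,28,0,0,0] (.child 11 3682 nd12_381 .none)

/-- A node. -/
def nd12_383 : Tree :=
  .node 1620 [32,29,0,39,0,37,0,24,24,0,0,0] (.child 11 3668 nd12_382 .none)

/-- A node. -/
def nd12_384 : Tree :=
  .node 1609 [0,41,31,0,34,26,0,38,26,0,0,0] (.child 11 3657 nd12_383 .none)

/-- A node. -/
def nd12_385 : Tree :=
  .node 1573 [0,32,0,43,46,0,30,20,20,0,0,0] (.child 11 3621 nd12_384 .none)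

/-- A node. -/
def nd12_386 : Tree :=
  .node 1562 [32,0,46,0,0,41,26,22,22,0,0,0] (.child 11 3610 nd12_385 .none)

/-- A node. -/
def nd12_387 : Tree :=
  .node 1444 [18,30,0,57,20,0,33,0,0,18,0,0] (.child 11 3492 nd12_386 .none)

/-- A node. -/
def nd12_388 : Tree :=
  .node 1426 [55,0,19,20,0,39,24,0,0,19,0,0] (.child 11 3474 nd12_387 .none)

/-- A node. -/
def nd12_389 : Tree :=
  .node 1417 [0,19,39,0,29,16,54,0,0,16,0,0] (.child 11 3465 nd12_388 .none)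

/-- A node. -/
def nd12_390 : Tree :=
  .node 1377 [0,51,25,20,41,0,0,15,0,15,0,0] (.child 11 3425 nd12_389 .none)

/-- A node. -/
def nd12_391 : Tree :=
  .node 1368 [27,21,53,0,0,19,0,31,0,19,0,0] (.child 11 3416 nd12_390 .none)

/-- A node. -/
def nd12_392 : Tree :=
  .node 1350 [23,0,0,40,20,25,0,49,0,20,0,0] (.child 11 3398 nd12_391 .none)

/-- A node. -/
def nd12_393 : Tree :=
  .node 1322 [43,0,24,0,55,0,17,15,0,15,0,0] (.child 11 3370 nd12_392 .none)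

/-- A node. -/
def nd12_394 : Tree :=
  .node 1301 [0,44,0,24,0,60,21,13,0,13,0,0] (.child 11 3349 nd12_393 .none)

/-- A node. -/
def nd12_395 : Tree :=
  .node 1264 [36,32,25,27,0,0,0,0,44,25,0,0] (.child 11 3312 nd12_394 .none)

/-- A node. -/
def nd12_396 : Tree :=
  .node 1226 [29,0,36,0,26,45,0,0,12,12,0,0] (.child 11 3274 nd12_395 .none)

/-- A node. -/
def nd12_397 : Tree :=
  .node 1221 [0,28,0,31,46,23,0,0,18,18,0,0] (.child 11 3269 nd12_396 .none)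

/-- A node. -/
def nd12_398 : Tree :=
  .node 1187 [0,0,55,38,29,0,27,0,7,7,0,0] (.child 11 3235 nd12_397 .none)

/-- A node. -/
def nd12_399 : Tree :=
  .node 1180 [29,68,0,0,0,34,23,0,8,8,0,0] (.child 11 3228 nd12_398 .none)

/-- A node. -/
def nd12_400 : Tree :=
  .node 1132 [64,32,0,0,33,0,0,20,10,10,0,0] (.child 11 3180 nd12_399 .none)

/-- A node. -/
def nd12_401 : Tree :=
  .node 1107 [0,0,37,58,0,30,0,24,11,11,0,0] (.child 11 3155 nd12_400 .none)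

/-- A node. -/
def nd12_402 : Tree :=
  .node 1081 [0,34,31,0,0,0,29,46,16,16,0,0] (.child 11 3129 nd12_401 .none)

/-- A node. -/
def nd12_403 : Tree :=
  .node 1078 [35,0,0,30,0,0,51,24,14,14,0,0] (.child 11 3126 nd12_402 .none)

/-- A node. -/
def nd12_404 : Tree :=
  .node 1039 [0,0,0,0,34,32,28,24,49,24,0,0] (.child 11 3087 nd12_403 .none)

/-- A node. -/
def nd12_405 : Tree :=
  .node 930 [0,0,12,3,22,0,34,0,0,0,0,0] (.child 11 2978 nd12_404 .none)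

/-- A node. -/
def nd12_406 : Tree :=
  .node 929 [0,45,3,10,33,0,15,0,0,0,0,3] (.child 10 1953 nd12_405 .none)

/-- A node. -/
def nd12_407 : Tree :=
  .node 920 [11,1,0,0,0,32,15,0,0,0,0,0] (.child 11 2968 nd12_406 .none)

/-- A node. -/
def nd12_408 : Tree :=
  .node 916 [1,11,0,42,0,18,31,0,0,0,0,1] (.child 10 1940 nd12_407 .none)

/-- A node. -/
def nd12_409 : Tree :=
  .node 906 [20,0,37,0,42,41,5,0,0,0,0,5] (.child 10 1930 nd12_408 .none)

/-- A node. -/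
def nd12_410 : Tree :=
  .node 901 [0,36,0,18,41,40,5,0,0,0,5,0] (.child 11 2949 nd12_409 .none)

/-- A node. -/
def nd12_411 : Tree :=
  .node 872 [5,3,0,0,19,0,0,28,0,0,0,0] (.child 10 1896 nd12_410 .none)

/-- A node. -/
def nd12_412 : Tree :=
  .node 868 [3,5,0,38,27,0,0,8,0,0,3,0] (.child 11 2916 nd12_411 .none)

/-- A node. -/
def nd12_413 : Tree :=
  .node 850 [0,0,6,1,0,26,0,10,0,0,0,0] (.child 10 1874 nd12_412 .none)

/-- A node. -/
def nd12_414 : Tree :=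
  .node 849 [0,37,1,4,0,17,0,25,0,0,1,0] (.child 11 2897 nd12_413 .none)

/-- A node. -/
def nd12_415 : Tree :=
  .node 842 [30,0,17,0,42,41,0,30,0,0,17,0] (.child 11 2890 nd12_414 .none)

/-- A node. -/
def nd12_416 : Tree :=
  .node 837 [0,30,0,29,41,40,0,29,0,0,0,42] (.child 10 1861 nd12_415 .none)

/-- A node. -/
def nd12_417 : Tree :=
  .node 809 [0,19,33,0,1,0,28,28,0,0,1,0] (.child 11 2857 nd12_416 .none)

/-- A node. -/
def nd12_418 : Tree :=
  .node 806 [38,0,0,17,1,0,28,28,0,0,0,1] (.child 10 1830 nd12_417 .none)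

/-- A node. -/
def nd12_419 : Tree :=
  .node 793 [0,32,18,0,0,42,26,26,0,0,0,18] (.child 10 1817 nd12_418 .none)

/-- A node. -/
def nd12_420 : Tree :=
  .node 790 [18,0,0,37,0,41,26,26,0,0,18,0] (.child 11 2838 nd12_419 .none)

/-- A node. -/
def nd12_421 : Tree :=
  .node 740 [0,25,0,3,5,0,0,0,18,0,0,0] (.child 10 1764 nd12_420 .none)

/-- A node. -/
def nd12_422 : Tree :=
  .node 737 [0,3,50,23,9,0,0,0,17,0,3,0] (.child 11 2785 nd12_421 .none)

/-- A node. -/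
def nd12_423 : Tree :=
  .node 728 [22,0,1,0,0,7,0,0,16,0,0,0] (.child 10 1752 nd12_422 .none)

/-- A node. -/
def nd12_424 : Tree :=
  .node 722 [1,0,22,45,0,3,0,0,15,0,1,0] (.child 11 2770 nd12_423 .none)

/-- A node. -/
def nd12_425 : Tree :=
  .node 716 [3,7,0,0,32,25,0,0,19,0,3,0] (.child 11 2764 nd12_424 .none)

/-- A node. -/
def nd12_426 : Tree :=
  .node 707 [0,0,20,3,25,30,0,0,19,0,0,3] (.child 10 1731 nd12_425 .none)

/-- A node. -/
def nd12_427 : Tree :=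
  .node 692 [36,0,0,6,0,0,12,0,12,0,0,0] (.child 11 2740 nd12_426 .none)

/-- A node. -/
def nd12_428 : Tree :=
  .node 690 [6,0,50,33,0,0,11,0,11,0,0,6] (.child 10 1714 nd12_427 .none)

/-- A node. -/
def nd12_429 : Tree :=
  .node 653 [0,0,0,0,8,21,16,0,16,0,0,0] (.child 10 1677 nd12_428 .none)

/-- A node. -/
def nd12_430 : Tree :=
  .node 651 [0,0,36,0,21,6,15,0,15,0,6,0] (.child 11 2699 nd12_429 .none)

/-- A node. -/
def nd12_431 : Tree :=
  .node 632 [0,30,2,0,0,0,0,8,8,0,0,0] (.child 11 2680 nd12_430 .none)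

/-- A node. -/
def nd12_432 : Tree :=
  .node 625 [0,2,31,44,0,0,0,7,7,0,0,2] (.child 10 1649 nd12_431 .none)

/-- A node. -/
def nd12_433 : Tree :=
  .node 590 [33,0,0,0,24,2,0,13,13,0,0,2] (.child 10 1614 nd12_432 .none)

/-- A node. -/
def nd12_434 : Tree :=
  .node 572 [3,1,0,0,0,0,23,16,16,0,0,1] (.child 10 1596 nd12_433 .none)

/-- A node. -/
def nd12_435 : Tree :=
  .node 563 [0,0,3,1,0,0,21,16,16,0,1,0] (.child 11 2611 nd12_434 .none)

/-- A node. -/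
def nd12_436 : Tree :=
  .node 558 [0,0,0,0,25,0,33,14,14,0,0,0] (.child 11 2606 nd12_435 .none)

/-- A node. -/
def nd12_437 : Tree :=
  .node 555 [0,0,29,0,24,0,19,32,19,0,0,60] (.child 10 1579 nd12_436 .none)

/-- A node. -/
def nd12_438 : Tree :=
  .node 541 [0,0,0,0,0,25,19,38,19,0,0,0] (.child 11 2589 nd12_437 .none)

/-- A node. -/
def nd12_439 : Tree :=
  .node 535 [0,0,0,27,0,24,49,12,12,0,0,47] (.child 10 1559 nd12_438 .none)

/-- A node. -/
def nd12_440 : Tree :=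
  .node 496 [3,1,2,0,0,0,0,0,0,0,1,0] (.child 9 1008 nd12_439 .none)

/-- A node. -/
def nd12_441 : Tree :=
  .node 488 [4,0,3,0,7,0,0,0,0,4,0,0] (.child 11 2536 nd12_440 .none)

/-- A node. -/
def nd12_442 : Tree :=
  .node 482 [5,0,4,27,13,0,0,0,0,4,0,5] (.child 10 1506 nd12_441 .none)

/-- A node. -/
def nd12_443 : Tree :=
  .node 468 [0,3,0,1,0,11,0,0,0,3,0,0] (.child 11 2516 nd12_442 .none)

/-- A node. -/
def nd12_444 : Tree :=
  .node 465 [0,3,28,1,0,5,0,0,0,1,0,3] (.child 10 1489 nd12_443 .none)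

/-- A node. -/
def nd12_445 : Tree :=
  .node 460 [0,1,0,0,12,5,0,0,0,0,0,7] (.child 10 1484 nd12_444 .none)

/-- A node. -/
def nd12_446 : Tree :=
  .node 457 [0,1,12,0,27,24,0,0,0,0,13,1] (.child 9 969 nd12_445 .none)

/-- A node. -/
def nd12_447 : Tree :=
  .node 454 [0,0,0,5,26,24,0,0,0,0,6,0] (.child 9 966 nd12_446 .none)

/-- A node. -/
def nd12_448 : Tree :=
  .node 451 [0,0,5,11,3,8,0,0,0,3,5,0] (.child 11 2499 nd12_447 .none)

/-- A node. -/
def nd12_449 : Tree :=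
  .node 440 [0,12,1,0,0,0,24,0,0,1,0,0] (.child 10 1464 nd12_448 .none)

/-- A node. -/
def nd12_450 : Tree :=
  .node 433 [0,1,13,26,0,0,22,0,0,1,12,0] (.child 11 2481 nd12_449 .none)

/-- A node. -/
def nd12_451 : Tree :=
  .node 428 [13,1,0,0,9,0,21,0,0,0,13,1] (.child 9 940 nd12_450 .none)

/-- A node. -/
def nd12_452 : Tree :=
  .node 403 [0,0,1,16,0,10,21,0,0,0,1,16] (.child 9 915 nd12_451 .none)

/-- A node. -/
def nd12_453 : Tree :=
  .node 398 [0,0,0,0,14,24,20,0,0,13,0,0] (.child 11 2446 nd12_452 .none)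

/-- A node. -/
def nd12_454 : Tree :=
  .node 391 [0,0,0,12,25,11,18,0,0,12,0,11] (.child 10 1415 nd12_453 .none)

/-- A node. -/
def nd12_455 : Tree :=
  .node 372 [8,0,0,2,0,0,0,17,0,2,0,0] (.child 10 1396 nd12_454 .none)

/-- A node. -/
def nd12_456 : Tree :=
  .node 370 [0,0,23,5,0,0,0,17,0,0,6,0] (.child 11 2418 nd12_455 .none)

/-- A node. -/
def nd12_457 : Tree :=
  .node 355 [0,0,8,2,5,0,0,15,0,0,2,8] (.child 9 867 nd12_456 .none)

/-- A node. -/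
def nd12_458 : Tree :=
  .node 348 [0,9,0,0,0,2,0,15,0,0,9,0] (.child 9 860 nd12_457 .none)

/-- A node. -/
def nd12_459 : Tree :=
  .node 333 [0,0,0,0,26,5,0,13,0,7,0,0] (.child 11 2381 nd12_458 .none)

/-- A node. -/
def nd12_460 : Tree :=
  .node 331 [0,0,6,0,8,17,0,13,0,6,0,8] (.child 10 1355 nd12_459 .none)

/-- A node. -/
def nd12_461 : Tree :=
  .node 316 [2,0,0,0,0,0,28,18,0,0,3,0] (.child 11 2364 nd12_460 .none)

/-- A node. -/
def nd12_462 : Tree :=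
  .node 314 [0,0,5,0,0,0,11,11,0,0,0,6] (.child 9 826 nd12_461 .none)

/-- A node. -/
def nd12_463 : Tree :=
  .node 307 [0,0,0,5,0,0,28,14,0,0,0,2] (.child 10 1331 nd12_462 .none)

/-- A node. -/
def nd12_464 : Tree :=
  .node 309 [0,1,0,0,0,0,8,8,0,0,0,1] (.child 9 821 nd12_463 .none)

/-- A node. -/
def nd12_465 : Tree :=
  .node 301 [0,0,0,0,20,0,7,7,0,1,0,0] (.child 10 1325 nd12_464 .none)

/-- A node. -/
def nd12_466 : Tree :=
  .node 295 [0,0,0,0,13,0,6,6,0,0,33,0] (.child 11 2343 nd12_465 .none)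

/-- A node. -/
def nd12_467 : Tree :=
  .node 271 [0,0,0,0,0,10,27,10,0,0,0,1] (.child 9 783 nd12_466 .none)

/-- A node. -/
def nd12_468 : Tree :=
  .node 286 [0,0,0,0,0,11,5,5,0,15,0,0] (.child 10 1310 nd12_467 .none)

/-- A node. -/
def nd12_469 : Tree :=
  .node 283 [0,0,16,0,0,8,4,4,0,33,15,0] (.child 11 2331 nd12_468 .none)

/-- A node. -/
def nd12_470 : Tree :=
  .node 234 [0,0,1,0,3,0,0,0,3,0,0,1] (.child 9 746 nd12_469 .none)

/-- A node. -/
def nd12_471 : Tree :=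
  .node 233 [0,6,1,0,3,0,0,0,1,5,0,3] (.child 10 1257 nd12_470 .none)

/-- A node. -/
def nd12_472 : Tree :=
  .node 230 [0,0,0,8,7,0,0,0,0,6,8,0] (.child 11 2278 nd12_471 .none)

/-- A node. -/
def nd12_473 : Tree :=
  .node 229 [0,5,0,8,9,0,0,0,0,5,9,8] (.child 8 485 nd12_472 .none)

/-- A node. -/
def nd12_474 : Tree :=
  .node 218 [0,0,9,0,0,1,0,0,0,9,10,0] (.child 8 474 nd12_473 .none)

/-- A node. -/
def nd12_475 : Tree :=
  .node 217 [0,9,10,0,0,1,0,0,10,1,9,0] (.child 11 2265 nd12_474 .none)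

/-- A node. -/
def nd12_476 : Tree :=
  .node 186 [0,0,3,0,0,0,13,0,1,0,4,0] (.child 11 2234 nd12_475 .none)

/-- A node. -/
def nd12_477 : Tree :=
  .node 185 [0,0,4,0,0,0,12,0,0,0,5,4] (.child 9 697 nd12_476 .none)

/-- A node. -/
def nd12_478 : Tree :=
  .node 171 [0,0,0,0,6,0,18,0,0,0,2,3] (.child 8 427 nd12_477 .none)

/-- A node. -/
def nd12_479 : Tree :=
  .node 167 [0,0,0,1,0,0,17,0,0,0,1,2] (.child 9 679 nd12_478 .none)

/-- A node. -/
def nd12_480 : Tree :=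
  .node 182 [2,0,0,0,0,0,7,0,0,3,0,6] (.child 8 438 nd12_479 .none)

/-- A node. -/
def nd12_481 : Tree :=
  .node 174 [0,0,0,0,2,0,8,0,13,2,0,0] (.child 10 1198 nd12_480 .none)

/-- A node. -/
def nd12_482 : Tree :=
  .node 173 [0,22,0,0,0,0,7,0,3,11,0,0] (.child 11 2221 nd12_481 .none)

/-- A node. -/
def nd12_483 : Tree :=
  .node 181 [0,3,0,2,0,0,5,0,2,5,0,3] (.child 10 1205 nd12_482 .none)

/-- A node. -/
def nd12_484 : Tree :=
  .node 158 [0,0,0,0,0,5,3,0,1,0,0,2] (.child 9 670 nd12_483 .none)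

/-- A node. -/
def nd12_485 : Tree :=
  .node 155 [0,0,0,0,0,11,11,0,0,17,0,1] (.child 10 1179 nd12_484 .none)

/-- A node. -/
def nd12_486 : Tree :=
  .node 157 [0,0,0,0,0,3,2,0,0,2,15,0] (.child 8 413 nd12_485 .none)

/-- A node. -/
def nd12_487 : Tree :=
  .node 151 [0,0,0,17,0,9,0,0,16,1,0,0] (.child 11 2199 nd12_486 .none)

/-- A node. -/
def nd12_488 : Tree :=
  .node 214 [0,0,0,1,0,1,0,0,15,0,0,12] (.child 10 1238 nd12_487 .none)

/-- A node. -/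
def nd12_489 : Tree :=
  .node 213 [0,7,0,0,0,0,0,0,14,0,12,3] (.child 9 725 nd12_488 .none)

/-- A node. -/
def nd12_490 : Tree :=
  .node 124 [1,0,0,0,0,0,0,0,1,3,0,2] (.child 7 252 nd12_489 .none)

/-- A node. -/
def nd12_491 : Tree :=
  .node 122 [0,0,3,0,0,0,0,5,0,4,0,6] (.child 10 1146 nd12_490 .none)

/-- A node. -/
def nd12_492 : Tree :=
  .node 121 [0,4,0,0,0,0,0,4,0,1,9,0] (.child 8 377 nd12_491 .none)

/-- A node. -/
def nd12_493 : Tree :=
  .node 117 [0,2,0,0,0,0,0,3,10,0,6,0] (.child 11 2165 nd12_492 .none)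

/-- A node. -/
def nd12_494 : Tree :=
  .node 109 [0,0,0,0,7,0,0,10,0,0,5,3] (.child 9 621 nd12_493 .none)

/-- A node. -/
def nd12_495 : Tree :=
  .node 110 [2,0,0,0,0,0,0,9,0,0,4,2] (.child 8 366 nd12_494 .none)

/-- A node. -/
def nd12_496 : Tree :=
  .node 118 [0,0,0,4,0,0,0,0,7,0,3,4] (.child 9 630 nd12_495 .none)

/-- A node. -/
def nd12_497 : Tree :=
  .node 115 [0,0,2,0,0,0,0,0,6,5,2,0] (.child 7 243 nd12_496 .none)

/-- A node. -/
def nd12_498 : Tree :=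
  .node 107 [0,0,1,0,4,0,0,6,0,4,1,0] (.child 8 363 nd12_374 (.child 11 2155 nd12_497 .none))

/-- A node. -/
def nd12_499 : Tree :=
  .node 583 [0,0,0,3,3,0,0,5,4,0,0,0] (.child 11 2631 nd12_498 .none)

/-- A node. -/
def nd12_500 : Tree :=
  .node 1984 [30,34,34,31,31,30,0,0,0,0,0,0] (.child 11 4032 (.leaf 4) .none)

/-- A node. -/
def nd12_501 : Tree :=
  .node 1840 [29,35,37,30,0,0,35,29,0,0,0,0] (.child 11 3888 nd12_500 .none)

/-- A node. -/
def nd12_502 : Tree :=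
  .node 1802 [37,0,32,0,29,34,34,29,0,0,0,0] (.child 11 3850 nd12_501 .none)

/-- A node. -/
def nd12_503 : Tree :=
  .node 1797 [0,31,0,36,35,27,35,27,0,0,0,0] (.child 11 3845 nd12_502 .none)

/-- A node. -/
def nd12_504 : Tree :=
  .node 1704 [26,44,37,0,27,0,42,0,26,0,0,0] (.child 11 3752 nd12_503 .none)

/-- A node. -/
def nd12_505 : Tree :=
  .node 1684 [42,29,0,26,0,41,33,0,26,0,0,0] (.child 11 3732 nd12_504 .none)

/-- A node. -/
def nd12_506 : Tree :=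
  .node 1667 [0,0,28,42,38,24,41,0,24,0,0,0] (.child 11 3715 nd12_505 .none)

/-- A node. -/
def nd12_507 : Tree :=
  .node 1633 [0,29,39,32,40,0,0,23,23,0,0,0] (.child 11 3681 nd12_506 .none)

/-- A node. -/
def nd12_508 : Tree :=
  .node 1618 [36,0,30,40,0,28,0,39,28,0,0,0] (.child 11 3666 nd12_507 .none)

/-- A node. -/
def nd12_509 : Tree :=
  .node 1612 [30,39,0,0,29,32,0,37,29,0,0,0] (.child 11 3660 nd12_508 .none)

/-- A node. -/
def nd12_510 : Tree :=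
  .node 1574 [49,0,0,31,41,0,26,24,24,0,0,0] (.child 11 3622 nd12_509 .none)

/-- A node. -/
def nd12_511 : Tree :=
  .node 1561 [0,33,43,0,0,44,28,20,20,0,0,0] (.child 11 3609 nd12_510 .none)

/-- A node. -/
def nd12_512 : Tree :=
  .node 1444 [18,22,0,29,52,0,34,0,0,18,0,0] (.child 11 3492 nd12_511 .none)

/-- A node. -/
def nd12_513 : Tree :=
  .node 1426 [31,0,21,18,0,38,51,0,0,18,0,0] (.child 11 3474 nd12_512 .none)

/-- A node. -/
def nd12_514 : Tree :=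
  .node 1417 [0,58,40,0,17,16,25,0,0,16,0,0] (.child 11 3465 nd12_513 .none)

/-- A node. -/
def nd12_515 : Tree :=
  .node 1384 [24,21,26,0,40,0,0,49,0,21,0,0] (.child 11 3432 nd12_514 .none)

/-- A node. -/
def nd12_516 : Tree :=
  .node 1361 [0,28,22,23,0,48,0,31,0,22,0,0] (.child 11 3409 nd12_515 .none)

/-- A node. -/
def nd12_517 : Tree :=
  .node 1350 [55,0,0,52,21,19,0,17,0,17,0,0] (.child 11 3398 nd12_516 .none)

/-- A node. -/
def nd12_518 : Tree :=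
  .node 1315 [0,0,63,43,26,0,18,12,0,12,0,0] (.child 11 3363 nd12_517 .none)

/-- A node. -/
def nd12_519 : Tree :=
  .node 1308 [57,43,0,0,0,22,19,12,0,12,0,0] (.child 11 3356 nd12_518 .none)

/-- A node. -/
def nd12_520 : Tree :=
  .node 1250 [52,0,26,28,31,0,0,0,16,16,0,0] (.child 11 3298 nd12_519 .none)

/-- A node. -/
def nd12_521 : Tree :=
  .node 1240 [26,27,48,0,0,34,0,0,10,10,0,0] (.child 11 3288 nd12_520 .none)

/-- A node. -/
def nd12_522 : Tree :=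
  .node 1221 [0,50,0,32,25,24,0,0,47,24,0,0] (.child 11 3269 nd12_521 .none)

/-- A node. -/
def nd12_523 : Tree :=
  .node 1201 [0,28,36,63,0,0,24,0,7,7,0,0] (.child 11 3249 nd12_522 .none)

/-- A node. -/
def nd12_524 : Tree :=
  .node 1166 [30,0,0,0,38,51,24,0,10,10,0,0] (.child 11 3214 nd12_523 .none)

/-- A node. -/
def nd12_525 : Tree :=
  .node 1140 [34,63,0,30,0,0,0,21,13,13,0,0] (.child 11 3188 nd12_524 .none)

/-- A node. -/
def nd12_526 : Tree :=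
  .node 1099 [0,0,65,0,56,35,0,22,13,13,0,0] (.child 11 3147 nd12_525 .none)

/-- A node. -/
def nd12_527 : Tree :=
  .node 1082 [34,0,35,0,0,0,28,24,48,24,0,0] (.child 11 3130 nd12_526 .none)

/-- A node. -/
def nd12_528 : Tree :=
  .node 1069 [0,33,0,0,31,0,53,26,13,13,0,0] (.child 11 3117 nd12_527 .none)

/-- A node. -/
def nd12_529 : Tree :=
  .node 1047 [0,0,0,33,0,30,83,47,15,15,0,0] (.child 11 3095 nd12_528 .none)

/-- A node. -/
def nd12_530 : Tree :=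
  .node 930 [0,0,4,35,21,0,6,0,0,0,0,0] (.child 11 2978 nd12_529 .none)

/-- A node. -/
def nd12_531 : Tree :=
  .node 929 [0,46,21,11,1,0,34,0,0,0,0,1] (.child 10 1953 nd12_530 .none)

/-- A node. -/
def nd12_532 : Tree :=
  .node 920 [0,21,1,0,0,33,5,0,0,0,0,0] (.child 10 1944 nd12_531 .none)

/-- A node. -/
def nd12_533 : Tree :=
  .node 913 [0,11,38,44,0,41,14,0,0,0,11,0] (.child 11 2961 nd12_532 .none)

/-- A node. -/
def nd12_534 : Tree :=
  .node 908 [20,0,0,0,40,7,31,0,0,0,0,0] (.child 11 2956 nd12_533 .none)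

/-- A node. -/
def nd12_535 : Tree :=
  .node 902 [36,0,0,42,8,39,15,0,0,0,0,8] (.child 10 1926 nd12_534 .none)

/-- A node. -/
def nd12_536 : Tree :=
  .node 868 [35,0,0,5,2,0,0,10,0,0,0,0] (.child 11 2916 nd12_535 .none)

/-- A node. -/
def nd12_537 : Tree :=
  .node 866 [3,0,46,19,31,0,0,28,0,0,0,3] (.child 10 1890 nd12_536 .none)

/-- A node. -/
def nd12_538 : Tree :=
  .node 856 [1,30,0,0,0,17,0,27,0,0,0,0] (.child 11 2904 nd12_537 .none)

/-- A node. -/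
def nd12_539 : Tree :=
  .node 852 [18,4,0,44,0,35,0,28,0,0,0,4] (.child 10 1876 nd12_538 .none)

/-- A node. -/
def nd12_540 : Tree :=
  .node 841 [0,0,31,0,40,2,0,9,0,0,0,0] (.child 10 1865 nd12_539 .none)

/-- A node. -/
def nd12_541 : Tree :=
  .node 835 [0,0,30,36,3,39,0,27,0,0,3,0] (.child 11 2883 nd12_540 .none)

/-- A node. -/
def nd12_542 : Tree :=
  .node 812 [0,41,0,0,16,0,23,23,0,0,0,0] (.child 10 1836 nd12_541 .none)

/-- A node. -/
def nd12_543 : Tree :=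
  .node 809 [0,18,47,0,37,0,22,22,0,0,18,0] (.child 11 2857 nd12_542 .none)

/-- A node. -/
def nd12_544 : Tree :=
  .node 790 [0,0,0,18,0,30,24,24,0,0,0,0] (.child 11 2838 nd12_543 .none)

/-- A node. -/
def nd12_545 : Tree :=
  .node 787 [0,0,45,32,0,15,23,23,0,0,0,15] (.child 10 1811 nd12_544 .none)

/-- A node. -/
def nd12_546 : Tree :=
  .node 752 [1,5,0,9,0,0,0,0,18,0,0,0] (.child 11 2800 nd12_545 .none)

/-- A node. -/
def nd12_547 : Tree :=
  .node 740 [5,3,0,18,27,0,0,0,18,0,0,3] (.child 10 1764 nd12_546 .none)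

/-- A node. -/
def nd12_548 : Tree :=
  .node 721 [0,20,9,1,0,32,0,0,20,0,0,1] (.child 10 1745 nd12_547 .none)

/-- A node. -/
def nd12_549 : Tree :=
  .node 714 [0,0,1,0,4,7,0,0,16,0,0,0] (.child 10 1738 nd12_548 .none)

/-- A node. -/
def nd12_550 : Tree :=
  .node 713 [0,27,4,0,48,15,0,0,15,0,4,0] (.child 11 2761 nd12_549 .none)

/-- A node. -/
def nd12_551 : Tree :=
  .node 710 [20,0,0,32,17,45,0,0,17,0,61,0] (.child 11 2758 nd12_550 .none)

/-- A node. -/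
def nd12_552 : Tree :=
  .node 690 [8,0,22,1,0,0,16,0,16,0,0,1] (.child 10 1714 nd12_551 .none)

/-- A node. -/
def nd12_553 : Tree :=
  .node 677 [0,37,0,1,6,0,18,0,18,0,1,0] (.child 11 2725 nd12_552 .none)

/-- A node. -/
def nd12_554 : Tree :=
  .node 666 [23,0,8,0,0,31,14,0,14,0,8,0] (.child 11 2714 nd12_553 .none)

/-- A node. -/
def nd12_555 : Tree :=
  .node 653 [0,8,0,0,37,46,16,0,16,0,0,8] (.child 10 1677 nd12_554 .none)

/-- A node. -/
def nd12_556 : Tree :=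
  .node 632 [24,0,2,0,0,0,0,9,9,0,0,0] (.child 10 1656 nd12_555 .none)

/-- A node. -/
def nd12_557 : Tree :=
  .node 618 [4,0,26,0,28,0,0,8,8,0,4,0] (.child 11 2666 nd12_556 .none)

/-- A node. -/
def nd12_558 : Tree :=
  .node 597 [0,53,0,34,0,1,0,13,13,0,1,0] (.child 11 2645 nd12_557 .none)

/-- A node. -/
def nd12_559 : Tree :=
  .node 572 [0,3,0,0,0,0,39,15,15,0,0,0] (.child 11 2620 nd12_558 .none)

/-- A node. -/
def nd12_560 : Tree :=
  .node 565 [0,0,0,32,0,0,20,14,14,0,0,0] (.child 10 1589 nd12_559 .none)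

/-- A node. -/
def nd12_561 : Tree :=
  .node 563 [0,0,29,0,0,0,19,36,19,0,0,0] (.child 11 2611 nd12_560 .none)

/-- A node. -/
def nd12_562 : Tree :=
  .node 555 [0,0,1,0,23,0,35,15,15,0,0,1] (.child 10 1579 nd12_561 .none)

/-- A node. -/
def nd12_563 : Tree :=
  .node 542 [0,0,0,0,0,22,20,35,20,0,0,0] (.child 10 1566 nd12_562 .none)

/-- A node. -/
def nd12_564 : Tree :=
  .node 527 [0,0,0,0,28,26,19,13,13,0,27,0] (.child 11 2575 nd12_563 .none)

/-- A node. -/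
def nd12_565 : Tree :=
  .node 496 [1,3,2,0,0,0,0,0,0,0,0,1] (.child 10 1520 nd12_564 .none)

/-- A node. -/
def nd12_566 : Tree :=
  .node 488 [0,4,3,0,7,0,0,0,0,0,3,0] (.child 9 1000 nd12_565 .none)

/-- A node. -/
def nd12_567 : Tree :=
  .node 481 [0,5,4,28,13,0,0,0,0,4,5,0] (.child 11 2529 nd12_566 .none)

/-- A node. -/
def nd12_568 : Tree :=
  .node 468 [3,0,0,1,0,6,0,0,0,0,1,0] (.child 11 2516 nd12_567 .none)

/-- A node. -/
def nd12_569 : Tree :=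
  .node 466 [3,0,27,1,0,10,0,0,0,0,3,1] (.child 9 978 nd12_568 .none)

/-- A node. -/
def nd12_570 : Tree :=
  .node 460 [1,0,0,0,28,24,0,0,0,1,0,0] (.child 10 1484 nd12_569 .none)

/-- A node. -/
def nd12_571 : Tree :=
  .node 458 [1,0,12,0,11,4,0,0,0,6,1,0] (.child 11 2506 nd12_570 .none)

/-- A node. -/
def nd12_572 : Tree :=
  .node 453 [0,0,0,12,4,9,0,0,0,0,0,6] (.child 9 965 nd12_571 .none)

/-- A node. -/
def nd12_573 : Tree :=
  .node 451 [0,0,5,4,26,23,0,0,0,4,0,5] (.child 10 1475 nd12_572 .none)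

/-- A node. -/
def nd12_574 : Tree :=
  .node 440 [12,1,0,0,0,0,25,0,0,0,1,0] (.child 11 2488 nd12_573 .none)

/-- A node. -/
def nd12_575 : Tree :=
  .node 436 [1,13,0,25,0,0,21,0,0,0,1,12] (.child 9 948 nd12_574 .none)

/-- A node. -/
def nd12_576 : Tree :=
  .node 426 [1,0,13,0,9,0,20,0,0,1,0,13] (.child 10 1450 nd12_575 .none)

/-- A node. -/
def nd12_577 : Tree :=
  .node 405 [0,1,0,15,0,10,22,0,0,15,0,1] (.child 10 1429 nd12_576 .none)

/-- A node. -/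
def nd12_578 : Tree :=
  .node 395 [0,0,0,0,15,24,21,0,0,0,13,0] (.child 9 907 nd12_577 .none)

/-- A node. -/
def nd12_579 : Tree :=
  .node 391 [0,0,0,12,28,11,17,0,0,11,12,0] (.child 11 2439 nd12_578 .none)

/-- A node. -/
def nd12_580 : Tree :=
  .node 370 [0,0,8,2,0,0,0,16,0,0,2,0] (.child 11 2418 nd12_579 .none)

/-- A node. -/
def nd12_581 : Tree :=
  .node 369 [0,26,0,5,0,0,0,18,0,0,0,6] (.child 9 881 nd12_580 .none)

/-- A node. -/
def nd12_582 : Tree :=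
  .node 357 [0,8,0,2,5,0,0,14,0,8,0,2] (.child 10 1381 nd12_581 .none)

/-- A node. -/
def nd12_583 : Tree :=
  .node 346 [10,0,0,0,0,2,0,16,0,0,0,10] (.child 10 1370 nd12_582 .none)

/-- A node. -/
def nd12_584 : Tree :=
  .node 334 [0,0,0,0,26,5,0,12,0,0,7,0] (.child 9 846 nd12_583 .none)

/-- A node. -/
def nd12_585 : Tree :=
  .node 333 [0,6,0,0,7,20,0,14,0,7,6,0] (.child 11 2381 nd12_584 .none)

/-- A node. -/
def nd12_586 : Tree :=
  .node 314 [0,0,2,0,0,0,28,21,0,0,0,3] (.child 9 826 nd12_585 .none)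

/-- A node. -/
def nd12_587 : Tree :=
  .node 313 [0,6,0,0,0,0,12,12,0,5,0,0] (.child 10 1337 nd12_586 .none)

/-- A node. -/
def nd12_588 : Tree :=
  .node 309 [0,0,0,4,0,0,26,17,0,2,0,0] (.child 11 2357 nd12_587 .none)

/-- A node. -/
def nd12_589 : Tree :=
  .node 310 [1,0,0,0,0,0,7,7,0,1,0,0] (.child 10 1334 nd12_588 .none)

/-- A node. -/
def nd12_590 : Tree :=
  .node 302 [0,0,0,0,20,0,6,6,0,0,1,0] (.child 11 2350 nd12_589 .none)

/-- A node. -/
def nd12_591 : Tree :=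
  .node 295 [0,0,0,0,16,0,5,5,0,0,0,33] (.child 9 807 nd12_590 .none)

/-- A node. -/
def nd12_592 : Tree :=
  .node 271 [0,0,0,0,0,13,30,13,0,0,0,1] (.child 10 1295 nd12_591 .none)

/-- A node. -/
def nd12_593 : Tree :=
  .node 285 [0,0,0,0,0,12,6,6,0,0,33,0] (.child 9 797 nd12_592 .none)

/-- A node. -/
def nd12_594 : Tree :=
  .node 283 [0,0,16,0,0,13,5,5,0,33,15,0] (.child 11 2331 nd12_593 .none)

/-- A node. -/
def nd12_595 : Tree :=
  .node 236 [0,1,0,0,3,0,0,0,1,3,0,0] (.child 11 2284 nd12_594 .none)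

/-- A node. -/
def nd12_596 : Tree :=
  .node 233 [0,1,9,0,3,0,0,0,3,1,0,6] (.child 10 1257 nd12_595 .none)

/-- A node. -/
def nd12_597 : Tree :=
  .node 230 [0,0,0,6,7,0,0,0,0,0,9,7] (.child 8 486 nd12_596 .none)

/-- A node. -/
def nd12_598 : Tree :=
  .node 227 [0,0,8,4,9,0,0,0,9,0,8,4] (.child 9 739 nd12_597 .none)

/-- A node. -/
def nd12_599 : Tree :=
  .node 220 [0,11,0,0,0,1,0,0,0,0,1,9] (.child 9 732 nd12_598 .none)

/-- A node. -/
def nd12_600 : Tree :=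
  .node 217 [0,9,8,0,0,1,0,0,0,1,9,8] (.child 8 473 nd12_599 .none)

/-- A node. -/
def nd12_601 : Tree :=
  .node 188 [0,2,0,0,0,0,13,0,4,0,0,3] (.child 10 1212 nd12_600 .none)

/-- A node. -/
def nd12_602 : Tree :=
  .node 185 [0,0,3,0,0,0,13,0,3,0,7,0] (.child 9 697 nd12_601 .none)

/-- A node. -/
def nd12_603 : Tree :=
  .node 171 [0,0,0,0,4,0,12,0,2,0,3,0] (.child 11 2219 nd12_602 .none)

/-- A node. -/
def nd12_604 : Tree :=
  .node 174 [1,0,0,0,0,0,11,0,1,0,2,0] (.child 9 686 nd12_603 .none)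

/-- A node. -/
def nd12_605 : Tree :=
  .node 182 [1,0,0,5,0,0,7,0,2,6,1,0] (.child 11 2230 nd12_604 .none)

/-- A node. -/
def nd12_606 : Tree :=
  .node 173 [0,0,0,0,2,0,13,0,0,15,0,2] (.child 8 429 nd12_605 .none)

/-- A node. -/
def nd12_607 : Tree :=
  .node 167 [0,0,0,22,0,0,12,0,0,4,0,17] (.child 10 1191 nd12_606 .none)

/-- A node. -/
def nd12_608 : Tree :=
  .node 179 [0,0,3,1,0,0,5,0,0,3,1,5] (.child 8 435 nd12_607 .none)

/-- A node. -/
def nd12_609 : Tree :=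
  .node 157 [0,0,0,0,0,10,10,0,1,2,0,0] (.child 11 2205 nd12_608 .none)

/-- A node. -/
def nd12_610 : Tree :=
  .node 155 [0,0,0,0,0,5,3,0,0,1,0,3] (.child 10 1179 nd12_609 .none)

/-- A node. -/
def nd12_611 : Tree :=
  .node 158 [0,0,0,0,0,4,1,0,0,0,1,14] (.child 8 414 nd12_610 .none)

/-- A node. -/
def nd12_612 : Tree :=
  .node 151 [0,0,0,17,0,7,0,0,16,0,0,1] (.child 9 663 nd12_611 .none)

/-- A node. -/
def nd12_613 : Tree :=
  .node 214 [0,0,0,2,0,2,0,0,15,4,0,0] (.child 10 1238 nd12_612 .none)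

/-- A node. -/
def nd12_614 : Tree :=
  .node 211 [0,0,5,1,0,1,0,0,14,13,4,0] (.child 11 2259 nd12_613 .none)

/-- A node. -/
def nd12_615 : Tree :=
  .node 124 [1,0,0,0,0,0,0,0,0,2,5,1] (.child 8 380 nd12_614 .none)

/-- A node. -/
def nd12_616 : Tree :=
  .node 122 [0,0,1,0,0,0,0,0,6,1,2,0] (.child 7 250 nd12_615 .none)

/-- A node. -/
def nd12_617 : Tree :=
  .node 121 [0,1,2,0,0,0,0,2,5,4,1,0] (.child 11 2169 nd12_616 .none)

/-- A node. -/
def nd12_618 : Tree :=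
  .node 118 [0,0,0,2,0,0,0,1,10,0,0,6] (.child 9 630 nd12_617 .none)

/-- A node. -/
def nd12_619 : Tree :=
  .node 115 [0,0,0,3,0,0,0,0,3,8,0,5] (.child 10 1139 nd12_618 .none)

/-- A node. -/
def nd12_620 : Tree :=
  .node 117 [0,4,0,1,0,0,0,0,8,1,6,4] (.child 7 245 nd12_619 .none)

/-- A node. -/
def nd12_621 : Tree :=
  .node 110 [0,0,0,0,4,0,0,8,1,0,0,3] (.child 10 1134 nd12_620 .none)

/-- A node. -/
def nd12_622 : Tree :=
  .node 109 [0,0,0,0,4,0,0,7,0,0,4,2] (.child 9 621 nd12_621 .none)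

/-- A node. -/
def nd12_623 : Tree :=
  .node 1984 [30,34,34,31,31,30,0,0,0,0,0,0] (.child 11 4032 (.leaf 5) .none)

/-- A node. -/
def nd12_624 : Tree :=
  .node 1840 [29,36,35,30,0,0,35,29,0,0,0,0] (.child 11 3888 nd12_623 .none)

/-- A node. -/
def nd12_625 : Tree :=
  .node 1804 [37,32,0,0,29,34,34,29,0,0,0,0] (.child 11 3852 nd12_624 .none)

/-- A node. -/
def nd12_626 : Tree :=
  .node 1795 [0,0,31,36,34,27,34,27,0,0,0,0] (.child 11 3843 nd12_625 .none)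

/-- A node. -/
def nd12_627 : Tree :=
  .node 1704 [26,37,45,0,27,0,42,0,26,0,0,0] (.child 11 3752 nd12_626 .none)

/-- A node. -/
def nd12_628 : Tree :=
  .node 1682 [43,0,29,26,0,41,32,0,26,0,0,0] (.child 11 3730 nd12_627 .none)

/-- A node. -/
def nd12_629 : Tree :=
  .node 1669 [0,28,0,43,38,24,42,0,24,0,0,0] (.child 11 3717 nd12_628 .none)

/-- A node. -/
def nd12_630 : Tree :=
  .node 1633 [0,39,29,32,41,0,0,23,23,0,0,0] (.child 11 3681 nd12_629 .none)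

/-- A node. -/
def nd12_631 : Tree :=
  .node 1620 [36,29,0,41,0,28,0,40,28,0,0,0] (.child 11 3668 nd12_630 .none)

/-- A node. -/
def nd12_632 : Tree :=
  .node 1610 [30,0,40,0,28,32,0,37,28,0,0,0] (.child 11 3658 nd12_631 .none)

/-- A node. -/
def nd12_633 : Tree :=
  .node 1574 [49,0,0,31,41,0,26,24,24,0,0,0] (.child 11 3622 nd12_632 .none)

/-- A node. -/
def nd12_634 : Tree :=
  .node 1561 [0,43,33,0,0,44,28,20,20,0,0,0] (.child 11 3609 nd12_633 .none)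

/-- A node. -/
def nd12_635 : Tree :=
  .node 1444 [18,22,0,53,39,0,24,0,0,18,0,0] (.child 11 3492 nd12_634 .none)

/-- A node. -/
def nd12_636 : Tree :=
  .node 1425 [0,59,31,18,0,17,35,0,0,17,0,0] (.child 11 3473 nd12_635 .none)

/-- A node. -/
def nd12_637 : Tree :=
  .node 1418 [40,0,20,0,17,27,51,0,0,17,0,0] (.child 11 3466 nd12_636 .none)

/-- A node. -/
def nd12_638 : Tree :=
  .node 1378 [57,0,21,26,22,0,0,31,0,21,0,0] (.child 11 3426 nd12_637 .none)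

/-- A node. -/
def nd12_639 : Tree :=
  .node 1368 [23,21,51,0,0,39,0,15,0,15,0,0] (.child 11 3416 nd12_638 .none)

/-- A node. -/
def nd12_640 : Tree :=
  .node 1349 [0,55,0,22,27,19,0,50,0,19,0,0] (.child 11 3397 nd12_639 .none)

/-- A node. -/
def nd12_641 : Tree :=
  .node 1321 [0,23,42,0,62,0,21,12,0,12,0,0] (.child 11 3369 nd12_640 .none)

/-- A node. -/
def nd12_642 : Tree :=
  .node 1302 [25,0,0,43,0,55,18,15,0,15,0,0] (.child 11 3350 nd12_641 .none)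

/-- A node. -/
def nd12_643 : Tree :=
  .node 1264 [28,26,31,35,0,0,0,0,44,26,0,0] (.child 11 3312 nd12_642 .none)

/-- A node. -/
def nd12_644 : Tree :=
  .node 1225 [0,33,28,0,27,44,0,0,18,18,0,0] (.child 11 3273 nd12_643 .none)

/-- A node. -/
def nd12_645 : Tree :=
  .node 1222 [50,0,0,27,45,24,0,0,12,12,0,0] (.child 11 3270 nd12_644 .none)

/-- A node. -/
def nd12_646 : Tree :=
  .node 1187 [0,0,67,31,36,0,23,0,7,7,0,0] (.child 11 3235 nd12_645 .none)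

/-- A node. -/
def nd12_647 : Tree :=
  .node 1180 [53,38,0,0,0,27,25,0,7,7,0,0] (.child 11 3228 nd12_646 .none)

/-- A node. -/
def nd12_648 : Tree :=
  .node 1132 [35,58,0,0,30,0,0,24,11,11,0,0] (.child 11 3180 nd12_647 .none)

/-- A node. -/
def nd12_649 : Tree :=
  .node 1107 [0,0,85,67,0,33,0,22,11,11,0,0] (.child 11 3155 nd12_648 .none)

/-- A node. -/
def nd12_650 : Tree :=
  .node 1082 [32,0,35,0,0,0,28,47,14,14,0,0] (.child 11 3130 nd12_649 .none)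

/-- A node. -/
def nd12_651 : Tree :=
  .node 1077 [0,31,0,32,0,0,52,23,16,16,0,0] (.child 11 3125 nd12_650 .none)

/-- A node. -/
def nd12_652 : Tree :=
  .node 1039 [0,0,0,0,33,31,54,25,48,25,0,0] (.child 11 3087 nd12_651 .none)

/-- A node. -/
def nd12_653 : Tree :=
  .node 930 [0,0,4,11,34,0,16,0,0,0,0,0] (.child 11 2978 nd12_652 .none)

/-- A node. -/
def nd12_654 : Tree :=
  .node 929 [0,45,11,2,21,0,33,0,0,0,0,2] (.child 10 1953 nd12_653 .none)

/-- A node. -/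
def nd12_655 : Tree :=
  .node 920 [1,11,0,0,0,32,15,0,0,0,0,0] (.child 10 1944 nd12_654 .none)

/-- A node. -/
def nd12_656 : Tree :=
  .node 916 [11,1,0,42,0,18,31,0,0,0,1,0] (.child 11 2964 nd12_655 .none)

/-- A node. -/
def nd12_657 : Tree :=
  .node 905 [0,20,37,0,42,41,5,0,0,0,5,0] (.child 11 2953 nd12_656 .none)

/-- A node. -/
def nd12_658 : Tree :=
  .node 902 [36,0,0,18,41,40,5,0,0,0,0,5] (.child 10 1926 nd12_657 .none)

/-- A node. -/
def nd12_659 : Tree :=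
  .node 872 [3,5,0,0,19,0,0,28,0,0,0,0] (.child 11 2920 nd12_658 .none)

/-- A node. -/
def nd12_660 : Tree :=
  .node 868 [5,3,0,38,27,0,0,8,0,0,0,3] (.child 10 1892 nd12_659 .none)

/-- A node. -/
def nd12_661 : Tree :=
  .node 850 [0,0,2,5,0,18,0,26,0,0,0,0] (.child 10 1874 nd12_660 .none)

/-- A node. -/
def nd12_662 : Tree :=
  .node 849 [0,37,5,0,0,25,0,9,0,0,0,0] (.child 11 2897 nd12_661 .none)

/-- A node. -/
def nd12_663 : Tree :=
  .node 841 [0,30,17,0,42,41,0,30,0,0,0,17] (.child 10 1865 nd12_662 .none)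

/-- A node. -/
def nd12_664 : Tree :=
  .node 838 [30,0,0,29,41,40,0,29,0,0,42,0] (.child 11 2886 nd12_663 .none)

/-- A node. -/
def nd12_665 : Tree :=
  .node 810 [19,0,33,0,1,0,28,28,0,0,0,1] (.child 10 1834 nd12_664 .none)

/-- A node. -/
def nd12_666 : Tree :=
  .node 805 [0,38,0,17,1,0,28,28,0,0,1,0] (.child 11 2853 nd12_665 .none)

/-- A node. -/
def nd12_667 : Tree :=
  .node 794 [32,0,18,0,0,42,26,26,0,0,18,0] (.child 11 2842 nd12_666 .none)

/-- A node. -/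
def nd12_668 : Tree :=
  .node 789 [0,18,0,37,0,41,26,26,0,0,0,18] (.child 10 1813 nd12_667 .none)

/-- A node. -/
def nd12_669 : Tree :=
  .node 740 [25,0,0,3,5,0,0,0,18,0,0,0] (.child 11 2788 nd12_668 .none)

/-- A node. -/
def nd12_670 : Tree :=
  .node 738 [3,0,49,23,9,0,0,0,17,0,0,3] (.child 10 1762 nd12_669 .none)

/-- A node. -/
def nd12_671 : Tree :=
  .node 728 [0,22,1,0,0,7,0,0,16,0,0,0] (.child 11 2776 nd12_670 .none)

/-- A node. -/
def nd12_672 : Tree :=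
  .node 721 [0,1,22,46,0,3,0,0,15,0,0,1] (.child 10 1745 nd12_671 .none)

/-- A node. -/
def nd12_673 : Tree :=
  .node 716 [7,3,0,0,32,25,0,0,19,0,0,3] (.child 10 1740 nd12_672 .none)

/-- A node. -/
def nd12_674 : Tree :=
  .node 707 [0,0,20,3,25,30,0,0,19,0,3,0] (.child 11 2755 nd12_673 .none)

/-- A node. -/
def nd12_675 : Tree :=
  .node 692 [0,36,0,6,0,0,12,0,12,0,0,0] (.child 10 1716 nd12_674 .none)

/-- A node. -/
def nd12_676 : Tree :=
  .node 689 [0,6,53,33,0,0,11,0,11,0,6,0] (.child 11 2737 nd12_675 .none)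

/-- A node. -/
def nd12_677 : Tree :=
  .node 654 [0,0,0,0,8,21,16,0,16,0,0,0] (.child 11 2702 nd12_676 .none)

/-- A node. -/
def nd12_678 : Tree :=
  .node 651 [0,0,36,0,21,6,15,0,15,0,0,6] (.child 10 1675 nd12_677 .none)

/-- A node. -/
def nd12_679 : Tree :=
  .node 632 [30,0,2,0,0,0,0,8,8,0,0,0] (.child 10 1656 nd12_678 .none)

/-- A node. -/
def nd12_680 : Tree :=
  .node 626 [2,0,31,43,0,0,0,7,7,0,2,0] (.child 11 2674 nd12_679 .none)

/-- A node. -/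
def nd12_681 : Tree :=
  .node 589 [0,33,0,0,24,2,0,13,13,0,2,0] (.child 11 2637 nd12_680 .none)

/-- A node. -/
def nd12_682 : Tree :=
  .node 572 [1,3,0,0,0,0,23,16,16,0,1,0] (.child 11 2620 nd12_681 .none)

/-- A node. -/
def nd12_683 : Tree :=
  .node 563 [0,0,3,1,0,0,21,16,16,0,0,1] (.child 10 1587 nd12_682 .none)

/-- A node. -/
def nd12_684 : Tree :=
  .node 557 [0,0,0,0,25,0,34,14,14,0,0,0] (.child 10 1581 nd12_683 .none)

/-- A node. -/
def nd12_685 : Tree :=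
  .node 555 [0,0,29,0,24,0,19,33,19,0,60,0] (.child 11 2603 nd12_684 .none)

/-- A node. -/
def nd12_686 : Tree :=
  .node 542 [0,0,0,0,0,25,19,37,19,0,0,0] (.child 10 1566 nd12_685 .none)

/-- A node. -/
def nd12_687 : Tree :=
  .node 535 [0,0,0,27,0,24,48,12,12,0,47,0] (.child 11 2583 nd12_686 .none)

/-- A node. -/
def nd12_688 : Tree :=
  .node 496 [1,3,2,0,0,0,0,0,0,0,0,1] (.child 9 1008 nd12_687 .none)

/-- A node. -/
def nd12_689 : Tree :=
  .node 488 [0,4,3,0,7,0,0,0,0,4,0,0] (.child 10 1512 nd12_688 .none)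

/-- A node. -/
def nd12_690 : Tree :=
  .node 481 [0,5,4,28,13,0,0,0,0,4,5,0] (.child 11 2529 nd12_689 .none)

/-- A node. -/
def nd12_691 : Tree :=
  .node 468 [3,0,0,1,0,11,0,0,0,3,0,0] (.child 10 1492 nd12_690 .none)

/-- A node. -/
def nd12_692 : Tree :=
  .node 466 [3,0,27,1,0,5,0,0,0,1,3,0] (.child 11 2514 nd12_691 .none)

/-- A node. -/
def nd12_693 : Tree :=
  .node 460 [1,0,0,0,12,5,0,0,0,0,7,0] (.child 11 2508 nd12_692 .none)

/-- A node. -/
def nd12_694 : Tree :=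
  .node 458 [1,0,12,0,27,23,0,0,0,0,1,13] (.child 9 970 nd12_693 .none)

/-- A node. -/
def nd12_695 : Tree :=
  .node 453 [0,0,0,5,27,24,0,0,0,0,0,6] (.child 9 965 nd12_694 .none)

/-- A node. -/
def nd12_696 : Tree :=
  .node 451 [0,0,5,11,3,8,0,0,0,3,0,5] (.child 10 1475 nd12_695 .none)

/-- A node. -/
def nd12_697 : Tree :=
  .node 440 [12,0,1,0,0,0,25,0,0,1,0,0] (.child 11 2488 nd12_696 .none)

/-- A node. -/
def nd12_698 : Tree :=
  .node 434 [1,0,13,25,0,0,21,0,0,1,0,12] (.child 10 1458 nd12_697 .none)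

/-- A node. -/
def nd12_699 : Tree :=
  .node 428 [1,13,0,0,9,0,20,0,0,0,1,13] (.child 9 940 nd12_698 .none)

/-- A node. -/
def nd12_700 : Tree :=
  .node 403 [0,0,1,16,0,10,22,0,0,0,16,1] (.child 9 915 nd12_699 .none)

/-- A node. -/
def nd12_701 : Tree :=
  .node 397 [0,0,0,0,14,24,21,0,0,13,0,0] (.child 10 1421 nd12_700 .none)

/-- A node. -/
def nd12_702 : Tree :=
  .node 391 [0,0,0,12,28,11,17,0,0,12,11,0] (.child 11 2439 nd12_701 .none)

/-- A node. -/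
def nd12_703 : Tree :=
  .node 372 [0,8,0,2,0,0,0,16,0,2,0,0] (.child 11 2420 nd12_702 .none)

/-- A node. -/
def nd12_704 : Tree :=
  .node 369 [0,0,26,5,0,0,0,18,0,0,0,6] (.child 10 1393 nd12_703 .none)

/-- A node. -/
def nd12_705 : Tree :=
  .node 355 [0,0,8,2,5,0,0,14,0,0,8,2] (.child 9 867 nd12_704 .none)

/-- A node. -/
def nd12_706 : Tree :=
  .node 348 [9,0,0,0,0,2,0,16,0,0,0,9] (.child 9 860 nd12_705 .none)

/-- A node. -/
def nd12_707 : Tree :=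
  .node 334 [0,0,0,0,26,5,0,12,0,7,0,0] (.child 10 1358 nd12_706 .none)

/-- A node. -/
def nd12_708 : Tree :=
  .node 331 [0,0,6,0,8,20,0,14,0,6,8,0] (.child 11 2379 nd12_707 .none)

/-- A node. -/
def nd12_709 : Tree :=
  .node 316 [0,2,0,0,0,0,28,21,0,0,0,3] (.child 10 1340 nd12_708 .none)

/-- A node. -/
def nd12_710 : Tree :=
  .node 313 [0,0,5,0,0,0,12,12,0,0,6,0] (.child 9 825 nd12_709 .none)

/-- A node. -/
def nd12_711 : Tree :=
  .node 307 [0,0,0,5,0,0,27,17,0,0,2,0] (.child 11 2355 nd12_710 .none)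

/-- A node. -/
def nd12_712 : Tree :=
  .node 310 [1,0,0,0,0,0,7,7,0,0,1,0] (.child 9 822 nd12_711 .none)

/-- A node. -/
def nd12_713 : Tree :=
  .node 302 [0,0,0,0,20,0,6,6,0,1,0,0] (.child 11 2350 nd12_712 .none)

/-- A node. -/
def nd12_714 : Tree :=
  .node 295 [0,0,0,0,16,0,5,5,0,0,0,33] (.child 10 1319 nd12_713 .none)

/-- A node. -/
def nd12_715 : Tree :=
  .node 271 [0,0,0,0,0,13,27,13,0,0,1,0] (.child 9 783 nd12_714 .none)

/-- A node. -/
def nd12_716 : Tree :=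
  .node 285 [0,0,0,0,0,14,6,6,0,15,0,0] (.child 11 2333 nd12_715 .none)

/-- A node. -/
def nd12_717 : Tree :=
  .node 283 [0,0,16,0,0,11,5,5,0,33,0,15] (.child 10 1307 nd12_716 .none)

/-- A node. -/
def nd12_718 : Tree :=
  .node 234 [0,0,1,0,3,0,0,0,1,0,3,0] (.child 11 2282 nd12_717 .none)

/-- A node. -/
def nd12_719 : Tree :=
  .node 233 [0,9,1,0,3,0,0,0,3,0,1,6] (.child 9 745 nd12_718 .none)

/-- A node. -/
def nd12_720 : Tree :=
  .node 230 [0,0,0,6,7,0,0,0,0,9,0,7] (.child 8 486 nd12_719 .none)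

/-- A node. -/
def nd12_721 : Tree :=
  .node 229 [0,8,0,4,9,0,0,0,9,8,0,4] (.child 10 1253 nd12_720 .none)

/-- A node. -/
def nd12_722 : Tree :=
  .node 218 [0,0,11,0,0,1,0,0,0,1,0,10] (.child 10 1242 nd12_721 .none)

/-- A node. -/
def nd12_723 : Tree :=
  .node 217 [0,9,8,0,0,1,0,0,0,8,1,9] (.child 8 473 nd12_722 .none)

/-- A node. -/
def nd12_724 : Tree :=
  .node 186 [0,0,2,0,0,0,13,0,4,0,0,3] (.child 9 698 nd12_723 .none)

/-- A node. -/
def nd12_725 : Tree :=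
  .node 185 [0,3,0,0,0,0,12,0,3,6,0,0] (.child 10 1209 nd12_724 .none)

/-- A node. -/
def nd12_726 : Tree :=
  .node 173 [0,0,0,0,4,0,11,0,2,3,0,0] (.child 11 2221 nd12_725 .none)

/-- A node. -/
def nd12_727 : Tree :=
  .node 174 [1,0,0,0,0,0,10,0,1,2,0,0] (.child 10 1198 nd12_726 .none)

/-- A node. -/
def nd12_728 : Tree :=
  .node 182 [1,0,0,5,0,0,7,0,2,1,6,0] (.child 11 2230 nd12_727 .none)

/-- A node. -/
def nd12_729 : Tree :=
  .node 171 [0,0,0,0,3,0,15,0,0,0,16,3] (.child 8 427 nd12_728 .none)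

/-- A node. -/
def nd12_730 : Tree :=
  .node 167 [0,0,0,22,0,0,14,0,0,0,4,17] (.child 9 679 nd12_729 .none)

/-- A node. -/
def nd12_731 : Tree :=
  .node 181 [0,3,0,0,0,0,5,0,0,0,3,5] (.child 8 437 nd12_730 .none)

/-- A node. -/
def nd12_732 : Tree :=
  .node 157 [0,0,0,0,0,5,4,0,1,0,2,0] (.child 9 669 nd12_731 .none)

/-- A node. -/
def nd12_733 : Tree :=
  .node 155 [0,0,0,0,0,11,11,0,0,17,1,0] (.child 11 2203 nd12_732 .none)

/-- A node. -/
def nd12_734 : Tree :=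
  .node 158 [0,0,0,0,0,3,1,0,0,1,0,14] (.child 8 414 nd12_733 .none)

/-- A node. -/
def nd12_735 : Tree :=
  .node 151 [0,0,0,17,0,9,0,0,16,0,0,1] (.child 10 1175 nd12_734 .none)

/-- A node. -/
def nd12_736 : Tree :=
  .node 214 [0,0,0,1,0,1,0,0,15,0,4,0] (.child 9 726 nd12_735 .none)

/-- A node. -/
def nd12_737 : Tree :=
  .node 213 [0,7,0,0,0,0,0,0,14,6,12,0] (.child 11 2261 nd12_736 .none)

/-- A node. -/
def nd12_738 : Tree :=
  .node 124 [1,0,0,0,0,0,0,0,0,3,2,1] (.child 7 252 nd12_737 .none)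

/-- A node. -/
def nd12_739 : Tree :=
  .node 122 [0,0,1,0,0,0,0,5,0,2,1,0] (.child 8 378 nd12_738 .none)

/-- A node. -/
def nd12_740 : Tree :=
  .node 121 [0,4,2,0,0,0,0,4,2,3,5,0] (.child 11 2169 nd12_739 .none)

/-- A node. -/
def nd12_741 : Tree :=
  .node 118 [2,0,0,0,0,0,0,3,10,0,0,6] (.child 10 1142 nd12_740 .none)

/-- A node. -/
def nd12_742 : Tree :=
  .node 110 [0,0,0,0,6,0,0,10,0,0,3,5] (.child 9 622 nd12_741 .none)

/-- A node. -/
def nd12_743 : Tree :=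
  .node 109 [0,2,0,0,0,0,0,9,0,0,2,4] (.child 8 365 nd12_742 .none)

/-- A node. -/
def nd12_744 : Tree :=
  .node 117 [0,0,0,5,0,0,0,0,7,0,5,3] (.child 9 629 nd12_743 .none)

/-- A node. -/
def nd12_745 : Tree :=
  .node 115 [0,0,2,0,0,0,0,0,6,5,0,2] (.child 7 243 nd12_744 .none)

/-- A node. -/
def nd12_746 : Tree :=
  .node 107 [0,0,1,0,4,0,0,6,0,4,0,1] (.child 8 363 nd12_622 (.child 10 1131 nd12_745 .none))

/-- A node. -/
def nd12_747 : Tree :=
  .node 583 [0,0,0,3,3,0,0,5,4,0,0,0] (.child 10 1607 nd12_746 .none)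

/-- A node. -/
def nd12_748 : Tree :=
  .node 103 [0,0,0,4,3,0,0,4,3,0,0,0] (.child 9 615 nd12_251 (.child 10 1127 nd12_499 (.child 11 2151 nd12_747 .none)))

/-- A node. -/
def nd12_749 : Tree :=
  .node 94 [0,0,0,0,0,4,0,3,2,1,0,0] (.child 11 2142 nd12_748 .none)

/-- A node. -/
def nd12_750 : Tree :=
  .node 93 [0,0,0,0,0,3,0,2,1,0,0,0] (.child 10 1117 nd12_749 .none)

/-- A node. -/
def nd12_751 : Tree :=
  .node 91 [0,0,0,0,0,2,0,1,0,0,0,0] (.child 9 603 nd12_750 .none)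

/-- A node. -/
def nd12_752 : Tree :=
  .node 87 [0,0,0,0,0,1,0,0,0,0,0,0] (.child 8 343 nd12_751 .none)

/-- A node. -/
def nd12_753 : Tree :=
  .node 79 [0,0,0,0,0,0,0,0,0,0,0,0] (.child 7 207 nd12_752 .none)

/-- A node. -/
def nd12_754 : Tree :=
  .node 31 [0,0,0,0,0,0,0,0,0,0,0,0] (.child 5 63 nd12_753 .none)

/-- The case tree. -/
def tree12 : Tree := nd12_754

end CfsgLib.DesignUnique.SmallData
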